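import Cfsg.Agent.Lib.InvClasses.Cert

/-!
The certificate for type F₄.
-/

set_option autoImplicit false
set_option maxRecDepth 100000
set_option Elab.async false

namespace CfsgLib.InvClasses.F4

def node0 (k : ℕ) : Node :=
 (bif Nat.blt k 32 then (bif Nat.blt k 16 then (bif Nat.blt k 8 then (bif Nat.blt k 4 then (bif Nat.blt k 2 then (bif Nat.blt k 1 then (bif Nat.beq k 0 then ⟨[], [], .leaf []⟩ else ⟨[], [], .leaf []⟩)
 else (bif Nat.beq k 1 then ⟨[47], [], .leaf []⟩ else ⟨[], [], .leaf []⟩))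
 else (bif Nat.blt k 3 then (bif Nat.beq k 2 then ⟨[], [47], .split 47 [0, 0, 0, -1] 0 1⟩ else ⟨[], [], .leaf []⟩)
 else (bif Nat.beq k 3 then ⟨[46], [], .leaf [.w 3]⟩ else ⟨[], [], .leaf []⟩)))
 else (bif Nat.blt k 6 then (bif Nat.blt k 5 then (bif Nat.beq k 4 then ⟨[46], [47], .kill 47 24 0 3⟩ else ⟨[], [], .leaf []⟩)
 else (bif Nat.beq k 5 then ⟨[], [46, 47], .split 46 [0, 0, -1, 0] 2 4⟩ else ⟨[], [], .leaf []⟩))
 else (bif Nat.blt k 7 then (bif Nat.beq k 6 then ⟨[45], [], .leaf [.w 2, .w 3]⟩ else ⟨[], [], .leaf []⟩)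
 else (bif Nat.beq k 7 then ⟨[45], [47], .kill 47 26 0 6⟩ else ⟨[], [], .leaf []⟩))))
 else (bif Nat.blt k 12 then (bif Nat.blt k 10 then (bif Nat.blt k 9 then (bif Nat.beq k 8 then ⟨[45], [46, 47], .kill 46 25 0 7⟩ else ⟨[], [], .leaf []⟩)
 else (bif Nat.beq k 9 then ⟨[], [45, 46, 47], .split 45 [0, -1, 0, 0] 5 8⟩ else ⟨[], [], .leaf []⟩))
 else (bif Nat.blt k 11 then (bif Nat.beq k 10 then ⟨[44], [], .leaf []⟩ else ⟨[], [], .leaf []⟩)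
 else (bif Nat.beq k 11 then ⟨[44, 47], [], .leaf []⟩ else ⟨[], [], .leaf []⟩)))
 else (bif Nat.blt k 14 then (bif Nat.blt k 13 then (bif Nat.beq k 12 then ⟨[44], [47], .split 47 [0, 0, 0, -1] 10 11⟩ else ⟨[], [], .leaf []⟩)
 else (bif Nat.beq k 13 then ⟨[44, 46], [], .leaf [.w 3]⟩ else ⟨[], [], .leaf []⟩))
 else (bif Nat.blt k 15 then (bif Nat.beq k 14 then ⟨[44, 46], [47], .kill 47 24 1 13⟩ else ⟨[], [], .leaf []⟩)
 else (bif Nat.beq k 15 then ⟨[44], [46, 47], .split 46 [0, 0, -1, 0] 12 14⟩ else ⟨[], [], .leaf []⟩)))))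
 else (bif Nat.blt k 24 then (bif Nat.blt k 20 then (bif Nat.blt k 18 then (bif Nat.blt k 17 then (bif Nat.beq k 16 then ⟨[44, 45], [], .leaf [.w 2, .w 3]⟩ else ⟨[], [], .leaf []⟩)
 else (bif Nat.beq k 17 then ⟨[44, 45], [47], .kill 47 26 1 16⟩ else ⟨[], [], .leaf []⟩))
 else (bif Nat.blt k 19 then (bif Nat.beq k 18 then ⟨[44, 45], [46, 47], .kill 46 25 1 17⟩ else ⟨[], [], .leaf []⟩)
 else (bif Nat.beq k 19 then ⟨[44], [45, 46, 47], .split 45 [0, -1, 0, 0] 15 18⟩ else ⟨[], [], .leaf []⟩)))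
 else (bif Nat.blt k 22 then (bif Nat.blt k 21 then (bif Nat.beq k 20 then ⟨[], [44, 45, 46, 47], .split 44 [-1, 0, 0, 0] 9 19⟩ else ⟨[], [], .leaf []⟩)
 else (bif Nat.beq k 21 then ⟨[43], [], .leaf [.x 31, .x 16]⟩ else ⟨[], [], .leaf []⟩))
 else (bif Nat.blt k 23 then (bif Nat.beq k 22 then ⟨[43, 45], [], .leaf [.x 20, .w 2, .w 3]⟩ else ⟨[], [], .leaf []⟩)
 else (bif Nat.beq k 23 then ⟨[43], [45], .split 45 [-1, -1, 0, 0] 21 22⟩ else ⟨[], [], .leaf []⟩))))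
 else (bif Nat.blt k 28 then (bif Nat.blt k 26 then (bif Nat.blt k 25 then (bif Nat.beq k 24 then ⟨[43], [45, 47], .kill 47 31 0 23⟩ else ⟨[], [], .leaf []⟩)
 else (bif Nat.beq k 25 then ⟨[43], [45, 46, 47], .kill 46 30 0 24⟩ else ⟨[], [], .leaf []⟩))
 else (bif Nat.blt k 27 then (bif Nat.beq k 26 then ⟨[43], [44, 45, 46, 47], .kill 44 27 0 25⟩ else ⟨[], [], .leaf []⟩)
 else (bif Nat.beq k 27 then ⟨[], [43, 44, 45, 46, 47], .split 43 [-1, 0, 0, 0] 20 26⟩ else ⟨[], [], .leaf []⟩)))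
 else (bif Nat.blt k 30 then (bif Nat.blt k 29 then (bif Nat.beq k 28 then ⟨[42], [], .leaf [.x 32, .x 15]⟩ else ⟨[], [], .leaf []⟩)
 else (bif Nat.beq k 29 then ⟨[42, 46], [], .leaf [.x 19, .w 3]⟩ else ⟨[], [], .leaf []⟩))
 else (bif Nat.blt k 31 then (bif Nat.beq k 30 then ⟨[42], [46], .split 46 [-1, 0, -2, 0] 28 29⟩ else ⟨[], [], .leaf []⟩)
 else (bif Nat.beq k 31 then ⟨[42], [46, 47], .kill 47 32 0 30⟩ else ⟨[], [], .leaf []⟩))))))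
 else (bif Nat.blt k 48 then (bif Nat.blt k 40 then (bif Nat.blt k 36 then (bif Nat.blt k 34 then (bif Nat.blt k 33 then (bif Nat.beq k 32 then ⟨[42], [45, 46, 47], .kill 45 30 0 31⟩ else ⟨[], [], .leaf []⟩)
 else (bif Nat.beq k 33 then ⟨[42], [44, 45, 46, 47], .kill 44 28 0 32⟩ else ⟨[], [], .leaf []⟩))
 else (bif Nat.blt k 35 then (bif Nat.beq k 34 then ⟨[42], [43, 44, 45, 46, 47], .kill 43 25 0 33⟩ else ⟨[], [], .leaf []⟩)
 else (bif Nat.beq k 35 then ⟨[], [42, 43, 44, 45, 46, 47], .split 42 [-1, 0, 0, 0] 27 34⟩ else ⟨[], [], .leaf []⟩)))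
 else (bif Nat.blt k 38 then (bif Nat.blt k 37 then (bif Nat.beq k 36 then ⟨[41], [], .leaf [.x 29, .x 18]⟩ else ⟨[], [], .leaf []⟩)
 else (bif Nat.beq k 37 then ⟨[41, 47], [], .leaf [.x 18]⟩ else ⟨[], [], .leaf []⟩))
 else (bif Nat.blt k 39 then (bif Nat.beq k 38 then ⟨[41], [47], .split 47 [-1, 0, 0, -2] 36 37⟩ else ⟨[], [], .leaf []⟩)
 else (bif Nat.beq k 39 then ⟨[41], [46, 47], .kill 46 32 0 38⟩ else ⟨[], [], .leaf []⟩))))
 else (bif Nat.blt k 44 then (bif Nat.blt k 42 then (bif Nat.blt k 41 then (bif Nat.beq k 40 then ⟨[41], [45, 46, 47], .kill 45 31 0 39⟩ else ⟨[], [], .leaf []⟩)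
 else (bif Nat.beq k 41 then ⟨[41], [44, 45, 46, 47], .kill 44 29 0 40⟩ else ⟨[], [], .leaf []⟩))
 else (bif Nat.blt k 43 then (bif Nat.beq k 42 then ⟨[41], [43, 44, 45, 46, 47], .kill 43 26 0 41⟩ else ⟨[], [], .leaf []⟩)
 else (bif Nat.beq k 43 then ⟨[41], [42, 43, 44, 45, 46, 47], .kill 42 24 0 42⟩ else ⟨[], [], .leaf []⟩)))
 else (bif Nat.blt k 46 then (bif Nat.blt k 45 then (bif Nat.beq k 44 then ⟨[], [41, 42, 43, 44, 45, 46, 47], .split 41 [-1, 0, 0, 0] 35 43⟩ else ⟨[], [], .leaf []⟩)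
 else (bif Nat.beq k 45 then ⟨[40], [], .leaf [.w 0]⟩ else ⟨[], [], .leaf []⟩))
 else (bif Nat.blt k 47 then (bif Nat.beq k 46 then ⟨[40, 47], [], .leaf [.w 0]⟩ else ⟨[], [], .leaf []⟩)
 else (bif Nat.beq k 47 then ⟨[40], [47], .split 47 [0, 0, 0, -1] 45 46⟩ else ⟨[], [], .leaf []⟩)))))
 else (bif Nat.blt k 56 then (bif Nat.blt k 52 then (bif Nat.blt k 50 then (bif Nat.blt k 49 then (bif Nat.beq k 48 then ⟨[40, 46], [], .leaf [.w 3, .w 0]⟩ else ⟨[], [], .leaf []⟩)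
 else (bif Nat.beq k 49 then ⟨[40, 46], [47], .kill 47 24 1 48⟩ else ⟨[], [], .leaf []⟩))
 else (bif Nat.blt k 51 then (bif Nat.beq k 50 then ⟨[40], [46, 47], .split 46 [0, 0, -1, 0] 47 49⟩ else ⟨[], [], .leaf []⟩)
 else (bif Nat.beq k 51 then ⟨[40, 45], [], .leaf [.w 2, .w 3, .w 0]⟩ else ⟨[], [], .leaf []⟩)))
 else (bif Nat.blt k 54 then (bif Nat.blt k 53 then (bif Nat.beq k 52 then ⟨[40, 45], [47], .kill 47 26 1 51⟩ else ⟨[], [], .leaf []⟩)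
 else (bif Nat.beq k 53 then ⟨[40, 45], [46, 47], .kill 46 25 1 52⟩ else ⟨[], [], .leaf []⟩))
 else (bif Nat.blt k 55 then (bif Nat.beq k 54 then ⟨[40], [45, 46, 47], .split 45 [0, 0, -1, 0] 50 53⟩ else ⟨[], [], .leaf []⟩)
 else (bif Nat.beq k 55 then ⟨[40, 43], [], .leaf [.w 1]⟩ else ⟨[], [], .leaf []⟩))))
 else (bif Nat.blt k 60 then (bif Nat.blt k 58 then (bif Nat.blt k 57 then (bif Nat.beq k 56 then ⟨[40, 43, 45], [], .leaf [.x 33, .x 27, .w 1]⟩ else ⟨[], [], .leaf []⟩)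
 else (bif Nat.beq k 57 then ⟨[40, 43], [45], .split 45 [-1, -1, 0, 0] 55 56⟩ else ⟨[], [], .leaf []⟩))
 else (bif Nat.blt k 59 then (bif Nat.beq k 58 then ⟨[40, 43], [45, 47], .kill 47 31 1 57⟩ else ⟨[], [], .leaf []⟩)
 else (bif Nat.beq k 59 then ⟨[40, 43], [45, 46, 47], .kill 46 30 1 58⟩ else ⟨[], [], .leaf []⟩)))
 else (bif Nat.blt k 62 then (bif Nat.blt k 61 then (bif Nat.beq k 60 then ⟨[40], [43, 45, 46, 47], .split 43 [0, 0, -1, 0] 54 59⟩ else ⟨[], [], .leaf []⟩)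
 else (bif Nat.beq k 61 then ⟨[40, 42], [], .leaf [.w 2, .w 1]⟩ else ⟨[], [], .leaf []⟩))
 else (bif Nat.blt k 63 then (bif Nat.beq k 62 then ⟨[40, 42, 46], [], .leaf [.x 33, .x 28, .w 2, .w 1]⟩ else ⟨[], [], .leaf []⟩)
 else (bif Nat.beq k 63 then ⟨[40, 42], [46], .split 46 [-1, -1, -2, 0] 61 62⟩ else ⟨[], [], .leaf []⟩)))))))

def node64 (k : ℕ) : Node :=
 (bif Nat.blt k 96 then (bif Nat.blt k 80 then (bif Nat.blt k 72 then (bif Nat.blt k 68 then (bif Nat.blt k 66 then (bif Nat.blt k 65 then (bif Nat.beq k 64 then ⟨[40, 42], [46, 47], .kill 47 32 1 63⟩ else ⟨[], [], .leaf []⟩)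
 else (bif Nat.beq k 65 then ⟨[40, 42], [45, 46, 47], .kill 45 30 1 64⟩ else ⟨[], [], .leaf []⟩))
 else (bif Nat.blt k 67 then (bif Nat.beq k 66 then ⟨[40, 42], [43, 45, 46, 47], .kill 43 25 1 65⟩ else ⟨[], [], .leaf []⟩)
 else (bif Nat.beq k 67 then ⟨[40], [42, 43, 45, 46, 47], .split 42 [0, 0, -1, 0] 60 66⟩ else ⟨[], [], .leaf []⟩)))
 else (bif Nat.blt k 70 then (bif Nat.blt k 69 then (bif Nat.beq k 68 then ⟨[40, 41], [], .leaf [.w 3, .w 2, .w 1]⟩ else ⟨[], [], .leaf []⟩)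
 else (bif Nat.beq k 69 then ⟨[40, 41, 47], [], .leaf [.x 33, .x 29, .w 3, .w 2, .w 1]⟩ else ⟨[], [], .leaf []⟩))
 else (bif Nat.blt k 71 then (bif Nat.beq k 70 then ⟨[40, 41], [47], .split 47 [-1, -1, 0, -2] 68 69⟩ else ⟨[], [], .leaf []⟩)
 else (bif Nat.beq k 71 then ⟨[40, 41], [46, 47], .kill 46 32 1 70⟩ else ⟨[], [], .leaf []⟩))))
 else (bif Nat.blt k 76 then (bif Nat.blt k 74 then (bif Nat.blt k 73 then (bif Nat.beq k 72 then ⟨[40, 41], [45, 46, 47], .kill 45 31 1 71⟩ else ⟨[], [], .leaf []⟩)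
 else (bif Nat.beq k 73 then ⟨[40, 41], [43, 45, 46, 47], .kill 43 26 1 72⟩ else ⟨[], [], .leaf []⟩))
 else (bif Nat.blt k 75 then (bif Nat.beq k 74 then ⟨[40, 41], [42, 43, 45, 46, 47], .kill 42 24 1 73⟩ else ⟨[], [], .leaf []⟩)
 else (bif Nat.beq k 75 then ⟨[40], [41, 42, 43, 45, 46, 47], .split 41 [0, 0, 0, -1] 67 74⟩ else ⟨[], [], .leaf []⟩)))
 else (bif Nat.blt k 78 then (bif Nat.blt k 77 then (bif Nat.beq k 76 then ⟨[40], [41, 42, 43, 44, 45, 46, 47], .kill 44 33 0 75⟩ else ⟨[], [], .leaf []⟩)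
 else (bif Nat.beq k 77 then ⟨[], [40, 41, 42, 43, 44, 45, 46, 47], .split 40 [-1, 0, 0, 0] 44 76⟩ else ⟨[], [], .leaf []⟩))
 else (bif Nat.blt k 79 then (bif Nat.beq k 78 then ⟨[39], [], .leaf [.w 1, .w 0]⟩ else ⟨[], [], .leaf []⟩)
 else (bif Nat.beq k 79 then ⟨[39, 47], [], .leaf [.w 1, .w 0]⟩ else ⟨[], [], .leaf []⟩)))))
 else (bif Nat.blt k 88 then (bif Nat.blt k 84 then (bif Nat.blt k 82 then (bif Nat.blt k 81 then (bif Nat.beq k 80 then ⟨[39], [47], .split 47 [0, 0, 0, -1] 78 79⟩ else ⟨[], [], .leaf []⟩)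
 else (bif Nat.beq k 81 then ⟨[39, 46], [], .leaf [.w 3, .w 1, .w 0]⟩ else ⟨[], [], .leaf []⟩))
 else (bif Nat.blt k 83 then (bif Nat.beq k 82 then ⟨[39, 46], [47], .kill 47 24 1 81⟩ else ⟨[], [], .leaf []⟩)
 else (bif Nat.beq k 83 then ⟨[39], [46, 47], .split 46 [0, 0, 0, -1] 80 82⟩ else ⟨[], [], .leaf []⟩)))
 else (bif Nat.blt k 86 then (bif Nat.blt k 85 then (bif Nat.beq k 84 then ⟨[39, 45], [], .leaf []⟩ else ⟨[], [], .leaf []⟩)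
 else (bif Nat.beq k 85 then ⟨[39, 45], [47], .kill 47 26 1 84⟩ else ⟨[], [], .leaf []⟩))
 else (bif Nat.blt k 87 then (bif Nat.beq k 86 then ⟨[39, 45], [46, 47], .kill 46 25 1 85⟩ else ⟨[], [], .leaf []⟩)
 else (bif Nat.beq k 87 then ⟨[39], [45, 46, 47], .split 45 [0, -1, -1, 0] 83 86⟩ else ⟨[], [], .leaf []⟩))))
 else (bif Nat.blt k 92 then (bif Nat.blt k 90 then (bif Nat.blt k 89 then (bif Nat.beq k 88 then ⟨[39, 43], [], .leaf [.x 31, .x 16, .w 1, .w 0]⟩ else ⟨[], [], .leaf []⟩)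
 else (bif Nat.beq k 89 then ⟨[39, 43, 45], [], .leaf [.x 34, .x 20]⟩ else ⟨[], [], .leaf []⟩))
 else (bif Nat.blt k 91 then (bif Nat.beq k 90 then ⟨[39, 43], [45], .split 45 [-1, -2, -2, 0] 88 89⟩ else ⟨[], [], .leaf []⟩)
 else (bif Nat.beq k 91 then ⟨[39, 43], [45, 47], .kill 47 31 1 90⟩ else ⟨[], [], .leaf []⟩)))
 else (bif Nat.blt k 94 then (bif Nat.blt k 93 then (bif Nat.beq k 92 then ⟨[39, 43], [45, 46, 47], .kill 46 30 1 91⟩ else ⟨[], [], .leaf []⟩)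
 else (bif Nat.beq k 93 then ⟨[39], [43, 45, 46, 47], .split 43 [-1, 0, 0, 0] 87 92⟩ else ⟨[], [], .leaf []⟩))
 else (bif Nat.blt k 95 then (bif Nat.beq k 94 then ⟨[39, 42], [], .leaf [.x 30, .x 17]⟩ else ⟨[], [], .leaf []⟩)
 else (bif Nat.beq k 95 then ⟨[39, 42, 46], [], .leaf [.x 34, .x 30, .x 28, .x 17]⟩ else ⟨[], [], .leaf []⟩))))))
 else (bif Nat.blt k 112 then (bif Nat.blt k 104 then (bif Nat.blt k 100 then (bif Nat.blt k 98 then (bif Nat.blt k 97 then (bif Nat.beq k 96 then ⟨[39, 42], [46], .split 46 [-1, 0, 0, 2] 94 95⟩ else ⟨[], [], .leaf []⟩)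
 else (bif Nat.beq k 97 then ⟨[39, 42], [46, 47], .kill 47 32 1 96⟩ else ⟨[], [], .leaf []⟩))
 else (bif Nat.blt k 99 then (bif Nat.beq k 98 then ⟨[39, 42], [45, 46, 47], .kill 45 30 1 97⟩ else ⟨[], [], .leaf []⟩)
 else (bif Nat.beq k 99 then ⟨[39, 42], [43, 45, 46, 47], .kill 43 25 1 98⟩ else ⟨[], [], .leaf []⟩)))
 else (bif Nat.blt k 102 then (bif Nat.blt k 101 then (bif Nat.beq k 100 then ⟨[39], [42, 43, 45, 46, 47], .split 42 [-1, 0, 0, 0] 93 99⟩ else ⟨[], [], .leaf []⟩)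
 else (bif Nat.beq k 101 then ⟨[39, 41], [], .leaf [.x 31, .x 16]⟩ else ⟨[], [], .leaf []⟩))
 else (bif Nat.blt k 103 then (bif Nat.beq k 102 then ⟨[39, 41, 47], [], .leaf [.x 34, .x 31, .x 29, .x 16]⟩ else ⟨[], [], .leaf []⟩)
 else (bif Nat.beq k 103 then ⟨[39, 41], [47], .split 47 [-1, 0, 0, -2] 101 102⟩ else ⟨[], [], .leaf []⟩))))
 else (bif Nat.blt k 108 then (bif Nat.blt k 106 then (bif Nat.blt k 105 then (bif Nat.beq k 104 then ⟨[39, 41], [46, 47], .kill 46 32 1 103⟩ else ⟨[], [], .leaf []⟩)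
 else (bif Nat.beq k 105 then ⟨[39, 41], [45, 46, 47], .kill 45 31 1 104⟩ else ⟨[], [], .leaf []⟩))
 else (bif Nat.blt k 107 then (bif Nat.beq k 106 then ⟨[39, 41], [43, 45, 46, 47], .kill 43 26 1 105⟩ else ⟨[], [], .leaf []⟩)
 else (bif Nat.beq k 107 then ⟨[39, 41], [42, 43, 45, 46, 47], .kill 42 24 1 106⟩ else ⟨[], [], .leaf []⟩)))
 else (bif Nat.blt k 110 then (bif Nat.blt k 109 then (bif Nat.beq k 108 then ⟨[39], [41, 42, 43, 45, 46, 47], .split 41 [-1, 0, 0, 0] 100 107⟩ else ⟨[], [], .leaf []⟩)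
 else (bif Nat.beq k 109 then ⟨[39], [41, 42, 43, 44, 45, 46, 47], .kill 44 34 0 108⟩ else ⟨[], [], .leaf []⟩))
 else (bif Nat.blt k 111 then (bif Nat.beq k 110 then ⟨[39], [40, 41, 42, 43, 44, 45, 46, 47], .kill 40 27 0 109⟩ else ⟨[], [], .leaf []⟩)
 else (bif Nat.beq k 111 then ⟨[], [39, 40, 41, 42, 43, 44, 45, 46, 47], .split 39 [0, -1, 0, 0] 77 110⟩ else ⟨[], [], .leaf []⟩)))))
 else (bif Nat.blt k 120 then (bif Nat.blt k 116 then (bif Nat.blt k 114 then (bif Nat.blt k 113 then (bif Nat.beq k 112 then ⟨[38], [], .leaf [.x 35, .x 12]⟩ else ⟨[], [], .leaf []⟩)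
 else (bif Nat.beq k 113 then ⟨[38, 47], [], .leaf [.x 35, .x 12]⟩ else ⟨[], [], .leaf []⟩))
 else (bif Nat.blt k 115 then (bif Nat.beq k 114 then ⟨[38], [47], .split 47 [0, -1, 0, 1] 112 113⟩ else ⟨[], [], .leaf []⟩)
 else (bif Nat.beq k 115 then ⟨[38, 46], [], .leaf [.w 2]⟩ else ⟨[], [], .leaf []⟩)))
 else (bif Nat.blt k 118 then (bif Nat.blt k 117 then (bif Nat.beq k 116 then ⟨[38, 46], [47], .kill 47 24 1 115⟩ else ⟨[], [], .leaf []⟩)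
 else (bif Nat.beq k 117 then ⟨[38], [46, 47], .split 46 [0, -1, -1, 0] 114 116⟩ else ⟨[], [], .leaf []⟩))
 else (bif Nat.blt k 119 then (bif Nat.beq k 118 then ⟨[38, 45], [], .leaf [.w 2, .w 3, .w 1, .w 0]⟩ else ⟨[], [], .leaf []⟩)
 else (bif Nat.beq k 119 then ⟨[38, 45, 46], [], .leaf [.x 22, .w 2]⟩ else ⟨[], [], .leaf []⟩))))
 else (bif Nat.blt k 124 then (bif Nat.blt k 122 then (bif Nat.blt k 121 then (bif Nat.beq k 120 then ⟨[38, 45], [46], .split 46 [0, -1, -2, -1] 118 119⟩ else ⟨[], [], .leaf []⟩)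
 else (bif Nat.beq k 121 then ⟨[38, 45], [46, 47], .kill 47 26 1 120⟩ else ⟨[], [], .leaf []⟩))
 else (bif Nat.blt k 123 then (bif Nat.beq k 122 then ⟨[38], [45, 46, 47], .split 45 [0, -1, -1, 0] 117 121⟩ else ⟨[], [], .leaf []⟩)
 else (bif Nat.beq k 123 then ⟨[38, 43], [], .leaf [.x 28, .x 19, .w 1]⟩ else ⟨[], [], .leaf []⟩)))
 else (bif Nat.blt k 126 then (bif Nat.blt k 125 then (bif Nat.beq k 124 then ⟨[38, 43, 45], [], .leaf [.x 35, .x 28, .x 27, .x 19, .w 1]⟩ else ⟨[], [], .leaf []⟩)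
 else (bif Nat.beq k 125 then ⟨[38, 43], [45], .split 45 [-1, -1, 0, 1] 123 124⟩ else ⟨[], [], .leaf []⟩))
 else (bif Nat.blt k 127 then (bif Nat.beq k 126 then ⟨[38, 43], [45, 47], .kill 47 31 1 125⟩ else ⟨[], [], .leaf []⟩)
 else (bif Nat.beq k 127 then ⟨[38, 43], [45, 46, 47], .kill 46 30 1 126⟩ else ⟨[], [], .leaf []⟩)))))))

def node128 (k : ℕ) : Node :=
 (bif Nat.blt k 160 then (bif Nat.blt k 144 then (bif Nat.blt k 136 then (bif Nat.blt k 132 then (bif Nat.blt k 130 then (bif Nat.blt k 129 then (bif Nat.beq k 128 then ⟨[38], [43, 45, 46, 47], .split 43 [-1, 0, 0, 0] 122 127⟩ else ⟨[], [], .leaf []⟩)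
 else (bif Nat.beq k 129 then ⟨[38, 42], [], .leaf [.x 28, .x 19, .w 3, .w 0]⟩ else ⟨[], [], .leaf []⟩))
 else (bif Nat.blt k 131 then (bif Nat.beq k 130 then ⟨[38, 42, 46], [], .leaf [.x 35, .x 19, .w 2]⟩ else ⟨[], [], .leaf []⟩)
 else (bif Nat.beq k 131 then ⟨[38, 42], [46], .split 46 [-1, -2, -2, 0] 129 130⟩ else ⟨[], [], .leaf []⟩)))
 else (bif Nat.blt k 134 then (bif Nat.blt k 133 then (bif Nat.beq k 132 then ⟨[38, 42, 43], [], .leaf [.x 22, .x 28, .x 19, .w 1]⟩ else ⟨[], [], .leaf []⟩)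
 else (bif Nat.beq k 133 then ⟨[38, 42, 43, 46], [], .leaf [.x 35, .x 19, .x 17, .w 2]⟩ else ⟨[], [], .leaf []⟩))
 else (bif Nat.blt k 135 then (bif Nat.beq k 134 then ⟨[38, 42, 43], [46], .split 46 [-1, -2, -2, 0] 132 133⟩ else ⟨[], [], .leaf []⟩)
 else (bif Nat.beq k 135 then ⟨[38, 42], [43, 46], .split 43 [0, 0, -1, -1] 131 134⟩ else ⟨[], [], .leaf []⟩))))
 else (bif Nat.blt k 140 then (bif Nat.blt k 138 then (bif Nat.blt k 137 then (bif Nat.beq k 136 then ⟨[38, 42], [43, 46, 47], .kill 47 32 1 135⟩ else ⟨[], [], .leaf []⟩)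
 else (bif Nat.beq k 137 then ⟨[38, 42], [43, 45, 46, 47], .kill 45 30 1 136⟩ else ⟨[], [], .leaf []⟩))
 else (bif Nat.blt k 139 then (bif Nat.beq k 138 then ⟨[38], [42, 43, 45, 46, 47], .split 42 [-1, 0, 0, 0] 128 137⟩ else ⟨[], [], .leaf []⟩)
 else (bif Nat.beq k 139 then ⟨[38, 41], [], .leaf [.x 32, .x 15, .w 2]⟩ else ⟨[], [], .leaf []⟩)))
 else (bif Nat.blt k 142 then (bif Nat.blt k 141 then (bif Nat.beq k 140 then ⟨[38, 41, 47], [], .leaf [.x 35, .x 32, .x 29, .x 15, .w 2]⟩ else ⟨[], [], .leaf []⟩)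
 else (bif Nat.beq k 141 then ⟨[38, 41], [47], .split 47 [-1, 0, -2, -2] 139 140⟩ else ⟨[], [], .leaf []⟩))
 else (bif Nat.blt k 143 then (bif Nat.beq k 142 then ⟨[38, 41], [46, 47], .kill 46 32 1 141⟩ else ⟨[], [], .leaf []⟩)
 else (bif Nat.beq k 143 then ⟨[38, 41], [45, 46, 47], .kill 45 31 1 142⟩ else ⟨[], [], .leaf []⟩)))))
 else (bif Nat.blt k 152 then (bif Nat.blt k 148 then (bif Nat.blt k 146 then (bif Nat.blt k 145 then (bif Nat.beq k 144 then ⟨[38, 41], [43, 45, 46, 47], .kill 43 26 1 143⟩ else ⟨[], [], .leaf []⟩)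
 else (bif Nat.beq k 145 then ⟨[38, 41], [42, 43, 45, 46, 47], .kill 42 24 1 144⟩ else ⟨[], [], .leaf []⟩))
 else (bif Nat.blt k 147 then (bif Nat.beq k 146 then ⟨[38], [41, 42, 43, 45, 46, 47], .split 41 [-1, 0, 0, 0] 138 145⟩ else ⟨[], [], .leaf []⟩)
 else (bif Nat.beq k 147 then ⟨[38], [41, 42, 43, 44, 45, 46, 47], .kill 44 35 0 146⟩ else ⟨[], [], .leaf []⟩)))
 else (bif Nat.blt k 150 then (bif Nat.blt k 149 then (bif Nat.beq k 148 then ⟨[38], [40, 41, 42, 43, 44, 45, 46, 47], .kill 40 28 0 147⟩ else ⟨[], [], .leaf []⟩)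
 else (bif Nat.beq k 149 then ⟨[38], [39, 40, 41, 42, 43, 44, 45, 46, 47], .kill 39 25 0 148⟩ else ⟨[], [], .leaf []⟩))
 else (bif Nat.blt k 151 then (bif Nat.beq k 150 then ⟨[], [38, 39, 40, 41, 42, 43, 44, 45, 46, 47], .split 38 [0, -1, 0, 0] 111 149⟩ else ⟨[], [], .leaf []⟩)
 else (bif Nat.beq k 151 then ⟨[37], [], .leaf [.x 36, .x 11]⟩ else ⟨[], [], .leaf []⟩))))
 else (bif Nat.blt k 156 then (bif Nat.blt k 154 then (bif Nat.blt k 153 then (bif Nat.beq k 152 then ⟨[37, 47], [], .leaf [.w 3, .w 2]⟩ else ⟨[], [], .leaf []⟩)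
 else (bif Nat.beq k 153 then ⟨[37], [47], .split 47 [0, -1, 0, -1] 151 152⟩ else ⟨[], [], .leaf []⟩))
 else (bif Nat.blt k 155 then (bif Nat.beq k 154 then ⟨[37, 46], [], .leaf [.x 36, .x 11, .w 3]⟩ else ⟨[], [], .leaf []⟩)
 else (bif Nat.beq k 155 then ⟨[37, 46, 47], [], .leaf [.x 23, .w 3, .w 2]⟩ else ⟨[], [], .leaf []⟩)))
 else (bif Nat.blt k 158 then (bif Nat.blt k 157 then (bif Nat.beq k 156 then ⟨[37, 46], [47], .split 47 [0, -1, -1, -1] 154 155⟩ else ⟨[], [], .leaf []⟩)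
 else (bif Nat.beq k 157 then ⟨[37], [46, 47], .split 46 [0, 0, -1, 0] 153 156⟩ else ⟨[], [], .leaf []⟩))
 else (bif Nat.blt k 159 then (bif Nat.beq k 158 then ⟨[37, 45], [], .leaf [.x 26, .x 21, .w 1, .w 0]⟩ else ⟨[], [], .leaf []⟩)
 else (bif Nat.beq k 159 then ⟨[37, 45, 47], [], .leaf [.x 26, .x 21]⟩ else ⟨[], [], .leaf []⟩))))))
 else (bif Nat.blt k 176 then (bif Nat.blt k 168 then (bif Nat.blt k 164 then (bif Nat.blt k 162 then (bif Nat.blt k 161 then (bif Nat.beq k 160 then ⟨[37, 45], [47], .split 47 [0, -1, -2, -1] 158 159⟩ else ⟨[], [], .leaf []⟩)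
 else (bif Nat.beq k 161 then ⟨[37, 45], [46, 47], .kill 46 25 1 160⟩ else ⟨[], [], .leaf []⟩))
 else (bif Nat.blt k 163 then (bif Nat.beq k 162 then ⟨[37], [45, 46, 47], .split 45 [0, 0, -1, 0] 157 161⟩ else ⟨[], [], .leaf []⟩)
 else (bif Nat.beq k 163 then ⟨[37, 43], [], .leaf [.x 29, .x 18, .w 1]⟩ else ⟨[], [], .leaf []⟩)))
 else (bif Nat.blt k 166 then (bif Nat.blt k 165 then (bif Nat.beq k 164 then ⟨[37, 43, 45], [], .leaf [.x 36, .x 29, .x 27, .x 18, .w 1]⟩ else ⟨[], [], .leaf []⟩)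
 else (bif Nat.beq k 165 then ⟨[37, 43], [45], .split 45 [-1, -1, 0, -1] 163 164⟩ else ⟨[], [], .leaf []⟩))
 else (bif Nat.blt k 167 then (bif Nat.beq k 166 then ⟨[37, 43], [45, 47], .kill 47 31 1 165⟩ else ⟨[], [], .leaf []⟩)
 else (bif Nat.beq k 167 then ⟨[37, 43], [45, 46, 47], .kill 46 30 1 166⟩ else ⟨[], [], .leaf []⟩))))
 else (bif Nat.blt k 172 then (bif Nat.blt k 170 then (bif Nat.blt k 169 then (bif Nat.beq k 168 then ⟨[37], [43, 45, 46, 47], .split 43 [-1, 0, 0, 0] 162 167⟩ else ⟨[], [], .leaf []⟩)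
 else (bif Nat.beq k 169 then ⟨[37, 42], [], .leaf [.x 29, .x 18, .w 2, .w 1]⟩ else ⟨[], [], .leaf []⟩))
 else (bif Nat.blt k 171 then (bif Nat.beq k 170 then ⟨[37, 42, 46], [], .leaf [.x 36, .x 29, .x 28, .x 18, .w 2, .w 1]⟩ else ⟨[], [], .leaf []⟩)
 else (bif Nat.beq k 171 then ⟨[37, 42], [46], .split 46 [-1, 0, -2, 0] 169 170⟩ else ⟨[], [], .leaf []⟩)))
 else (bif Nat.blt k 174 then (bif Nat.blt k 173 then (bif Nat.beq k 172 then ⟨[37, 42], [46, 47], .kill 47 32 1 171⟩ else ⟨[], [], .leaf []⟩)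
 else (bif Nat.beq k 173 then ⟨[37, 42], [45, 46, 47], .kill 45 30 1 172⟩ else ⟨[], [], .leaf []⟩))
 else (bif Nat.blt k 175 then (bif Nat.beq k 174 then ⟨[37, 42], [43, 45, 46, 47], .kill 43 25 1 173⟩ else ⟨[], [], .leaf []⟩)
 else (bif Nat.beq k 175 then ⟨[37], [42, 43, 45, 46, 47], .split 42 [-1, 0, 0, 0] 168 174⟩ else ⟨[], [], .leaf []⟩)))))
 else (bif Nat.blt k 184 then (bif Nat.blt k 180 then (bif Nat.blt k 178 then (bif Nat.blt k 177 then (bif Nat.beq k 176 then ⟨[37, 41], [], .leaf [.x 29, .x 18, .w 0]⟩ else ⟨[], [], .leaf []⟩)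
 else (bif Nat.beq k 177 then ⟨[37, 41, 47], [], .leaf [.x 36, .x 18, .w 3, .w 2]⟩ else ⟨[], [], .leaf []⟩))
 else (bif Nat.blt k 179 then (bif Nat.beq k 178 then ⟨[37, 41], [47], .split 47 [-1, -2, 0, -2] 176 177⟩ else ⟨[], [], .leaf []⟩)
 else (bif Nat.beq k 179 then ⟨[37, 41, 43], [], .leaf [.x 21, .x 29, .x 18, .w 1]⟩ else ⟨[], [], .leaf []⟩)))
 else (bif Nat.blt k 182 then (bif Nat.blt k 181 then (bif Nat.beq k 180 then ⟨[37, 41, 43, 47], [], .leaf [.x 36, .x 29, .x 21, .x 18, .w 1]⟩ else ⟨[], [], .leaf []⟩)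
 else (bif Nat.beq k 181 then ⟨[37, 41, 43], [47], .split 47 [-1, -2, -2, -2] 179 180⟩ else ⟨[], [], .leaf []⟩))
 else (bif Nat.blt k 183 then (bif Nat.beq k 182 then ⟨[37, 41], [43, 47], .split 43 [0, 0, -1, 0] 178 181⟩ else ⟨[], [], .leaf []⟩)
 else (bif Nat.beq k 183 then ⟨[37, 41, 42], [], .leaf [.x 23, .x 29, .x 18, .w 2, .w 1]⟩ else ⟨[], [], .leaf []⟩))))
 else (bif Nat.blt k 188 then (bif Nat.blt k 186 then (bif Nat.blt k 185 then (bif Nat.beq k 184 then ⟨[37, 41, 42, 47], [], .leaf [.x 36, .x 18, .x 15, .w 3, .w 2]⟩ else ⟨[], [], .leaf []⟩)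
 else (bif Nat.beq k 185 then ⟨[37, 41, 42], [47], .split 47 [-1, -2, -4, -2] 183 184⟩ else ⟨[], [], .leaf []⟩))
 else (bif Nat.blt k 187 then (bif Nat.beq k 186 then ⟨[37, 41, 42], [43, 47], .kill 43 25 2 185⟩ else ⟨[], [], .leaf []⟩)
 else (bif Nat.beq k 187 then ⟨[37, 41], [42, 43, 47], .split 42 [0, 0, -1, 0] 182 186⟩ else ⟨[], [], .leaf []⟩)))
 else (bif Nat.blt k 190 then (bif Nat.blt k 189 then (bif Nat.beq k 188 then ⟨[37, 41], [42, 43, 46, 47], .kill 46 32 1 187⟩ else ⟨[], [], .leaf []⟩)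
 else (bif Nat.beq k 189 then ⟨[37, 41], [42, 43, 45, 46, 47], .kill 45 31 1 188⟩ else ⟨[], [], .leaf []⟩))
 else (bif Nat.blt k 191 then (bif Nat.beq k 190 then ⟨[37], [41, 42, 43, 45, 46, 47], .split 41 [-1, 0, 0, 0] 175 189⟩ else ⟨[], [], .leaf []⟩)
 else (bif Nat.beq k 191 then ⟨[37], [41, 42, 43, 44, 45, 46, 47], .kill 44 36 0 190⟩ else ⟨[], [], .leaf []⟩)))))))

def node192 (k : ℕ) : Node :=
 (bif Nat.blt k 224 then (bif Nat.blt k 208 then (bif Nat.blt k 200 then (bif Nat.blt k 196 then (bif Nat.blt k 194 then (bif Nat.blt k 193 then (bif Nat.beq k 192 then ⟨[37], [40, 41, 42, 43, 44, 45, 46, 47], .kill 40 29 0 191⟩ else ⟨[], [], .leaf []⟩)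
 else (bif Nat.beq k 193 then ⟨[37], [39, 40, 41, 42, 43, 44, 45, 46, 47], .kill 39 26 0 192⟩ else ⟨[], [], .leaf []⟩))
 else (bif Nat.blt k 195 then (bif Nat.beq k 194 then ⟨[37], [38, 39, 40, 41, 42, 43, 44, 45, 46, 47], .kill 38 24 0 193⟩ else ⟨[], [], .leaf []⟩)
 else (bif Nat.beq k 195 then ⟨[], [37, 38, 39, 40, 41, 42, 43, 44, 45, 46, 47], .split 37 [0, -1, 0, 0] 150 194⟩ else ⟨[], [], .leaf []⟩)))
 else (bif Nat.blt k 198 then (bif Nat.blt k 197 then (bif Nat.beq k 196 then ⟨[36], [], .leaf [.x 37, .x 10]⟩ else ⟨[], [], .leaf []⟩)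
 else (bif Nat.beq k 197 then ⟨[36, 47], [], .leaf [.x 37, .x 10]⟩ else ⟨[], [], .leaf []⟩))
 else (bif Nat.blt k 199 then (bif Nat.beq k 198 then ⟨[36], [47], .split 47 [-1, 0, 0, 1] 196 197⟩ else ⟨[], [], .leaf []⟩)
 else (bif Nat.beq k 199 then ⟨[36, 46], [], .leaf [.w 1, .w 2]⟩ else ⟨[], [], .leaf []⟩))))
 else (bif Nat.blt k 204 then (bif Nat.blt k 202 then (bif Nat.blt k 201 then (bif Nat.beq k 200 then ⟨[36, 46], [47], .kill 47 24 1 199⟩ else ⟨[], [], .leaf []⟩)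
 else (bif Nat.beq k 201 then ⟨[36], [46, 47], .split 46 [0, 0, -1, 0] 198 200⟩ else ⟨[], [], .leaf []⟩))
 else (bif Nat.blt k 203 then (bif Nat.beq k 202 then ⟨[36, 45], [], .leaf [.x 28, .x 19]⟩ else ⟨[], [], .leaf []⟩)
 else (bif Nat.beq k 203 then ⟨[36, 45], [47], .kill 47 26 1 202⟩ else ⟨[], [], .leaf []⟩)))
 else (bif Nat.blt k 206 then (bif Nat.blt k 205 then (bif Nat.beq k 204 then ⟨[36, 45], [46, 47], .kill 46 25 1 203⟩ else ⟨[], [], .leaf []⟩)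
 else (bif Nat.beq k 205 then ⟨[36], [45, 46, 47], .split 45 [0, 0, -1, 0] 201 204⟩ else ⟨[], [], .leaf []⟩))
 else (bif Nat.blt k 207 then (bif Nat.beq k 206 then ⟨[36, 43], [], .leaf [.x 30, .x 17, .w 3, .w 0]⟩ else ⟨[], [], .leaf []⟩)
 else (bif Nat.beq k 207 then ⟨[36, 43, 46], [], .leaf [.x 30, .x 17, .w 1]⟩ else ⟨[], [], .leaf []⟩)))))
 else (bif Nat.blt k 216 then (bif Nat.blt k 212 then (bif Nat.blt k 210 then (bif Nat.blt k 209 then (bif Nat.beq k 208 then ⟨[36, 43], [46], .split 46 [-1, 0, 2, 1] 206 207⟩ else ⟨[], [], .leaf []⟩)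
 else (bif Nat.beq k 209 then ⟨[36, 43, 45], [], .leaf [.x 37, .x 28, .x 20, .x 19]⟩ else ⟨[], [], .leaf []⟩))
 else (bif Nat.blt k 211 then (bif Nat.beq k 210 then ⟨[36, 43, 45], [46], .kill 46 25 2 209⟩ else ⟨[], [], .leaf []⟩)
 else (bif Nat.beq k 211 then ⟨[36, 43], [45, 46], .split 45 [-1, -1, 0, 0] 208 210⟩ else ⟨[], [], .leaf []⟩)))
 else (bif Nat.blt k 214 then (bif Nat.blt k 213 then (bif Nat.beq k 212 then ⟨[36, 43], [45, 46, 47], .kill 47 31 1 211⟩ else ⟨[], [], .leaf []⟩)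
 else (bif Nat.beq k 213 then ⟨[36], [43, 45, 46, 47], .split 43 [0, 0, -1, 0] 205 212⟩ else ⟨[], [], .leaf []⟩))
 else (bif Nat.blt k 215 then (bif Nat.beq k 214 then ⟨[36, 42], [], .leaf [.x 37, .x 32, .x 15, .x 10]⟩ else ⟨[], [], .leaf []⟩)
 else (bif Nat.beq k 215 then ⟨[36, 42, 46], [], .leaf [.x 37, .x 19, .w 1, .w 2]⟩ else ⟨[], [], .leaf []⟩))))
 else (bif Nat.blt k 220 then (bif Nat.blt k 218 then (bif Nat.blt k 217 then (bif Nat.beq k 216 then ⟨[36, 42], [46], .split 46 [-1, 0, -1, 1] 214 215⟩ else ⟨[], [], .leaf []⟩)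
 else (bif Nat.beq k 217 then ⟨[36, 42, 45], [], .leaf [.x 17, .x 28, .x 19]⟩ else ⟨[], [], .leaf []⟩))
 else (bif Nat.blt k 219 then (bif Nat.beq k 218 then ⟨[36, 42, 45, 46], [], .leaf [.x 37, .x 28, .x 19, .x 17]⟩ else ⟨[], [], .leaf []⟩)
 else (bif Nat.beq k 219 then ⟨[36, 42, 45], [46], .split 46 [-1, -1, -2, 0] 217 218⟩ else ⟨[], [], .leaf []⟩)))
 else (bif Nat.blt k 222 then (bif Nat.blt k 221 then (bif Nat.beq k 220 then ⟨[36, 42], [45, 46], .split 45 [-1, 0, -1, 1] 216 219⟩ else ⟨[], [], .leaf []⟩)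
 else (bif Nat.beq k 221 then ⟨[36, 42], [45, 46, 47], .kill 47 32 1 220⟩ else ⟨[], [], .leaf []⟩))
 else (bif Nat.blt k 223 then (bif Nat.beq k 222 then ⟨[36, 42], [43, 45, 46, 47], .kill 43 25 1 221⟩ else ⟨[], [], .leaf []⟩)
 else (bif Nat.beq k 223 then ⟨[36], [42, 43, 45, 46, 47], .split 42 [0, 0, -1, 0] 213 222⟩ else ⟨[], [], .leaf []⟩))))))
 else (bif Nat.blt k 240 then (bif Nat.blt k 232 then (bif Nat.blt k 228 then (bif Nat.blt k 226 then (bif Nat.blt k 225 then (bif Nat.beq k 224 then ⟨[36, 41], [], .leaf [.x 32, .x 15, .w 1, .w 2]⟩ else ⟨[], [], .leaf []⟩)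
 else (bif Nat.beq k 225 then ⟨[36, 41, 47], [], .leaf [.x 37, .x 32, .x 29, .x 15, .w 1, .w 2]⟩ else ⟨[], [], .leaf []⟩))
 else (bif Nat.blt k 227 then (bif Nat.beq k 226 then ⟨[36, 41], [47], .split 47 [-1, -3, 0, -2] 224 225⟩ else ⟨[], [], .leaf []⟩)
 else (bif Nat.beq k 227 then ⟨[36, 41], [46, 47], .kill 46 32 1 226⟩ else ⟨[], [], .leaf []⟩)))
 else (bif Nat.blt k 230 then (bif Nat.blt k 229 then (bif Nat.beq k 228 then ⟨[36, 41], [45, 46, 47], .kill 45 31 1 227⟩ else ⟨[], [], .leaf []⟩)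
 else (bif Nat.beq k 229 then ⟨[36, 41], [43, 45, 46, 47], .kill 43 26 1 228⟩ else ⟨[], [], .leaf []⟩))
 else (bif Nat.blt k 231 then (bif Nat.beq k 230 then ⟨[36, 41], [42, 43, 45, 46, 47], .kill 42 24 1 229⟩ else ⟨[], [], .leaf []⟩)
 else (bif Nat.beq k 231 then ⟨[36], [41, 42, 43, 45, 46, 47], .split 41 [-1, -1, 0, 0] 223 230⟩ else ⟨[], [], .leaf []⟩))))
 else (bif Nat.blt k 236 then (bif Nat.blt k 234 then (bif Nat.blt k 233 then (bif Nat.beq k 232 then ⟨[36], [41, 42, 43, 44, 45, 46, 47], .kill 44 37 0 231⟩ else ⟨[], [], .leaf []⟩)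
 else (bif Nat.beq k 233 then ⟨[36], [40, 41, 42, 43, 44, 45, 46, 47], .kill 40 30 0 232⟩ else ⟨[], [], .leaf []⟩))
 else (bif Nat.blt k 235 then (bif Nat.beq k 234 then ⟨[36], [39, 40, 41, 42, 43, 44, 45, 46, 47], .kill 39 28 0 233⟩ else ⟨[], [], .leaf []⟩)
 else (bif Nat.beq k 235 then ⟨[36], [38, 39, 40, 41, 42, 43, 44, 45, 46, 47], .kill 38 27 0 234⟩ else ⟨[], [], .leaf []⟩)))
 else (bif Nat.blt k 238 then (bif Nat.blt k 237 then (bif Nat.beq k 236 then ⟨[36], [37, 38, 39, 40, 41, 42, 43, 44, 45, 46, 47], .sq 37 0 44 [] 235⟩ else ⟨[], [], .leaf []⟩)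
 else (bif Nat.beq k 237 then ⟨[], [36, 37, 38, 39, 40, 41, 42, 43, 44, 45, 46, 47], .split 36 [-1, 0, 0, 0] 195 236⟩ else ⟨[], [], .leaf []⟩))
 else (bif Nat.blt k 239 then (bif Nat.beq k 238 then ⟨[35], [], .leaf [.x 38, .x 9]⟩ else ⟨[], [], .leaf []⟩)
 else (bif Nat.beq k 239 then ⟨[35, 47], [], .leaf [.w 3, .w 1, .w 2]⟩ else ⟨[], [], .leaf []⟩)))))
 else (bif Nat.blt k 248 then (bif Nat.blt k 244 then (bif Nat.blt k 242 then (bif Nat.blt k 241 then (bif Nat.beq k 240 then ⟨[35], [47], .split 47 [-1, 0, 0, -1] 238 239⟩ else ⟨[], [], .leaf []⟩)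
 else (bif Nat.beq k 241 then ⟨[35, 46], [], .leaf [.x 38, .x 9, .w 3]⟩ else ⟨[], [], .leaf []⟩))
 else (bif Nat.blt k 243 then (bif Nat.beq k 242 then ⟨[35, 46, 47], [], .leaf [.x 23, .w 3, .w 1, .w 2]⟩ else ⟨[], [], .leaf []⟩)
 else (bif Nat.beq k 243 then ⟨[35, 46], [47], .split 47 [0, 0, -1, -1] 241 242⟩ else ⟨[], [], .leaf []⟩)))
 else (bif Nat.blt k 246 then (bif Nat.blt k 245 then (bif Nat.beq k 244 then ⟨[35], [46, 47], .split 46 [-1, 0, 0, -1] 240 243⟩ else ⟨[], [], .leaf []⟩)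
 else (bif Nat.beq k 245 then ⟨[35, 45], [], .leaf [.x 29, .x 18]⟩ else ⟨[], [], .leaf []⟩))
 else (bif Nat.blt k 247 then (bif Nat.beq k 246 then ⟨[35, 45], [47], .kill 47 26 1 245⟩ else ⟨[], [], .leaf []⟩)
 else (bif Nat.beq k 247 then ⟨[35, 45], [46, 47], .kill 46 25 1 246⟩ else ⟨[], [], .leaf []⟩))))
 else (bif Nat.blt k 252 then (bif Nat.blt k 250 then (bif Nat.blt k 249 then (bif Nat.beq k 248 then ⟨[35], [45, 46, 47], .split 45 [-1, -1, 0, 0] 244 247⟩ else ⟨[], [], .leaf []⟩)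
 else (bif Nat.beq k 249 then ⟨[35, 43], [], .leaf [.x 31, .x 16, .w 0]⟩ else ⟨[], [], .leaf []⟩))
 else (bif Nat.blt k 251 then (bif Nat.beq k 250 then ⟨[35, 43, 47], [], .leaf [.x 31, .x 16, .w 1]⟩ else ⟨[], [], .leaf []⟩)
 else (bif Nat.beq k 251 then ⟨[35, 43], [47], .split 47 [-1, 0, 2, 1] 249 250⟩ else ⟨[], [], .leaf []⟩)))
 else (bif Nat.blt k 254 then (bif Nat.blt k 253 then (bif Nat.beq k 252 then ⟨[35, 43, 45], [], .leaf [.x 38, .x 29, .x 20, .x 18]⟩ else ⟨[], [], .leaf []⟩)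
 else (bif Nat.beq k 253 then ⟨[35, 43, 45], [47], .kill 47 26 2 252⟩ else ⟨[], [], .leaf []⟩))
 else (bif Nat.blt k 255 then (bif Nat.beq k 254 then ⟨[35, 43], [45, 47], .split 45 [-1, -1, 0, 0] 251 253⟩ else ⟨[], [], .leaf []⟩)
 else (bif Nat.beq k 255 then ⟨[35, 43], [45, 46, 47], .kill 46 30 1 254⟩ else ⟨[], [], .leaf []⟩)))))))

def node256 (k : ℕ) : Node :=
 (bif Nat.blt k 288 then (bif Nat.blt k 272 then (bif Nat.blt k 264 then (bif Nat.blt k 260 then (bif Nat.blt k 258 then (bif Nat.blt k 257 then (bif Nat.beq k 256 then ⟨[35], [43, 45, 46, 47], .split 43 [-1, 0, 0, -1] 248 255⟩ else ⟨[], [], .leaf []⟩)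
 else (bif Nat.beq k 257 then ⟨[35, 42], [], .leaf [.x 31, .x 16, .w 2, .w 1]⟩ else ⟨[], [], .leaf []⟩))
 else (bif Nat.blt k 259 then (bif Nat.beq k 258 then ⟨[35, 42, 46], [], .leaf [.x 38, .x 31, .x 28, .x 16, .w 2, .w 1]⟩ else ⟨[], [], .leaf []⟩)
 else (bif Nat.beq k 259 then ⟨[35, 42], [46], .split 46 [-1, -3, -2, 0] 257 258⟩ else ⟨[], [], .leaf []⟩)))
 else (bif Nat.blt k 262 then (bif Nat.blt k 261 then (bif Nat.beq k 260 then ⟨[35, 42], [46, 47], .kill 47 32 1 259⟩ else ⟨[], [], .leaf []⟩)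
 else (bif Nat.beq k 261 then ⟨[35, 42], [45, 46, 47], .kill 45 30 1 260⟩ else ⟨[], [], .leaf []⟩))
 else (bif Nat.blt k 263 then (bif Nat.beq k 262 then ⟨[35, 42], [43, 45, 46, 47], .kill 43 25 1 261⟩ else ⟨[], [], .leaf []⟩)
 else (bif Nat.beq k 263 then ⟨[35], [42, 43, 45, 46, 47], .split 42 [-1, -1, 0, 0] 256 262⟩ else ⟨[], [], .leaf []⟩))))
 else (bif Nat.blt k 268 then (bif Nat.blt k 266 then (bif Nat.blt k 265 then (bif Nat.beq k 264 then ⟨[35, 41], [], .leaf [.x 29, .x 18, .w 1, .w 0]⟩ else ⟨[], [], .leaf []⟩)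
 else (bif Nat.beq k 265 then ⟨[35, 41, 47], [], .leaf [.x 38, .x 18, .w 3, .w 1, .w 2]⟩ else ⟨[], [], .leaf []⟩))
 else (bif Nat.blt k 267 then (bif Nat.beq k 266 then ⟨[35, 41], [47], .split 47 [-1, 0, -1, -2] 264 265⟩ else ⟨[], [], .leaf []⟩)
 else (bif Nat.beq k 267 then ⟨[35, 41, 45], [], .leaf [.x 16, .x 29, .x 18]⟩ else ⟨[], [], .leaf []⟩)))
 else (bif Nat.blt k 270 then (bif Nat.blt k 269 then (bif Nat.beq k 268 then ⟨[35, 41, 45, 47], [], .leaf [.x 38, .x 29, .x 18, .x 16]⟩ else ⟨[], [], .leaf []⟩)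
 else (bif Nat.beq k 269 then ⟨[35, 41, 45], [47], .split 47 [-1, -1, -2, -2] 267 268⟩ else ⟨[], [], .leaf []⟩))
 else (bif Nat.blt k 271 then (bif Nat.beq k 270 then ⟨[35, 41], [45, 47], .split 45 [0, -1, -1, 0] 266 269⟩ else ⟨[], [], .leaf []⟩)
 else (bif Nat.beq k 271 then ⟨[35, 41, 42], [], .leaf [.x 23, .x 31, .x 16, .w 2, .w 1]⟩ else ⟨[], [], .leaf []⟩)))))
 else (bif Nat.blt k 280 then (bif Nat.blt k 276 then (bif Nat.blt k 274 then (bif Nat.blt k 273 then (bif Nat.beq k 272 then ⟨[35, 41, 42, 47], [], .leaf [.x 38, .x 18, .x 15, .w 3, .w 1, .w 2]⟩ else ⟨[], [], .leaf []⟩)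
 else (bif Nat.beq k 273 then ⟨[35, 41, 42], [47], .split 47 [-1, -3, -4, -2] 271 272⟩ else ⟨[], [], .leaf []⟩))
 else (bif Nat.blt k 275 then (bif Nat.beq k 274 then ⟨[35, 41, 42], [45, 47], .kill 45 30 2 273⟩ else ⟨[], [], .leaf []⟩)
 else (bif Nat.beq k 275 then ⟨[35, 41], [42, 45, 47], .split 42 [0, -1, -1, 0] 270 274⟩ else ⟨[], [], .leaf []⟩)))
 else (bif Nat.blt k 278 then (bif Nat.blt k 277 then (bif Nat.beq k 276 then ⟨[35, 41], [42, 45, 46, 47], .kill 46 32 1 275⟩ else ⟨[], [], .leaf []⟩)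
 else (bif Nat.beq k 277 then ⟨[35, 41], [42, 43, 45, 46, 47], .kill 43 26 1 276⟩ else ⟨[], [], .leaf []⟩))
 else (bif Nat.blt k 279 then (bif Nat.beq k 278 then ⟨[35], [41, 42, 43, 45, 46, 47], .split 41 [-1, -1, 0, 0] 263 277⟩ else ⟨[], [], .leaf []⟩)
 else (bif Nat.beq k 279 then ⟨[35], [41, 42, 43, 44, 45, 46, 47], .kill 44 38 0 278⟩ else ⟨[], [], .leaf []⟩))))
 else (bif Nat.blt k 284 then (bif Nat.blt k 282 then (bif Nat.blt k 281 then (bif Nat.beq k 280 then ⟨[35], [40, 41, 42, 43, 44, 45, 46, 47], .kill 40 31 0 279⟩ else ⟨[], [], .leaf []⟩)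
 else (bif Nat.beq k 281 then ⟨[35], [39, 40, 41, 42, 43, 44, 45, 46, 47], .kill 39 29 0 280⟩ else ⟨[], [], .leaf []⟩))
 else (bif Nat.blt k 283 then (bif Nat.beq k 282 then ⟨[35], [37, 39, 40, 41, 42, 43, 44, 45, 46, 47], .kill 37 27 0 281⟩ else ⟨[], [], .leaf []⟩)
 else (bif Nat.beq k 283 then ⟨[35], [37, 38, 39, 40, 41, 42, 43, 44, 45, 46, 47], .sq 38 0 44 [] 282⟩ else ⟨[], [], .leaf []⟩)))
 else (bif Nat.blt k 286 then (bif Nat.blt k 285 then (bif Nat.beq k 284 then ⟨[35], [36, 37, 38, 39, 40, 41, 42, 43, 44, 45, 46, 47], .kill 36 24 0 283⟩ else ⟨[], [], .leaf []⟩)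
 else (bif Nat.beq k 285 then ⟨[], [35, 36, 37, 38, 39, 40, 41, 42, 43, 44, 45, 46, 47], .split 35 [-1, 0, 0, 0] 237 284⟩ else ⟨[], [], .leaf []⟩))
 else (bif Nat.blt k 287 then (bif Nat.beq k 286 then ⟨[34], [], .leaf [.x 39, .x 8]⟩ else ⟨[], [], .leaf []⟩)
 else (bif Nat.beq k 287 then ⟨[34, 47], [], .leaf [.w 2, .w 3, .w 1, .w 2]⟩ else ⟨[], [], .leaf []⟩))))))
 else (bif Nat.blt k 304 then (bif Nat.blt k 296 then (bif Nat.blt k 292 then (bif Nat.blt k 290 then (bif Nat.blt k 289 then (bif Nat.beq k 288 then ⟨[34], [47], .split 47 [0, 0, 0, -1] 286 287⟩ else ⟨[], [], .leaf []⟩)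
 else (bif Nat.beq k 289 then ⟨[34, 46], [], .leaf [.x 29, .x 18, .w 2]⟩ else ⟨[], [], .leaf []⟩))
 else (bif Nat.blt k 291 then (bif Nat.beq k 290 then ⟨[34, 46], [47], .kill 47 24 1 289⟩ else ⟨[], [], .leaf []⟩)
 else (bif Nat.beq k 291 then ⟨[34], [46, 47], .split 46 [0, 0, 0, -1] 288 290⟩ else ⟨[], [], .leaf []⟩)))
 else (bif Nat.blt k 294 then (bif Nat.blt k 293 then (bif Nat.beq k 292 then ⟨[34, 45], [], .leaf [.x 39, .x 8, .w 2, .w 3]⟩ else ⟨[], [], .leaf []⟩)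
 else (bif Nat.beq k 293 then ⟨[34, 45, 47], [], .leaf [.x 26, .x 21, .x 28, .x 19]⟩ else ⟨[], [], .leaf []⟩))
 else (bif Nat.blt k 295 then (bif Nat.beq k 294 then ⟨[34, 45], [47], .split 47 [0, 0, 0, -1] 292 293⟩ else ⟨[], [], .leaf []⟩)
 else (bif Nat.beq k 295 then ⟨[34, 45, 46], [], .leaf [.x 29, .x 22, .x 18, .w 2]⟩ else ⟨[], [], .leaf []⟩))))
 else (bif Nat.blt k 300 then (bif Nat.blt k 298 then (bif Nat.blt k 297 then (bif Nat.beq k 296 then ⟨[34, 45, 46], [47], .kill 47 24 2 295⟩ else ⟨[], [], .leaf []⟩)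
 else (bif Nat.beq k 297 then ⟨[34, 45], [46, 47], .split 46 [0, 0, 0, -1] 294 296⟩ else ⟨[], [], .leaf []⟩))
 else (bif Nat.blt k 299 then (bif Nat.beq k 298 then ⟨[34], [45, 46, 47], .split 45 [-1, 0, -1, 0] 291 297⟩ else ⟨[], [], .leaf []⟩)
 else (bif Nat.beq k 299 then ⟨[34, 43], [], .leaf [.x 32, .x 15, .w 1]⟩ else ⟨[], [], .leaf []⟩)))
 else (bif Nat.blt k 302 then (bif Nat.blt k 301 then (bif Nat.beq k 300 then ⟨[34, 43, 45], [], .leaf [.x 39, .x 32, .x 27, .x 15, .w 1]⟩ else ⟨[], [], .leaf []⟩)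
 else (bif Nat.beq k 301 then ⟨[34, 43], [45], .split 45 [-1, -3, -4, 0] 299 300⟩ else ⟨[], [], .leaf []⟩))
 else (bif Nat.blt k 303 then (bif Nat.beq k 302 then ⟨[34, 43], [45, 47], .kill 47 31 1 301⟩ else ⟨[], [], .leaf []⟩)
 else (bif Nat.beq k 303 then ⟨[34, 43], [45, 46, 47], .kill 46 30 1 302⟩ else ⟨[], [], .leaf []⟩)))))
 else (bif Nat.blt k 312 then (bif Nat.blt k 308 then (bif Nat.blt k 306 then (bif Nat.blt k 305 then (bif Nat.beq k 304 then ⟨[34], [43, 45, 46, 47], .split 43 [-1, 1, 0, 0] 298 303⟩ else ⟨[], [], .leaf []⟩)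
 else (bif Nat.beq k 305 then ⟨[34, 42], [], .leaf [.x 32, .x 15, .w 0]⟩ else ⟨[], [], .leaf []⟩))
 else (bif Nat.blt k 307 then (bif Nat.beq k 306 then ⟨[34, 42, 47], [], .leaf [.x 32, .x 15, .w 2, .w 1]⟩ else ⟨[], [], .leaf []⟩)
 else (bif Nat.beq k 307 then ⟨[34, 42], [47], .split 47 [-1, 0, -1, 1] 305 306⟩ else ⟨[], [], .leaf []⟩)))
 else (bif Nat.blt k 310 then (bif Nat.blt k 309 then (bif Nat.beq k 308 then ⟨[34, 42, 46], [], .leaf [.x 39, .x 29, .x 19, .x 18, .w 2]⟩ else ⟨[], [], .leaf []⟩)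
 else (bif Nat.beq k 309 then ⟨[34, 42, 46], [47], .kill 47 24 2 308⟩ else ⟨[], [], .leaf []⟩))
 else (bif Nat.blt k 311 then (bif Nat.beq k 310 then ⟨[34, 42], [46, 47], .split 46 [-1, 0, -1, 1] 307 309⟩ else ⟨[], [], .leaf []⟩)
 else (bif Nat.beq k 311 then ⟨[34, 42, 43], [], .leaf [.x 22, .x 32, .x 15, .w 1]⟩ else ⟨[], [], .leaf []⟩))))
 else (bif Nat.blt k 316 then (bif Nat.blt k 314 then (bif Nat.blt k 313 then (bif Nat.beq k 312 then ⟨[34, 42, 43, 46], [], .leaf [.x 39, .x 19, .x 32, .x 30, .x 15, .w 1]⟩ else ⟨[], [], .leaf []⟩)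
 else (bif Nat.beq k 313 then ⟨[34, 42, 43], [46], .split 46 [-1, -3, -4, -2] 311 312⟩ else ⟨[], [], .leaf []⟩))
 else (bif Nat.blt k 315 then (bif Nat.beq k 314 then ⟨[34, 42, 43], [46, 47], .kill 47 31 2 313⟩ else ⟨[], [], .leaf []⟩)
 else (bif Nat.beq k 315 then ⟨[34, 42], [43, 46, 47], .split 43 [0, -1, -1, -1] 310 314⟩ else ⟨[], [], .leaf []⟩)))
 else (bif Nat.blt k 318 then (bif Nat.blt k 317 then (bif Nat.beq k 316 then ⟨[34, 42], [43, 45, 46, 47], .kill 45 30 1 315⟩ else ⟨[], [], .leaf []⟩)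
 else (bif Nat.beq k 317 then ⟨[34], [42, 43, 45, 46, 47], .split 42 [0, 0, 0, -1] 304 316⟩ else ⟨[], [], .leaf []⟩))
 else (bif Nat.blt k 319 then (bif Nat.beq k 318 then ⟨[34, 41], [], .leaf [.x 32, .x 15, .w 3, .w 0]⟩ else ⟨[], [], .leaf []⟩)
 else (bif Nat.beq k 319 then ⟨[34, 41, 47], [], .leaf [.x 39, .x 18, .w 2, .w 3, .w 1, .w 2]⟩ else ⟨[], [], .leaf []⟩)))))))

def node320 (k : ℕ) : Node :=
 (bif Nat.blt k 352 then (bif Nat.blt k 336 then (bif Nat.blt k 328 then (bif Nat.blt k 324 then (bif Nat.blt k 322 then (bif Nat.blt k 321 then (bif Nat.beq k 320 then ⟨[34, 41], [47], .split 47 [-1, 0, -1, -2] 318 319⟩ else ⟨[], [], .leaf []⟩)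
 else (bif Nat.beq k 321 then ⟨[34, 41, 46], [], .leaf [.x 15, .x 29, .x 18, .w 2]⟩ else ⟨[], [], .leaf []⟩))
 else (bif Nat.blt k 323 then (bif Nat.beq k 322 then ⟨[34, 41, 46, 47], [], .leaf [.x 39, .x 29, .x 18, .x 15, .w 2]⟩ else ⟨[], [], .leaf []⟩)
 else (bif Nat.beq k 323 then ⟨[34, 41, 46], [47], .split 47 [-1, -1, -2, -2] 321 322⟩ else ⟨[], [], .leaf []⟩)))
 else (bif Nat.blt k 326 then (bif Nat.blt k 325 then (bif Nat.beq k 324 then ⟨[34, 41], [46, 47], .split 46 [0, -1, -1, 0] 320 323⟩ else ⟨[], [], .leaf []⟩)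
 else (bif Nat.beq k 325 then ⟨[34, 41, 43], [], .leaf [.x 21, .x 32, .x 15, .w 1]⟩ else ⟨[], [], .leaf []⟩))
 else (bif Nat.blt k 327 then (bif Nat.beq k 326 then ⟨[34, 41, 43, 47], [], .leaf [.x 39, .x 18, .x 32, .x 31, .x 15, .w 1]⟩ else ⟨[], [], .leaf []⟩)
 else (bif Nat.beq k 327 then ⟨[34, 41, 43], [47], .split 47 [-1, -3, -4, -2] 325 326⟩ else ⟨[], [], .leaf []⟩))))
 else (bif Nat.blt k 332 then (bif Nat.blt k 330 then (bif Nat.blt k 329 then (bif Nat.beq k 328 then ⟨[34, 41, 43], [46, 47], .kill 46 30 2 327⟩ else ⟨[], [], .leaf []⟩)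
 else (bif Nat.beq k 329 then ⟨[34, 41], [43, 46, 47], .split 43 [0, -1, -1, 0] 324 328⟩ else ⟨[], [], .leaf []⟩))
 else (bif Nat.blt k 331 then (bif Nat.beq k 330 then ⟨[34, 41], [43, 45, 46, 47], .kill 45 31 1 329⟩ else ⟨[], [], .leaf []⟩)
 else (bif Nat.beq k 331 then ⟨[34, 41], [42, 43, 45, 46, 47], .kill 42 24 1 330⟩ else ⟨[], [], .leaf []⟩)))
 else (bif Nat.blt k 334 then (bif Nat.blt k 333 then (bif Nat.beq k 332 then ⟨[34], [41, 42, 43, 45, 46, 47], .split 41 [0, 0, 0, -1] 317 331⟩ else ⟨[], [], .leaf []⟩)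
 else (bif Nat.beq k 333 then ⟨[34], [41, 42, 43, 44, 45, 46, 47], .kill 44 39 0 332⟩ else ⟨[], [], .leaf []⟩))
 else (bif Nat.blt k 335 then (bif Nat.beq k 334 then ⟨[34], [40, 41, 42, 43, 44, 45, 46, 47], .kill 40 32 0 333⟩ else ⟨[], [], .leaf []⟩)
 else (bif Nat.beq k 335 then ⟨[34], [38, 40, 41, 42, 43, 44, 45, 46, 47], .kill 38 29 0 334⟩ else ⟨[], [], .leaf []⟩)))))
 else (bif Nat.blt k 344 then (bif Nat.blt k 340 then (bif Nat.blt k 338 then (bif Nat.blt k 337 then (bif Nat.beq k 336 then ⟨[34], [37, 38, 40, 41, 42, 43, 44, 45, 46, 47], .kill 37 28 0 335⟩ else ⟨[], [], .leaf []⟩)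
 else (bif Nat.beq k 337 then ⟨[34], [37, 38, 39, 40, 41, 42, 43, 44, 45, 46, 47], .sq 39 0 44 [] 336⟩ else ⟨[], [], .leaf []⟩))
 else (bif Nat.blt k 339 then (bif Nat.beq k 338 then ⟨[34], [36, 37, 38, 39, 40, 41, 42, 43, 44, 45, 46, 47], .kill 36 26 0 337⟩ else ⟨[], [], .leaf []⟩)
 else (bif Nat.beq k 339 then ⟨[34], [35, 36, 37, 38, 39, 40, 41, 42, 43, 44, 45, 46, 47], .kill 35 25 0 338⟩ else ⟨[], [], .leaf []⟩)))
 else (bif Nat.blt k 342 then (bif Nat.blt k 341 then (bif Nat.beq k 340 then ⟨[], [34, 35, 36, 37, 38, 39, 40, 41, 42, 43, 44, 45, 46, 47], .split 34 [-1, 0, 0, 0] 285 339⟩ else ⟨[], [], .leaf []⟩)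
 else (bif Nat.beq k 341 then ⟨[33], [], .leaf [.x 40, .x 7]⟩ else ⟨[], [], .leaf []⟩))
 else (bif Nat.blt k 343 then (bif Nat.beq k 342 then ⟨[33, 47], [], .leaf [.x 30, .x 17, .w 3, .w 2]⟩ else ⟨[], [], .leaf []⟩)
 else (bif Nat.beq k 343 then ⟨[33], [47], .split 47 [0, 0, 0, -1] 341 342⟩ else ⟨[], [], .leaf []⟩))))
 else (bif Nat.blt k 348 then (bif Nat.blt k 346 then (bif Nat.blt k 345 then (bif Nat.beq k 344 then ⟨[33, 46], [], .leaf [.x 31, .x 16, .w 2]⟩ else ⟨[], [], .leaf []⟩)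
 else (bif Nat.beq k 345 then ⟨[33, 46], [47], .kill 47 24 1 344⟩ else ⟨[], [], .leaf []⟩))
 else (bif Nat.blt k 347 then (bif Nat.beq k 346 then ⟨[33], [46, 47], .split 46 [0, 0, -1, 0] 343 345⟩ else ⟨[], [], .leaf []⟩)
 else (bif Nat.beq k 347 then ⟨[33, 45], [], .leaf [.x 32, .x 15]⟩ else ⟨[], [], .leaf []⟩)))
 else (bif Nat.blt k 350 then (bif Nat.blt k 349 then (bif Nat.beq k 348 then ⟨[33, 45], [47], .kill 47 26 1 347⟩ else ⟨[], [], .leaf []⟩)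
 else (bif Nat.beq k 349 then ⟨[33, 45], [46, 47], .kill 46 25 1 348⟩ else ⟨[], [], .leaf []⟩))
 else (bif Nat.blt k 351 then (bif Nat.beq k 350 then ⟨[33], [45, 46, 47], .split 45 [0, 0, -1, 0] 346 349⟩ else ⟨[], [], .leaf []⟩)
 else (bif Nat.beq k 351 then ⟨[33, 43], [], .leaf [.x 12, .x 46, .x 35, .x 1]⟩ else ⟨[], [], .leaf []⟩))))))
 else (bif Nat.blt k 368 then (bif Nat.blt k 360 then (bif Nat.blt k 356 then (bif Nat.blt k 354 then (bif Nat.blt k 353 then (bif Nat.beq k 352 then ⟨[33, 43, 47], [], .leaf [.x 28, .x 19, .x 31, .x 16, .w 1]⟩ else ⟨[], [], .leaf []⟩)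
 else (bif Nat.beq k 353 then ⟨[33, 43], [47], .split 47 [0, 0, 0, -1] 351 352⟩ else ⟨[], [], .leaf []⟩))
 else (bif Nat.blt k 355 then (bif Nat.beq k 354 then ⟨[33, 43, 46], [], .leaf [.x 17, .x 31, .x 16, .w 2]⟩ else ⟨[], [], .leaf []⟩)
 else (bif Nat.beq k 355 then ⟨[33, 43, 46], [47], .kill 47 24 2 354⟩ else ⟨[], [], .leaf []⟩)))
 else (bif Nat.blt k 358 then (bif Nat.blt k 357 then (bif Nat.beq k 356 then ⟨[33, 43], [46, 47], .split 46 [0, 0, 0, -1] 353 355⟩ else ⟨[], [], .leaf []⟩)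
 else (bif Nat.beq k 357 then ⟨[33, 43, 45], [], .leaf [.x 40, .x 32, .x 20, .x 15]⟩ else ⟨[], [], .leaf []⟩))
 else (bif Nat.blt k 359 then (bif Nat.beq k 358 then ⟨[33, 43, 45], [47], .kill 47 26 2 357⟩ else ⟨[], [], .leaf []⟩)
 else (bif Nat.beq k 359 then ⟨[33, 43, 45], [46, 47], .kill 46 25 2 358⟩ else ⟨[], [], .leaf []⟩))))
 else (bif Nat.blt k 364 then (bif Nat.blt k 362 then (bif Nat.blt k 361 then (bif Nat.beq k 360 then ⟨[33, 43], [45, 46, 47], .split 45 [-1, -2, -2, 0] 356 359⟩ else ⟨[], [], .leaf []⟩)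
 else (bif Nat.beq k 361 then ⟨[33], [43, 45, 46, 47], .split 43 [0, 0, -1, 0] 350 360⟩ else ⟨[], [], .leaf []⟩))
 else (bif Nat.blt k 363 then (bif Nat.beq k 362 then ⟨[33, 42], [], .leaf [.x 32, .x 15, .w 1, .w 0]⟩ else ⟨[], [], .leaf []⟩)
 else (bif Nat.beq k 363 then ⟨[33, 42, 47], [], .leaf [.x 21, .x 32, .x 17, .x 15]⟩ else ⟨[], [], .leaf []⟩)))
 else (bif Nat.blt k 366 then (bif Nat.blt k 365 then (bif Nat.beq k 364 then ⟨[33, 42], [47], .split 47 [0, 0, -1, -1] 362 363⟩ else ⟨[], [], .leaf []⟩)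
 else (bif Nat.beq k 365 then ⟨[33, 42, 46], [], .leaf [.x 40, .x 31, .x 19, .x 16, .w 2]⟩ else ⟨[], [], .leaf []⟩))
 else (bif Nat.blt k 367 then (bif Nat.beq k 366 then ⟨[33, 42, 46], [47], .kill 47 24 2 365⟩ else ⟨[], [], .leaf []⟩)
 else (bif Nat.beq k 367 then ⟨[33, 42], [46, 47], .split 46 [-1, -2, -2, 0] 364 366⟩ else ⟨[], [], .leaf []⟩)))))
 else (bif Nat.blt k 376 then (bif Nat.blt k 372 then (bif Nat.blt k 370 then (bif Nat.blt k 369 then (bif Nat.beq k 368 then ⟨[33, 42, 45], [], .leaf [.x 17, .x 32, .x 15]⟩ else ⟨[], [], .leaf []⟩)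
 else (bif Nat.beq k 369 then ⟨[33, 42, 45, 46], [], .leaf [.x 40, .x 19, .x 32, .x 25, .x 15]⟩ else ⟨[], [], .leaf []⟩))
 else (bif Nat.blt k 371 then (bif Nat.beq k 370 then ⟨[33, 42, 45], [46], .split 46 [-1, -2, -4, -2] 368 369⟩ else ⟨[], [], .leaf []⟩)
 else (bif Nat.beq k 371 then ⟨[33, 42, 45], [46, 47], .kill 47 26 2 370⟩ else ⟨[], [], .leaf []⟩)))
 else (bif Nat.blt k 374 then (bif Nat.blt k 373 then (bif Nat.beq k 372 then ⟨[33, 42], [45, 46, 47], .split 45 [0, 0, -1, -1] 367 371⟩ else ⟨[], [], .leaf []⟩)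
 else (bif Nat.beq k 373 then ⟨[33, 42], [43, 45, 46, 47], .kill 43 25 1 372⟩ else ⟨[], [], .leaf []⟩))
 else (bif Nat.blt k 375 then (bif Nat.beq k 374 then ⟨[33], [42, 43, 45, 46, 47], .split 42 [0, 0, -1, 0] 361 373⟩ else ⟨[], [], .leaf []⟩)
 else (bif Nat.beq k 375 then ⟨[33, 41], [], .leaf [.x 10, .x 40, .x 18, .x 7]⟩ else ⟨[], [], .leaf []⟩))))
 else (bif Nat.blt k 380 then (bif Nat.blt k 378 then (bif Nat.blt k 377 then (bif Nat.beq k 376 then ⟨[33, 41, 47], [], .leaf [.x 40, .x 30, .x 18, .x 17, .w 3, .w 2]⟩ else ⟨[], [], .leaf []⟩)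
 else (bif Nat.beq k 377 then ⟨[33, 41], [47], .split 47 [-1, -2, 0, -2] 375 376⟩ else ⟨[], [], .leaf []⟩))
 else (bif Nat.blt k 379 then (bif Nat.beq k 378 then ⟨[33, 41, 46], [], .leaf [.x 15, .x 31, .x 16, .w 2]⟩ else ⟨[], [], .leaf []⟩)
 else (bif Nat.beq k 379 then ⟨[33, 41, 46, 47], [], .leaf [.x 40, .x 29, .x 18, .x 15, .w 1, .w 2]⟩ else ⟨[], [], .leaf []⟩)))
 else (bif Nat.blt k 382 then (bif Nat.blt k 381 then (bif Nat.beq k 380 then ⟨[33, 41, 46], [47], .split 47 [-1, -2, -2, -2] 378 379⟩ else ⟨[], [], .leaf []⟩)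
 else (bif Nat.beq k 381 then ⟨[33, 41], [46, 47], .split 46 [0, 0, -1, 0] 377 380⟩ else ⟨[], [], .leaf []⟩))
 else (bif Nat.blt k 383 then (bif Nat.beq k 382 then ⟨[33, 41, 45], [], .leaf [.x 16, .x 32, .x 15]⟩ else ⟨[], [], .leaf []⟩)
 else (bif Nat.beq k 383 then ⟨[33, 41, 45, 47], [], .leaf [.x 40, .x 18, .x 32, .x 26, .x 15]⟩ else ⟨[], [], .leaf []⟩)))))))

def node384 (k : ℕ) : Node :=
 (bif Nat.blt k 416 then (bif Nat.blt k 400 then (bif Nat.blt k 392 then (bif Nat.blt k 388 then (bif Nat.blt k 386 then (bif Nat.blt k 385 then (bif Nat.beq k 384 then ⟨[33, 41, 45], [47], .split 47 [-1, -2, -4, -2] 382 383⟩ else ⟨[], [], .leaf []⟩)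
 else (bif Nat.beq k 385 then ⟨[33, 41, 45], [46, 47], .kill 46 25 2 384⟩ else ⟨[], [], .leaf []⟩))
 else (bif Nat.blt k 387 then (bif Nat.beq k 386 then ⟨[33, 41], [45, 46, 47], .split 45 [0, 0, -1, 0] 381 385⟩ else ⟨[], [], .leaf []⟩)
 else (bif Nat.beq k 387 then ⟨[33, 41], [43, 45, 46, 47], .kill 43 26 1 386⟩ else ⟨[], [], .leaf []⟩)))
 else (bif Nat.blt k 390 then (bif Nat.blt k 389 then (bif Nat.beq k 388 then ⟨[33, 41], [42, 43, 45, 46, 47], .kill 42 24 1 387⟩ else ⟨[], [], .leaf []⟩)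
 else (bif Nat.beq k 389 then ⟨[33], [41, 42, 43, 45, 46, 47], .split 41 [0, 0, 0, -1] 374 388⟩ else ⟨[], [], .leaf []⟩))
 else (bif Nat.blt k 391 then (bif Nat.beq k 390 then ⟨[33], [41, 42, 43, 44, 45, 46, 47], .kill 44 40 0 389⟩ else ⟨[], [], .leaf []⟩)
 else (bif Nat.beq k 391 then ⟨[33], [39, 41, 42, 43, 44, 45, 46, 47], .kill 39 32 0 390⟩ else ⟨[], [], .leaf []⟩))))
 else (bif Nat.blt k 396 then (bif Nat.blt k 394 then (bif Nat.blt k 393 then (bif Nat.beq k 392 then ⟨[33], [38, 39, 41, 42, 43, 44, 45, 46, 47], .kill 38 31 0 391⟩ else ⟨[], [], .leaf []⟩)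
 else (bif Nat.beq k 393 then ⟨[33], [37, 38, 39, 41, 42, 43, 44, 45, 46, 47], .kill 37 30 0 392⟩ else ⟨[], [], .leaf []⟩))
 else (bif Nat.blt k 395 then (bif Nat.beq k 394 then ⟨[33], [37, 38, 39, 40, 41, 42, 43, 44, 45, 46, 47], .sq 40 0 44 [] 393⟩ else ⟨[], [], .leaf []⟩)
 else (bif Nat.beq k 395 then ⟨[33], [36, 37, 38, 39, 40, 41, 42, 43, 44, 45, 46, 47], .kill 36 29 0 394⟩ else ⟨[], [], .leaf []⟩)))
 else (bif Nat.blt k 398 then (bif Nat.blt k 397 then (bif Nat.beq k 396 then ⟨[33], [35, 36, 37, 38, 39, 40, 41, 42, 43, 44, 45, 46, 47], .kill 35 28 0 395⟩ else ⟨[], [], .leaf []⟩)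
 else (bif Nat.beq k 397 then ⟨[33], [34, 35, 36, 37, 38, 39, 40, 41, 42, 43, 44, 45, 46, 47], .kill 34 27 0 396⟩ else ⟨[], [], .leaf []⟩))
 else (bif Nat.blt k 399 then (bif Nat.beq k 398 then ⟨[], [33, 34, 35, 36, 37, 38, 39, 40, 41, 42, 43, 44, 45, 46, 47], .split 33 [-1, 0, 0, 0] 340 397⟩ else ⟨[], [], .leaf []⟩)
 else (bif Nat.beq k 399 then ⟨[32], [], .leaf [.x 42, .x 5]⟩ else ⟨[], [], .leaf []⟩)))))
 else (bif Nat.blt k 408 then (bif Nat.blt k 404 then (bif Nat.blt k 402 then (bif Nat.blt k 401 then (bif Nat.beq k 400 then ⟨[32, 45], [], .leaf [.x 13, .w 2, .w 3, .w 0]⟩ else ⟨[], [], .leaf []⟩)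
 else (bif Nat.beq k 401 then ⟨[32], [45], .split 45 [0, -1, 0, 0] 399 400⟩ else ⟨[], [], .leaf []⟩))
 else (bif Nat.blt k 403 then (bif Nat.beq k 402 then ⟨[32, 44], [], .leaf [.w 0, .w 1]⟩ else ⟨[], [], .leaf []⟩)
 else (bif Nat.beq k 403 then ⟨[32, 44, 45], [], .leaf [.x 13, .x 33, .x 27]⟩ else ⟨[], [], .leaf []⟩)))
 else (bif Nat.blt k 406 then (bif Nat.blt k 405 then (bif Nat.beq k 404 then ⟨[32, 44], [45], .split 45 [0, -1, 0, 0] 402 403⟩ else ⟨[], [], .leaf []⟩)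
 else (bif Nat.beq k 405 then ⟨[32], [44, 45], .split 44 [-1, 0, -2, 0] 401 404⟩ else ⟨[], [], .leaf []⟩))
 else (bif Nat.blt k 407 then (bif Nat.beq k 406 then ⟨[32, 43], [], .leaf [.x 31, .x 33, .x 5, .w 1, .w 0]⟩ else ⟨[], [], .leaf []⟩)
 else (bif Nat.beq k 407 then ⟨[32, 43, 45], [], .leaf [.x 33, .x 27, .x 13]⟩ else ⟨[], [], .leaf []⟩))))
 else (bif Nat.blt k 412 then (bif Nat.blt k 410 then (bif Nat.blt k 409 then (bif Nat.beq k 408 then ⟨[32, 43], [45], .split 45 [-1, -2, -2, 0] 406 407⟩ else ⟨[], [], .leaf []⟩)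
 else (bif Nat.beq k 409 then ⟨[32, 43], [44, 45], .kill 44 27 1 408⟩ else ⟨[], [], .leaf []⟩))
 else (bif Nat.blt k 411 then (bif Nat.beq k 410 then ⟨[32], [43, 44, 45], .split 43 [0, -1, 0, 0] 405 409⟩ else ⟨[], [], .leaf []⟩)
 else (bif Nat.beq k 411 then ⟨[32, 38], [], .leaf [.x 41, .x 6, .w 2]⟩ else ⟨[], [], .leaf []⟩)))
 else (bif Nat.blt k 414 then (bif Nat.blt k 413 then (bif Nat.beq k 412 then ⟨[32, 38, 45], [], .leaf [.x 41, .x 34, .x 28, .x 6, .w 2]⟩ else ⟨[], [], .leaf []⟩)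
 else (bif Nat.beq k 413 then ⟨[32, 38], [45], .split 45 [0, -1, 0, 1] 411 412⟩ else ⟨[], [], .leaf []⟩))
 else (bif Nat.blt k 415 then (bif Nat.beq k 414 then ⟨[32, 38, 43], [], .leaf [.x 31, .x 28, .x 25, .x 14, .x 19, .w 1]⟩ else ⟨[], [], .leaf []⟩)
 else (bif Nat.beq k 415 then ⟨[32, 38, 43, 45], [], .leaf [.x 34, .x 31, .x 25, .x 14, .x 19, .w 1]⟩ else ⟨[], [], .leaf []⟩))))))
 else (bif Nat.blt k 432 then (bif Nat.blt k 424 then (bif Nat.blt k 420 then (bif Nat.blt k 418 then (bif Nat.blt k 417 then (bif Nat.beq k 416 then ⟨[32, 38, 43], [45], .split 45 [-1, -2, -2, 0] 414 415⟩ else ⟨[], [], .leaf []⟩)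
 else (bif Nat.beq k 417 then ⟨[32, 38], [43, 45], .split 43 [0, -1, 0, 1] 413 416⟩ else ⟨[], [], .leaf []⟩))
 else (bif Nat.blt k 419 then (bif Nat.beq k 418 then ⟨[32, 38], [43, 44, 45], .kill 44 35 1 417⟩ else ⟨[], [], .leaf []⟩)
 else (bif Nat.beq k 419 then ⟨[32], [38, 43, 44, 45], .split 38 [0, -1, 0, 0] 410 418⟩ else ⟨[], [], .leaf []⟩)))
 else (bif Nat.blt k 422 then (bif Nat.blt k 421 then (bif Nat.beq k 420 then ⟨[32, 37], [], .leaf [.x 36, .x 11, .w 0, .w 1]⟩ else ⟨[], [], .leaf []⟩)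
 else (bif Nat.beq k 421 then ⟨[32, 37, 45], [], .leaf [.x 36, .x 13, .x 34, .x 27, .x 11]⟩ else ⟨[], [], .leaf []⟩))
 else (bif Nat.blt k 423 then (bif Nat.beq k 422 then ⟨[32, 37], [45], .split 45 [0, -1, 0, -1] 420 421⟩ else ⟨[], [], .leaf []⟩)
 else (bif Nat.beq k 423 then ⟨[32, 37, 43], [], .leaf [.x 30, .x 29, .x 26, .x 14, .x 18, .w 1]⟩ else ⟨[], [], .leaf []⟩))))
 else (bif Nat.blt k 428 then (bif Nat.blt k 426 then (bif Nat.blt k 425 then (bif Nat.beq k 424 then ⟨[32, 37, 43, 45], [], .leaf [.x 34, .x 30, .x 26, .x 14, .x 18, .w 1]⟩ else ⟨[], [], .leaf []⟩)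
 else (bif Nat.beq k 425 then ⟨[32, 37, 43], [45], .split 45 [-1, -2, -2, -2] 423 424⟩ else ⟨[], [], .leaf []⟩))
 else (bif Nat.blt k 427 then (bif Nat.beq k 426 then ⟨[32, 37], [43, 45], .split 43 [0, -1, 0, -1] 422 425⟩ else ⟨[], [], .leaf []⟩)
 else (bif Nat.beq k 427 then ⟨[32, 37], [43, 44, 45], .kill 44 36 1 426⟩ else ⟨[], [], .leaf []⟩)))
 else (bif Nat.blt k 430 then (bif Nat.blt k 429 then (bif Nat.beq k 428 then ⟨[32, 37], [38, 43, 44, 45], .kill 38 24 1 427⟩ else ⟨[], [], .leaf []⟩)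
 else (bif Nat.beq k 429 then ⟨[32], [37, 38, 43, 44, 45], .split 37 [0, -1, 0, 0] 419 428⟩ else ⟨[], [], .leaf []⟩))
 else (bif Nat.blt k 431 then (bif Nat.beq k 430 then ⟨[32, 36], [], .leaf [.x 37, .x 10, .w 0, .w 1]⟩ else ⟨[], [], .leaf []⟩)
 else (bif Nat.beq k 431 then ⟨[32, 36, 45], [], .leaf [.x 30, .x 28, .x 26, .x 13, .x 19]⟩ else ⟨[], [], .leaf []⟩)))))
 else (bif Nat.blt k 440 then (bif Nat.blt k 436 then (bif Nat.blt k 434 then (bif Nat.blt k 433 then (bif Nat.beq k 432 then ⟨[32, 36], [45], .split 45 [0, -1, 0, -1] 430 431⟩ else ⟨[], [], .leaf []⟩)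
 else (bif Nat.beq k 433 then ⟨[32, 36, 43], [], .leaf [.x 19, .x 37, .x 20, .x 13, .x 10]⟩ else ⟨[], [], .leaf []⟩))
 else (bif Nat.blt k 435 then (bif Nat.beq k 434 then ⟨[32, 36, 43, 45], [], .leaf [.x 33, .x 30, .x 26, .x 13, .x 19]⟩ else ⟨[], [], .leaf []⟩)
 else (bif Nat.beq k 435 then ⟨[32, 36, 43], [45], .split 45 [-1, -2, -2, -1] 433 434⟩ else ⟨[], [], .leaf []⟩)))
 else (bif Nat.blt k 438 then (bif Nat.blt k 437 then (bif Nat.beq k 436 then ⟨[32, 36], [43, 45], .split 43 [0, -1, 0, -1] 432 435⟩ else ⟨[], [], .leaf []⟩)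
 else (bif Nat.beq k 437 then ⟨[32, 36], [43, 44, 45], .kill 44 37 1 436⟩ else ⟨[], [], .leaf []⟩))
 else (bif Nat.blt k 439 then (bif Nat.beq k 438 then ⟨[32, 36], [38, 43, 44, 45], .kill 38 27 1 437⟩ else ⟨[], [], .leaf []⟩)
 else (bif Nat.beq k 439 then ⟨[32, 36], [37, 38, 43, 44, 45], .sq 37 1 44 [] 438⟩ else ⟨[], [], .leaf []⟩))))
 else (bif Nat.blt k 444 then (bif Nat.blt k 442 then (bif Nat.blt k 441 then (bif Nat.beq k 440 then ⟨[32], [36, 37, 38, 43, 44, 45], .split 36 [0, -1, 0, 0] 429 439⟩ else ⟨[], [], .leaf []⟩)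
 else (bif Nat.beq k 441 then ⟨[32, 35], [], .leaf [.x 38, .x 9, .w 0, .w 1]⟩ else ⟨[], [], .leaf []⟩))
 else (bif Nat.blt k 443 then (bif Nat.beq k 442 then ⟨[32, 35, 45], [], .leaf [.x 31, .x 29, .x 25, .x 13, .x 18]⟩ else ⟨[], [], .leaf []⟩)
 else (bif Nat.beq k 443 then ⟨[32, 35], [45], .split 45 [0, -1, 0, 1] 441 442⟩ else ⟨[], [], .leaf []⟩)))
 else (bif Nat.blt k 446 then (bif Nat.blt k 445 then (bif Nat.beq k 444 then ⟨[32, 35, 43], [], .leaf [.x 18, .x 38, .x 20, .x 13, .x 9]⟩ else ⟨[], [], .leaf []⟩)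
 else (bif Nat.beq k 445 then ⟨[32, 35, 43, 45], [], .leaf [.x 33, .x 31, .x 25, .x 13, .x 18]⟩ else ⟨[], [], .leaf []⟩))
 else (bif Nat.blt k 447 then (bif Nat.beq k 446 then ⟨[32, 35, 43], [45], .split 45 [-1, -2, -2, -1] 444 445⟩ else ⟨[], [], .leaf []⟩)
 else (bif Nat.beq k 447 then ⟨[32, 35], [43, 45], .split 43 [0, -1, 0, 1] 443 446⟩ else ⟨[], [], .leaf []⟩)))))))

def node448 (k : ℕ) : Node :=
 (bif Nat.blt k 480 then (bif Nat.blt k 464 then (bif Nat.blt k 456 then (bif Nat.blt k 452 then (bif Nat.blt k 450 then (bif Nat.blt k 449 then (bif Nat.beq k 448 then ⟨[32, 35], [43, 44, 45], .kill 44 38 1 447⟩ else ⟨[], [], .leaf []⟩)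
 else (bif Nat.beq k 449 then ⟨[32, 35], [37, 43, 44, 45], .kill 37 27 1 448⟩ else ⟨[], [], .leaf []⟩))
 else (bif Nat.blt k 451 then (bif Nat.beq k 450 then ⟨[32, 35], [37, 38, 43, 44, 45], .sq 38 1 44 [] 449⟩ else ⟨[], [], .leaf []⟩)
 else (bif Nat.beq k 451 then ⟨[32, 35], [36, 37, 38, 43, 44, 45], .kill 36 24 1 450⟩ else ⟨[], [], .leaf []⟩)))
 else (bif Nat.blt k 454 then (bif Nat.blt k 453 then (bif Nat.beq k 452 then ⟨[32], [35, 36, 37, 38, 43, 44, 45], .split 35 [0, -1, 0, 0] 440 451⟩ else ⟨[], [], .leaf []⟩)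
 else (bif Nat.beq k 453 then ⟨[32], [35, 36, 37, 38, 43, 44, 45, 47], .kill 47 42 0 452⟩ else ⟨[], [], .leaf []⟩))
 else (bif Nat.blt k 455 then (bif Nat.beq k 454 then ⟨[32], [35, 36, 37, 38, 43, 44, 45, 46, 47], .kill 46 41 0 453⟩ else ⟨[], [], .leaf []⟩)
 else (bif Nat.beq k 455 then ⟨[32], [35, 36, 37, 38, 40, 43, 44, 45, 46, 47], .kill 40 34 0 454⟩ else ⟨[], [], .leaf []⟩))))
 else (bif Nat.blt k 460 then (bif Nat.blt k 458 then (bif Nat.blt k 457 then (bif Nat.beq k 456 then ⟨[32], [35, 36, 37, 38, 39, 40, 43, 44, 45, 46, 47], .kill 39 33 0 455⟩ else ⟨[], [], .leaf []⟩)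
 else (bif Nat.beq k 457 then ⟨[32], [35, 36, 37, 38, 39, 40, 42, 43, 44, 45, 46, 47], .sq 42 0 47 [44] 456⟩ else ⟨[], [], .leaf []⟩))
 else (bif Nat.blt k 459 then (bif Nat.beq k 458 then ⟨[32], [35, 36, 37, 38, 39, 40, 41, 42, 43, 44, 45, 46, 47], .sq 41 0 46 [44, 47] 457⟩ else ⟨[], [], .leaf []⟩)
 else (bif Nat.beq k 459 then ⟨[32], [34, 35, 36, 37, 38, 39, 40, 41, 42, 43, 44, 45, 46, 47], .sq 34 0 40 [44, 45, 46, 47] 458⟩ else ⟨[], [], .leaf []⟩)))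
 else (bif Nat.blt k 462 then (bif Nat.blt k 461 then (bif Nat.beq k 460 then ⟨[32], [33, 34, 35, 36, 37, 38, 39, 40, 41, 42, 43, 44, 45, 46, 47], .sq 33 0 39 [40, 43, 44, 45, 46, 47] 459⟩ else ⟨[], [], .leaf []⟩)
 else (bif Nat.beq k 461 then ⟨[], [32, 33, 34, 35, 36, 37, 38, 39, 40, 41, 42, 43, 44, 45, 46, 47], .split 32 [-1, 0, 0, 0] 398 460⟩ else ⟨[], [], .leaf []⟩))
 else (bif Nat.blt k 463 then (bif Nat.beq k 462 then ⟨[31], [], .leaf [.x 43, .x 4]⟩ else ⟨[], [], .leaf []⟩)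
 else (bif Nat.beq k 463 then ⟨[31, 46], [], .leaf [.x 12, .w 3, .w 0]⟩ else ⟨[], [], .leaf []⟩)))))
 else (bif Nat.blt k 472 then (bif Nat.blt k 468 then (bif Nat.blt k 466 then (bif Nat.blt k 465 then (bif Nat.beq k 464 then ⟨[31], [46], .split 46 [-1, 0, 0, -2] 462 463⟩ else ⟨[], [], .leaf []⟩)
 else (bif Nat.beq k 465 then ⟨[31, 44], [], .leaf [.w 2, .w 0, .w 1]⟩ else ⟨[], [], .leaf []⟩))
 else (bif Nat.blt k 467 then (bif Nat.beq k 466 then ⟨[31, 44, 46], [], .leaf [.x 12, .x 33, .x 28, .w 2]⟩ else ⟨[], [], .leaf []⟩)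
 else (bif Nat.beq k 467 then ⟨[31, 44], [46], .split 46 [0, -1, -2, 0] 465 466⟩ else ⟨[], [], .leaf []⟩)))
 else (bif Nat.blt k 470 then (bif Nat.blt k 469 then (bif Nat.beq k 468 then ⟨[31], [44, 46], .split 44 [-1, -1, 0, 0] 464 467⟩ else ⟨[], [], .leaf []⟩)
 else (bif Nat.beq k 469 then ⟨[31, 42], [], .leaf [.x 35, .x 19, .x 12, .w 3]⟩ else ⟨[], [], .leaf []⟩))
 else (bif Nat.blt k 471 then (bif Nat.beq k 470 then ⟨[31, 42, 46], [], .leaf [.x 33, .x 28, .x 12, .w 2]⟩ else ⟨[], [], .leaf []⟩)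
 else (bif Nat.beq k 471 then ⟨[31, 42], [46], .split 46 [-1, -2, -2, 0] 469 470⟩ else ⟨[], [], .leaf []⟩))))
 else (bif Nat.blt k 476 then (bif Nat.blt k 474 then (bif Nat.blt k 473 then (bif Nat.beq k 472 then ⟨[31, 42], [44, 46], .kill 44 28 1 471⟩ else ⟨[], [], .leaf []⟩)
 else (bif Nat.beq k 473 then ⟨[31], [42, 44, 46], .split 42 [-1, -1, 0, 0] 468 472⟩ else ⟨[], [], .leaf []⟩))
 else (bif Nat.blt k 475 then (bif Nat.beq k 474 then ⟨[31, 39], [], .leaf [.x 41, .x 6]⟩ else ⟨[], [], .leaf []⟩)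
 else (bif Nat.beq k 475 then ⟨[31, 39, 46], [], .leaf [.x 41, .x 35, .x 27, .x 6]⟩ else ⟨[], [], .leaf []⟩)))
 else (bif Nat.blt k 478 then (bif Nat.blt k 477 then (bif Nat.beq k 476 then ⟨[31, 39], [46], .split 46 [-1, 0, 0, -2] 474 475⟩ else ⟨[], [], .leaf []⟩)
 else (bif Nat.beq k 477 then ⟨[31, 39, 42], [], .leaf [.x 30, .x 33, .x 26, .x 22, .x 6]⟩ else ⟨[], [], .leaf []⟩))
 else (bif Nat.blt k 479 then (bif Nat.beq k 478 then ⟨[31, 39, 42, 46], [], .leaf [.x 22, .x 28, .x 33, .x 27, .x 26, .x 6]⟩ else ⟨[], [], .leaf []⟩)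
 else (bif Nat.beq k 479 then ⟨[31, 39, 42], [46], .split 46 [-1, -2, -2, 0] 477 478⟩ else ⟨[], [], .leaf []⟩))))))
 else (bif Nat.blt k 496 then (bif Nat.blt k 488 then (bif Nat.blt k 484 then (bif Nat.blt k 482 then (bif Nat.blt k 481 then (bif Nat.beq k 480 then ⟨[31, 39], [42, 46], .split 42 [-1, 0, 0, -2] 476 479⟩ else ⟨[], [], .leaf []⟩)
 else (bif Nat.beq k 481 then ⟨[31, 39], [42, 44, 46], .kill 44 34 1 480⟩ else ⟨[], [], .leaf []⟩))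
 else (bif Nat.blt k 483 then (bif Nat.beq k 482 then ⟨[31], [39, 42, 44, 46], .split 39 [-1, -1, 0, 0] 473 481⟩ else ⟨[], [], .leaf []⟩)
 else (bif Nat.beq k 483 then ⟨[31, 37], [], .leaf [.x 43, .x 4, .w 3, .w 2]⟩ else ⟨[], [], .leaf []⟩)))
 else (bif Nat.blt k 486 then (bif Nat.blt k 485 then (bif Nat.beq k 484 then ⟨[31, 37, 46], [], .leaf [.x 43, .x 35, .x 29, .x 4, .w 3, .w 2]⟩ else ⟨[], [], .leaf []⟩)
 else (bif Nat.beq k 485 then ⟨[31, 37], [46], .split 46 [-1, 0, 2, 0] 483 484⟩ else ⟨[], [], .leaf []⟩))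
 else (bif Nat.blt k 487 then (bif Nat.beq k 486 then ⟨[31, 37, 42], [], .leaf [.x 33, .x 6, .x 43, .x 22, .x 21, .x 4]⟩ else ⟨[], [], .leaf []⟩)
 else (bif Nat.beq k 487 then ⟨[31, 37, 42, 46], [], .leaf [.x 35, .x 30, .x 24, .x 14, .x 18, .w 2, .w 1]⟩ else ⟨[], [], .leaf []⟩))))
 else (bif Nat.blt k 492 then (bif Nat.blt k 490 then (bif Nat.blt k 489 then (bif Nat.beq k 488 then ⟨[31, 37, 42], [46], .split 46 [-1, -2, -4, -2] 486 487⟩ else ⟨[], [], .leaf []⟩)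
 else (bif Nat.beq k 489 then ⟨[31, 37], [42, 46], .split 42 [-1, 0, 2, 0] 485 488⟩ else ⟨[], [], .leaf []⟩))
 else (bif Nat.blt k 491 then (bif Nat.beq k 490 then ⟨[31, 37], [42, 44, 46], .kill 44 36 1 489⟩ else ⟨[], [], .leaf []⟩)
 else (bif Nat.beq k 491 then ⟨[31, 37], [39, 42, 44, 46], .kill 39 26 1 490⟩ else ⟨[], [], .leaf []⟩)))
 else (bif Nat.blt k 494 then (bif Nat.blt k 493 then (bif Nat.beq k 492 then ⟨[31], [37, 39, 42, 44, 46], .split 37 [-1, -1, 0, 0] 482 491⟩ else ⟨[], [], .leaf []⟩)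
 else (bif Nat.beq k 493 then ⟨[31, 36], [], .leaf [.x 35, .x 12, .w 1, .w 2]⟩ else ⟨[], [], .leaf []⟩))
 else (bif Nat.blt k 495 then (bif Nat.beq k 494 then ⟨[31, 36, 46], [], .leaf [.x 24, .x 12, .x 17, .x 30, .w 1]⟩ else ⟨[], [], .leaf []⟩)
 else (bif Nat.beq k 495 then ⟨[31, 36], [46], .split 46 [-1, 0, 3, 1] 493 494⟩ else ⟨[], [], .leaf []⟩)))))
 else (bif Nat.blt k 504 then (bif Nat.blt k 500 then (bif Nat.blt k 498 then (bif Nat.blt k 497 then (bif Nat.beq k 496 then ⟨[31, 36, 42], [], .leaf [.x 27, .x 35, .x 19, .x 12, .w 1, .w 2]⟩ else ⟨[], [], .leaf []⟩)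
 else (bif Nat.beq k 497 then ⟨[31, 36, 42, 46], [], .leaf [.x 33, .x 30, .x 24, .x 12, .x 20, .w 2]⟩ else ⟨[], [], .leaf []⟩))
 else (bif Nat.blt k 499 then (bif Nat.beq k 498 then ⟨[31, 36, 42], [46], .split 46 [-1, -2, -3, -1] 496 497⟩ else ⟨[], [], .leaf []⟩)
 else (bif Nat.beq k 499 then ⟨[31, 36], [42, 46], .split 42 [-1, -1, 0, 0] 495 498⟩ else ⟨[], [], .leaf []⟩)))
 else (bif Nat.blt k 502 then (bif Nat.blt k 501 then (bif Nat.beq k 500 then ⟨[31, 36], [42, 44, 46], .kill 44 37 1 499⟩ else ⟨[], [], .leaf []⟩)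
 else (bif Nat.beq k 501 then ⟨[31, 36], [39, 42, 44, 46], .kill 39 28 1 500⟩ else ⟨[], [], .leaf []⟩))
 else (bif Nat.blt k 503 then (bif Nat.beq k 502 then ⟨[31, 36], [37, 39, 42, 44, 46], .sq 37 1 44 [] 501⟩ else ⟨[], [], .leaf []⟩)
 else (bif Nat.beq k 503 then ⟨[31], [36, 37, 39, 42, 44, 46], .split 36 [0, 0, -1, -1] 492 502⟩ else ⟨[], [], .leaf []⟩))))
 else (bif Nat.blt k 508 then (bif Nat.blt k 506 then (bif Nat.blt k 505 then (bif Nat.beq k 504 then ⟨[31, 34], [], .leaf [.x 39, .x 8, .w 2, .w 0, .w 1]⟩ else ⟨[], [], .leaf []⟩)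
 else (bif Nat.beq k 505 then ⟨[31, 34, 46], [], .leaf [.x 32, .x 29, .x 22, .x 12, .x 18, .w 2]⟩ else ⟨[], [], .leaf []⟩))
 else (bif Nat.blt k 507 then (bif Nat.beq k 506 then ⟨[31, 34], [46], .split 46 [0, -1, -1, 1] 504 505⟩ else ⟨[], [], .leaf []⟩)
 else (bif Nat.beq k 507 then ⟨[31, 34, 42], [], .leaf [.x 18, .x 39, .x 19, .x 12, .x 8, .w 2]⟩ else ⟨[], [], .leaf []⟩)))
 else (bif Nat.blt k 510 then (bif Nat.blt k 509 then (bif Nat.beq k 508 then ⟨[31, 34, 42, 46], [], .leaf [.x 33, .x 32, .x 22, .x 12, .x 18, .w 2]⟩ else ⟨[], [], .leaf []⟩)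
 else (bif Nat.beq k 509 then ⟨[31, 34, 42], [46], .split 46 [-1, -2, -3, -1] 507 508⟩ else ⟨[], [], .leaf []⟩))
 else (bif Nat.blt k 511 then (bif Nat.beq k 510 then ⟨[31, 34], [42, 46], .split 42 [0, -1, -1, 1] 506 509⟩ else ⟨[], [], .leaf []⟩)
 else (bif Nat.beq k 511 then ⟨[31, 34], [42, 44, 46], .kill 44 39 1 510⟩ else ⟨[], [], .leaf []⟩)))))))

def node512 (k : ℕ) : Node :=
 (bif Nat.blt k 544 then (bif Nat.blt k 528 then (bif Nat.blt k 520 then (bif Nat.blt k 516 then (bif Nat.blt k 514 then (bif Nat.blt k 513 then (bif Nat.beq k 512 then ⟨[31, 34], [37, 42, 44, 46], .kill 37 28 1 511⟩ else ⟨[], [], .leaf []⟩)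
 else (bif Nat.beq k 513 then ⟨[31, 34], [37, 39, 42, 44, 46], .sq 39 1 44 [] 512⟩ else ⟨[], [], .leaf []⟩))
 else (bif Nat.blt k 515 then (bif Nat.beq k 514 then ⟨[31, 34], [36, 37, 39, 42, 44, 46], .kill 36 26 1 513⟩ else ⟨[], [], .leaf []⟩)
 else (bif Nat.beq k 515 then ⟨[31], [34, 36, 37, 39, 42, 44, 46], .split 34 [-1, -1, 0, 0] 503 514⟩ else ⟨[], [], .leaf []⟩)))
 else (bif Nat.blt k 518 then (bif Nat.blt k 517 then (bif Nat.beq k 516 then ⟨[31], [34, 36, 37, 39, 42, 44, 46, 47], .kill 47 43 0 515⟩ else ⟨[], [], .leaf []⟩)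
 else (bif Nat.beq k 517 then ⟨[31], [34, 36, 37, 39, 42, 44, 45, 46, 47], .kill 45 41 0 516⟩ else ⟨[], [], .leaf []⟩))
 else (bif Nat.blt k 519 then (bif Nat.beq k 518 then ⟨[31], [34, 36, 37, 39, 40, 42, 44, 45, 46, 47], .kill 40 35 0 517⟩ else ⟨[], [], .leaf []⟩)
 else (bif Nat.beq k 519 then ⟨[31], [34, 36, 37, 38, 39, 40, 42, 44, 45, 46, 47], .kill 38 33 0 518⟩ else ⟨[], [], .leaf []⟩))))
 else (bif Nat.blt k 524 then (bif Nat.blt k 522 then (bif Nat.blt k 521 then (bif Nat.beq k 520 then ⟨[31], [34, 36, 37, 38, 39, 40, 42, 43, 44, 45, 46, 47], .sq 43 0 47 [44] 519⟩ else ⟨[], [], .leaf []⟩)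
 else (bif Nat.beq k 521 then ⟨[31], [34, 36, 37, 38, 39, 40, 41, 42, 43, 44, 45, 46, 47], .sq 41 0 45 [44, 47] 520⟩ else ⟨[], [], .leaf []⟩))
 else (bif Nat.blt k 523 then (bif Nat.beq k 522 then ⟨[31], [34, 35, 36, 37, 38, 39, 40, 41, 42, 43, 44, 45, 46, 47], .sq 35 0 40 [44, 45, 46, 47] 521⟩ else ⟨[], [], .leaf []⟩)
 else (bif Nat.beq k 523 then ⟨[31], [32, 34, 35, 36, 37, 38, 39, 40, 41, 42, 43, 44, 45, 46, 47], .kill 32 25 0 522⟩ else ⟨[], [], .leaf []⟩)))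
 else (bif Nat.blt k 526 then (bif Nat.blt k 525 then (bif Nat.beq k 524 then ⟨[31], [32, 33, 34, 35, 36, 37, 38, 39, 40, 41, 42, 43, 44, 45, 46, 47], .sq 33 0 38 [39, 40, 42, 43, 44, 45, 46, 47] 523⟩ else ⟨[], [], .leaf []⟩)
 else (bif Nat.beq k 525 then ⟨[], [31, 32, 33, 34, 35, 36, 37, 38, 39, 40, 41, 42, 43, 44, 45, 46, 47], .split 31 [-1, 0, 0, 0] 461 524⟩ else ⟨[], [], .leaf []⟩))
 else (bif Nat.blt k 527 then (bif Nat.beq k 526 then ⟨[30], [], .leaf [.x 36, .x 11]⟩ else ⟨[], [], .leaf []⟩)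
 else (bif Nat.beq k 527 then ⟨[30, 47], [], .leaf [.x 11, .w 0]⟩ else ⟨[], [], .leaf []⟩)))))
 else (bif Nat.blt k 536 then (bif Nat.blt k 532 then (bif Nat.blt k 530 then (bif Nat.blt k 529 then (bif Nat.beq k 528 then ⟨[30], [47], .split 47 [-1, 0, 0, 2] 526 527⟩ else ⟨[], [], .leaf []⟩)
 else (bif Nat.beq k 529 then ⟨[30, 44], [], .leaf [.w 3, .w 2, .w 0, .w 1]⟩ else ⟨[], [], .leaf []⟩))
 else (bif Nat.blt k 531 then (bif Nat.beq k 530 then ⟨[30, 44, 47], [], .leaf [.x 11, .x 33, .x 29, .w 3, .w 2]⟩ else ⟨[], [], .leaf []⟩)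
 else (bif Nat.beq k 531 then ⟨[30, 44], [47], .split 47 [0, -1, 0, -2] 529 530⟩ else ⟨[], [], .leaf []⟩)))
 else (bif Nat.blt k 534 then (bif Nat.blt k 533 then (bif Nat.beq k 532 then ⟨[30], [44, 47], .split 44 [-1, -1, 0, 0] 528 531⟩ else ⟨[], [], .leaf []⟩)
 else (bif Nat.beq k 533 then ⟨[30, 41], [], .leaf [.x 36, .x 18, .x 11]⟩ else ⟨[], [], .leaf []⟩))
 else (bif Nat.blt k 535 then (bif Nat.beq k 534 then ⟨[30, 41, 47], [], .leaf [.x 33, .x 29, .x 11, .w 3, .w 2]⟩ else ⟨[], [], .leaf []⟩)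
 else (bif Nat.beq k 535 then ⟨[30, 41], [47], .split 47 [-1, -2, 0, -2] 533 534⟩ else ⟨[], [], .leaf []⟩))))
 else (bif Nat.blt k 540 then (bif Nat.blt k 538 then (bif Nat.blt k 537 then (bif Nat.beq k 536 then ⟨[30, 41], [44, 47], .kill 44 29 1 535⟩ else ⟨[], [], .leaf []⟩)
 else (bif Nat.beq k 537 then ⟨[30], [41, 44, 47], .split 41 [-1, -1, 0, 0] 532 536⟩ else ⟨[], [], .leaf []⟩))
 else (bif Nat.blt k 539 then (bif Nat.beq k 538 then ⟨[30, 39], [], .leaf [.x 42, .x 5]⟩ else ⟨[], [], .leaf []⟩)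
 else (bif Nat.beq k 539 then ⟨[30, 39, 47], [], .leaf [.x 42, .x 36, .x 27, .x 5]⟩ else ⟨[], [], .leaf []⟩)))
 else (bif Nat.blt k 542 then (bif Nat.blt k 541 then (bif Nat.beq k 540 then ⟨[30, 39], [47], .split 47 [-1, 0, 0, 2] 538 539⟩ else ⟨[], [], .leaf []⟩)
 else (bif Nat.beq k 541 then ⟨[30, 39, 41], [], .leaf [.x 31, .x 33, .x 25, .x 21, .x 5]⟩ else ⟨[], [], .leaf []⟩))
 else (bif Nat.blt k 543 then (bif Nat.beq k 542 then ⟨[30, 39, 41, 47], [], .leaf [.x 21, .x 29, .x 33, .x 27, .x 25, .x 5]⟩ else ⟨[], [], .leaf []⟩)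
 else (bif Nat.beq k 543 then ⟨[30, 39, 41], [47], .split 47 [-1, -2, -2, -2] 541 542⟩ else ⟨[], [], .leaf []⟩))))))
 else (bif Nat.blt k 560 then (bif Nat.blt k 552 then (bif Nat.blt k 548 then (bif Nat.blt k 546 then (bif Nat.blt k 545 then (bif Nat.beq k 544 then ⟨[30, 39], [41, 47], .split 41 [-1, -1, -1, 0] 540 543⟩ else ⟨[], [], .leaf []⟩)
 else (bif Nat.beq k 545 then ⟨[30, 39], [41, 44, 47], .kill 44 34 1 544⟩ else ⟨[], [], .leaf []⟩))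
 else (bif Nat.blt k 547 then (bif Nat.beq k 546 then ⟨[30], [39, 41, 44, 47], .split 39 [0, 0, -1, 0] 537 545⟩ else ⟨[], [], .leaf []⟩)
 else (bif Nat.beq k 547 then ⟨[30, 38], [], .leaf [.x 43, .x 4, .w 2]⟩ else ⟨[], [], .leaf []⟩)))
 else (bif Nat.blt k 550 then (bif Nat.blt k 549 then (bif Nat.beq k 548 then ⟨[30, 38, 47], [], .leaf [.x 43, .x 36, .x 28, .x 4, .w 2]⟩ else ⟨[], [], .leaf []⟩)
 else (bif Nat.beq k 549 then ⟨[30, 38], [47], .split 47 [-1, 0, 2, 2] 547 548⟩ else ⟨[], [], .leaf []⟩))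
 else (bif Nat.blt k 551 then (bif Nat.beq k 550 then ⟨[30, 38, 41], [], .leaf [.x 32, .x 33, .x 23, .x 22, .x 4, .w 2]⟩ else ⟨[], [], .leaf []⟩)
 else (bif Nat.beq k 551 then ⟨[30, 38, 41, 47], [], .leaf [.x 23, .x 29, .x 33, .x 28, .x 22, .x 4, .w 2]⟩ else ⟨[], [], .leaf []⟩))))
 else (bif Nat.blt k 556 then (bif Nat.blt k 554 then (bif Nat.blt k 553 then (bif Nat.beq k 552 then ⟨[30, 38, 41], [47], .split 47 [-1, -2, -4, -2] 550 551⟩ else ⟨[], [], .leaf []⟩)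
 else (bif Nat.beq k 553 then ⟨[30, 38], [41, 47], .split 41 [-1, -1, -1, 0] 549 552⟩ else ⟨[], [], .leaf []⟩))
 else (bif Nat.blt k 555 then (bif Nat.beq k 554 then ⟨[30, 38], [41, 44, 47], .kill 44 35 1 553⟩ else ⟨[], [], .leaf []⟩)
 else (bif Nat.beq k 555 then ⟨[30, 38], [39, 41, 44, 47], .kill 39 25 1 554⟩ else ⟨[], [], .leaf []⟩)))
 else (bif Nat.blt k 558 then (bif Nat.blt k 557 then (bif Nat.beq k 556 then ⟨[30], [38, 39, 41, 44, 47], .split 38 [0, 0, -1, 0] 546 555⟩ else ⟨[], [], .leaf []⟩)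
 else (bif Nat.beq k 557 then ⟨[30, 35], [], .leaf [.x 42, .x 29, .x 18, .x 5]⟩ else ⟨[], [], .leaf []⟩))
 else (bif Nat.blt k 559 then (bif Nat.beq k 558 then ⟨[30, 35, 47], [], .leaf [.x 11, .x 16, .x 24, .x 30, .w 1]⟩ else ⟨[], [], .leaf []⟩)
 else (bif Nat.beq k 559 then ⟨[30, 35], [47], .split 47 [-1, 0, 3, 2] 557 558⟩ else ⟨[], [], .leaf []⟩)))))
 else (bif Nat.blt k 568 then (bif Nat.blt k 564 then (bif Nat.blt k 562 then (bif Nat.blt k 561 then (bif Nat.beq k 560 then ⟨[30, 35, 41], [], .leaf [.x 42, .x 33, .x 29, .x 27, .x 18, .x 5]⟩ else ⟨[], [], .leaf []⟩)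
 else (bif Nat.beq k 561 then ⟨[30, 35, 41, 47], [], .leaf [.x 33, .x 11, .x 16, .x 31, .x 30, .x 18, .w 1]⟩ else ⟨[], [], .leaf []⟩))
 else (bif Nat.blt k 563 then (bif Nat.beq k 562 then ⟨[30, 35, 41], [47], .split 47 [-1, -2, -3, -2] 560 561⟩ else ⟨[], [], .leaf []⟩)
 else (bif Nat.beq k 563 then ⟨[30, 35], [41, 47], .split 41 [-1, -1, 0, 0] 559 562⟩ else ⟨[], [], .leaf []⟩)))
 else (bif Nat.blt k 566 then (bif Nat.blt k 565 then (bif Nat.beq k 564 then ⟨[30, 35], [41, 44, 47], .kill 44 38 1 563⟩ else ⟨[], [], .leaf []⟩)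
 else (bif Nat.beq k 565 then ⟨[30, 35], [39, 41, 44, 47], .kill 39 29 1 564⟩ else ⟨[], [], .leaf []⟩))
 else (bif Nat.blt k 567 then (bif Nat.beq k 566 then ⟨[30, 35], [38, 39, 41, 44, 47], .sq 38 1 44 [] 565⟩ else ⟨[], [], .leaf []⟩)
 else (bif Nat.beq k 567 then ⟨[30], [35, 38, 39, 41, 44, 47], .split 35 [0, 0, -1, 0] 556 566⟩ else ⟨[], [], .leaf []⟩))))
 else (bif Nat.blt k 572 then (bif Nat.blt k 570 then (bif Nat.blt k 569 then (bif Nat.beq k 568 then ⟨[30, 34], [], .leaf [.x 43, .x 29, .x 18, .x 4, .w 2]⟩ else ⟨[], [], .leaf []⟩)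
 else (bif Nat.beq k 569 then ⟨[30, 34, 47], [], .leaf [.x 11, .x 15, .x 26, .x 30, .w 2, .w 1]⟩ else ⟨[], [], .leaf []⟩))
 else (bif Nat.blt k 571 then (bif Nat.beq k 570 then ⟨[30, 34], [47], .split 47 [-1, 0, -1, 2] 568 569⟩ else ⟨[], [], .leaf []⟩)
 else (bif Nat.beq k 571 then ⟨[30, 34, 41], [], .leaf [.x 19, .x 39, .x 18, .x 11, .x 8, .w 3, .w 2]⟩ else ⟨[], [], .leaf []⟩)))
 else (bif Nat.blt k 574 then (bif Nat.blt k 573 then (bif Nat.beq k 572 then ⟨[30, 34, 41, 47], [], .leaf [.x 33, .x 32, .x 11, .x 19, .x 26, .x 21]⟩ else ⟨[], [], .leaf []⟩)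
 else (bif Nat.beq k 573 then ⟨[30, 34, 41], [47], .split 47 [-1, -2, -3, -2] 571 572⟩ else ⟨[], [], .leaf []⟩))
 else (bif Nat.blt k 575 then (bif Nat.beq k 574 then ⟨[30, 34], [41, 47], .split 41 [-1, -1, -2, 0] 570 573⟩ else ⟨[], [], .leaf []⟩)
 else (bif Nat.beq k 575 then ⟨[30, 34], [41, 44, 47], .kill 44 39 1 574⟩ else ⟨[], [], .leaf []⟩)))))))

def node576 (k : ℕ) : Node :=
 (bif Nat.blt k 608 then (bif Nat.blt k 592 then (bif Nat.blt k 584 then (bif Nat.blt k 580 then (bif Nat.blt k 578 then (bif Nat.blt k 577 then (bif Nat.beq k 576 then ⟨[30, 34], [38, 41, 44, 47], .kill 38 29 1 575⟩ else ⟨[], [], .leaf []⟩)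
 else (bif Nat.beq k 577 then ⟨[30, 34], [38, 39, 41, 44, 47], .sq 39 1 44 [] 576⟩ else ⟨[], [], .leaf []⟩))
 else (bif Nat.blt k 579 then (bif Nat.beq k 578 then ⟨[30, 34], [35, 38, 39, 41, 44, 47], .kill 35 25 1 577⟩ else ⟨[], [], .leaf []⟩)
 else (bif Nat.beq k 579 then ⟨[30], [34, 35, 38, 39, 41, 44, 47], .split 34 [0, 0, -1, 0] 567 578⟩ else ⟨[], [], .leaf []⟩)))
 else (bif Nat.blt k 582 then (bif Nat.blt k 581 then (bif Nat.beq k 580 then ⟨[30], [34, 35, 38, 39, 41, 44, 46, 47], .kill 46 43 0 579⟩ else ⟨[], [], .leaf []⟩)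
 else (bif Nat.beq k 581 then ⟨[30], [34, 35, 38, 39, 41, 44, 45, 46, 47], .kill 45 42 0 580⟩ else ⟨[], [], .leaf []⟩))
 else (bif Nat.blt k 583 then (bif Nat.beq k 582 then ⟨[30], [34, 35, 38, 39, 40, 41, 44, 45, 46, 47], .kill 40 36 0 581⟩ else ⟨[], [], .leaf []⟩)
 else (bif Nat.beq k 583 then ⟨[30], [34, 35, 37, 38, 39, 40, 41, 44, 45, 46, 47], .kill 37 33 0 582⟩ else ⟨[], [], .leaf []⟩))))
 else (bif Nat.blt k 588 then (bif Nat.blt k 586 then (bif Nat.blt k 585 then (bif Nat.beq k 584 then ⟨[30], [34, 35, 37, 38, 39, 40, 41, 43, 44, 45, 46, 47], .sq 43 0 46 [44] 583⟩ else ⟨[], [], .leaf []⟩)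
 else (bif Nat.beq k 585 then ⟨[30], [34, 35, 37, 38, 39, 40, 41, 42, 43, 44, 45, 46, 47], .sq 42 0 45 [44, 46] 584⟩ else ⟨[], [], .leaf []⟩))
 else (bif Nat.blt k 587 then (bif Nat.beq k 586 then ⟨[30], [34, 35, 36, 37, 38, 39, 40, 41, 42, 43, 44, 45, 46, 47], .sq 36 0 40 [44, 45, 46, 47] 585⟩ else ⟨[], [], .leaf []⟩)
 else (bif Nat.beq k 587 then ⟨[30], [32, 34, 35, 36, 37, 38, 39, 40, 41, 42, 43, 44, 45, 46, 47], .kill 32 26 0 586⟩ else ⟨[], [], .leaf []⟩)))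
 else (bif Nat.blt k 590 then (bif Nat.blt k 589 then (bif Nat.beq k 588 then ⟨[30], [31, 32, 34, 35, 36, 37, 38, 39, 40, 41, 42, 43, 44, 45, 46, 47], .kill 31 24 0 587⟩ else ⟨[], [], .leaf []⟩)
 else (bif Nat.beq k 589 then ⟨[30], [31, 32, 33, 34, 35, 36, 37, 38, 39, 40, 41, 42, 43, 44, 45, 46, 47], .sq 33 0 37 [38, 39, 40, 41, 42, 43, 44, 45, 46, 47] 588⟩ else ⟨[], [], .leaf []⟩))
 else (bif Nat.blt k 591 then (bif Nat.beq k 590 then ⟨[], [30, 31, 32, 33, 34, 35, 36, 37, 38, 39, 40, 41, 42, 43, 44, 45, 46, 47], .split 30 [-1, 0, 0, 0] 525 589⟩ else ⟨[], [], .leaf []⟩)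
 else (bif Nat.beq k 591 then ⟨[29], [], .leaf [.x 41, .x 6]⟩ else ⟨[], [], .leaf []⟩)))))
 else (bif Nat.blt k 600 then (bif Nat.blt k 596 then (bif Nat.blt k 594 then (bif Nat.blt k 593 then (bif Nat.beq k 592 then ⟨[29, 47], [], .leaf [.x 41, .x 6]⟩ else ⟨[], [], .leaf []⟩)
 else (bif Nat.beq k 593 then ⟨[29], [47], .split 47 [-1, 0, 0, -1] 591 592⟩ else ⟨[], [], .leaf []⟩))
 else (bif Nat.blt k 595 then (bif Nat.beq k 594 then ⟨[29, 46], [], .leaf [.w 0, .w 1, .w 2]⟩ else ⟨[], [], .leaf []⟩)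
 else (bif Nat.beq k 595 then ⟨[29, 46], [47], .kill 47 24 1 594⟩ else ⟨[], [], .leaf []⟩)))
 else (bif Nat.blt k 598 then (bif Nat.blt k 597 then (bif Nat.beq k 596 then ⟨[29], [46, 47], .split 46 [0, 0, -1, 0] 593 595⟩ else ⟨[], [], .leaf []⟩)
 else (bif Nat.beq k 597 then ⟨[29, 45], [], .leaf [.x 35, .x 12]⟩ else ⟨[], [], .leaf []⟩))
 else (bif Nat.blt k 599 then (bif Nat.beq k 598 then ⟨[29, 45], [47], .kill 47 26 1 597⟩ else ⟨[], [], .leaf []⟩)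
 else (bif Nat.beq k 599 then ⟨[29, 45], [46, 47], .kill 46 25 1 598⟩ else ⟨[], [], .leaf []⟩))))
 else (bif Nat.blt k 604 then (bif Nat.blt k 602 then (bif Nat.blt k 601 then (bif Nat.beq k 600 then ⟨[29], [45, 46, 47], .split 45 [0, -1, 0, 0] 596 599⟩ else ⟨[], [], .leaf []⟩)
 else (bif Nat.beq k 601 then ⟨[29, 43], [], .leaf [.x 37, .x 10, .w 1]⟩ else ⟨[], [], .leaf []⟩))
 else (bif Nat.blt k 603 then (bif Nat.beq k 602 then ⟨[29, 43, 45], [], .leaf [.x 41, .x 35, .x 26, .x 20, .x 12]⟩ else ⟨[], [], .leaf []⟩)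
 else (bif Nat.beq k 603 then ⟨[29, 43], [45], .split 45 [-1, -1, 0, -1] 601 602⟩ else ⟨[], [], .leaf []⟩)))
 else (bif Nat.blt k 606 then (bif Nat.blt k 605 then (bif Nat.beq k 604 then ⟨[29, 43], [45, 47], .kill 47 31 1 603⟩ else ⟨[], [], .leaf []⟩)
 else (bif Nat.beq k 605 then ⟨[29, 43], [45, 46, 47], .kill 46 30 1 604⟩ else ⟨[], [], .leaf []⟩))
 else (bif Nat.blt k 607 then (bif Nat.beq k 606 then ⟨[29], [43, 45, 46, 47], .split 43 [0, -1, 0, 0] 600 605⟩ else ⟨[], [], .leaf []⟩)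
 else (bif Nat.beq k 607 then ⟨[29, 42], [], .leaf [.x 37, .x 10, .w 2, .w 1]⟩ else ⟨[], [], .leaf []⟩))))))
 else (bif Nat.blt k 624 then (bif Nat.blt k 616 then (bif Nat.blt k 612 then (bif Nat.blt k 610 then (bif Nat.blt k 609 then (bif Nat.beq k 608 then ⟨[29, 42, 46], [], .leaf [.x 24, .x 19, .x 6, .x 41, .w 0, .w 1]⟩ else ⟨[], [], .leaf []⟩)
 else (bif Nat.beq k 609 then ⟨[29, 42], [46], .split 46 [-1, 0, -3, -1] 607 608⟩ else ⟨[], [], .leaf []⟩))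
 else (bif Nat.blt k 611 then (bif Nat.beq k 610 then ⟨[29, 42], [46, 47], .kill 47 32 1 609⟩ else ⟨[], [], .leaf []⟩)
 else (bif Nat.beq k 611 then ⟨[29, 42], [45, 46, 47], .kill 45 30 1 610⟩ else ⟨[], [], .leaf []⟩)))
 else (bif Nat.blt k 614 then (bif Nat.blt k 613 then (bif Nat.beq k 612 then ⟨[29, 42], [43, 45, 46, 47], .kill 43 25 1 611⟩ else ⟨[], [], .leaf []⟩)
 else (bif Nat.beq k 613 then ⟨[29], [42, 43, 45, 46, 47], .split 42 [0, 0, -1, 0] 606 612⟩ else ⟨[], [], .leaf []⟩))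
 else (bif Nat.blt k 615 then (bif Nat.beq k 614 then ⟨[29, 32], [], .leaf [.x 41, .x 6, .w 3]⟩ else ⟨[], [], .leaf []⟩)
 else (bif Nat.beq k 615 then ⟨[29, 32, 46], [], .leaf [.x 41, .x 6, .w 0, .w 1]⟩ else ⟨[], [], .leaf []⟩))))
 else (bif Nat.blt k 620 then (bif Nat.blt k 618 then (bif Nat.blt k 617 then (bif Nat.beq k 616 then ⟨[29, 32], [46], .split 46 [-1, 0, -2, -1] 614 615⟩ else ⟨[], [], .leaf []⟩)
 else (bif Nat.beq k 617 then ⟨[29, 32, 45], [], .leaf [.x 35, .x 27, .x 13, .x 12]⟩ else ⟨[], [], .leaf []⟩))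
 else (bif Nat.blt k 619 then (bif Nat.beq k 618 then ⟨[29, 32, 45], [46], .kill 46 25 2 617⟩ else ⟨[], [], .leaf []⟩)
 else (bif Nat.beq k 619 then ⟨[29, 32], [45, 46], .split 45 [0, -1, 0, 0] 616 618⟩ else ⟨[], [], .leaf []⟩)))
 else (bif Nat.blt k 622 then (bif Nat.blt k 621 then (bif Nat.beq k 620 then ⟨[29, 32, 43], [], .leaf [.x 37, .x 20, .x 14, .x 10, .w 1]⟩ else ⟨[], [], .leaf []⟩)
 else (bif Nat.beq k 621 then ⟨[29, 32, 43, 45], [], .leaf [.x 14, .x 41, .x 26, .x 20, .x 12]⟩ else ⟨[], [], .leaf []⟩))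
 else (bif Nat.blt k 623 then (bif Nat.beq k 622 then ⟨[29, 32, 43], [45], .split 45 [-1, -2, -2, -1] 620 621⟩ else ⟨[], [], .leaf []⟩)
 else (bif Nat.beq k 623 then ⟨[29, 32, 43], [45, 46], .kill 46 30 2 622⟩ else ⟨[], [], .leaf []⟩)))))
 else (bif Nat.blt k 632 then (bif Nat.blt k 628 then (bif Nat.blt k 626 then (bif Nat.blt k 625 then (bif Nat.beq k 624 then ⟨[29, 32], [43, 45, 46], .split 43 [0, -1, 0, 0] 619 623⟩ else ⟨[], [], .leaf []⟩)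
 else (bif Nat.beq k 625 then ⟨[29, 32], [43, 45, 46, 47], .kill 47 42 1 624⟩ else ⟨[], [], .leaf []⟩))
 else (bif Nat.blt k 627 then (bif Nat.beq k 626 then ⟨[29, 32], [42, 43, 45, 46, 47], .sq 42 1 47 [] 625⟩ else ⟨[], [], .leaf []⟩)
 else (bif Nat.beq k 627 then ⟨[29], [32, 42, 43, 45, 46, 47], .split 32 [0, 0, -1, 0] 613 626⟩ else ⟨[], [], .leaf []⟩)))
 else (bif Nat.blt k 630 then (bif Nat.blt k 629 then (bif Nat.beq k 628 then ⟨[29, 31], [], .leaf [.x 41, .x 6, .w 2, .w 3]⟩ else ⟨[], [], .leaf []⟩)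
 else (bif Nat.beq k 629 then ⟨[29, 31, 46], [], .leaf [.x 37, .x 12, .w 0, .w 1, .w 2]⟩ else ⟨[], [], .leaf []⟩))
 else (bif Nat.blt k 631 then (bif Nat.beq k 630 then ⟨[29, 31], [46], .split 46 [-1, 0, 1, -1] 628 629⟩ else ⟨[], [], .leaf []⟩)
 else (bif Nat.beq k 631 then ⟨[29, 31, 45], [], .leaf [.x 6, .x 35, .x 12]⟩ else ⟨[], [], .leaf []⟩))))
 else (bif Nat.blt k 636 then (bif Nat.blt k 634 then (bif Nat.blt k 633 then (bif Nat.beq k 632 then ⟨[29, 31, 45, 46], [], .leaf [.x 35, .x 27, .x 12, .x 6]⟩ else ⟨[], [], .leaf []⟩)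
 else (bif Nat.beq k 633 then ⟨[29, 31, 45], [46], .split 46 [0, -1, -2, 0] 631 632⟩ else ⟨[], [], .leaf []⟩))
 else (bif Nat.blt k 635 then (bif Nat.beq k 634 then ⟨[29, 31], [45, 46], .split 45 [-1, 0, 1, -1] 630 633⟩ else ⟨[], [], .leaf []⟩)
 else (bif Nat.beq k 635 then ⟨[29, 31, 42], [], .leaf [.x 37, .x 19, .x 14, .x 10, .w 2, .w 1]⟩ else ⟨[], [], .leaf []⟩)))
 else (bif Nat.blt k 638 then (bif Nat.blt k 637 then (bif Nat.beq k 636 then ⟨[29, 31, 42, 46], [], .leaf [.x 14, .x 41, .x 24, .x 19, .x 13, .w 2]⟩ else ⟨[], [], .leaf []⟩)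
 else (bif Nat.beq k 637 then ⟨[29, 31, 42], [46], .split 46 [-1, -2, -3, -1] 635 636⟩ else ⟨[], [], .leaf []⟩))
 else (bif Nat.blt k 639 then (bif Nat.beq k 638 then ⟨[29, 31, 42], [45, 46], .kill 45 30 2 637⟩ else ⟨[], [], .leaf []⟩)
 else (bif Nat.beq k 639 then ⟨[29, 31], [42, 45, 46], .split 42 [-1, 0, 1, -1] 634 638⟩ else ⟨[], [], .leaf []⟩)))))))

def node640 (k : ℕ) : Node :=
 (bif Nat.blt k 672 then (bif Nat.blt k 656 then (bif Nat.blt k 648 then (bif Nat.blt k 644 then (bif Nat.blt k 642 then (bif Nat.blt k 641 then (bif Nat.beq k 640 then ⟨[29, 31], [42, 45, 46, 47], .kill 47 43 1 639⟩ else ⟨[], [], .leaf []⟩)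
 else (bif Nat.beq k 641 then ⟨[29, 31], [42, 43, 45, 46, 47], .sq 43 1 47 [] 640⟩ else ⟨[], [], .leaf []⟩))
 else (bif Nat.blt k 643 then (bif Nat.beq k 642 then ⟨[29, 31], [32, 42, 43, 45, 46, 47], .kill 32 25 1 641⟩ else ⟨[], [], .leaf []⟩)
 else (bif Nat.beq k 643 then ⟨[29], [31, 32, 42, 43, 45, 46, 47], .split 31 [0, -1, 0, 0] 627 642⟩ else ⟨[], [], .leaf []⟩)))
 else (bif Nat.blt k 646 then (bif Nat.blt k 645 then (bif Nat.beq k 644 then ⟨[29, 30], [], .leaf [.x 42, .x 35, .x 12, .x 5]⟩ else ⟨[], [], .leaf []⟩)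
 else (bif Nat.beq k 645 then ⟨[29, 30, 47], [], .leaf [.x 42, .x 36, .x 35, .x 27, .x 12, .x 5]⟩ else ⟨[], [], .leaf []⟩))
 else (bif Nat.blt k 647 then (bif Nat.beq k 646 then ⟨[29, 30], [47], .split 47 [-2, -3, 0, -2] 644 645⟩ else ⟨[], [], .leaf []⟩)
 else (bif Nat.beq k 647 then ⟨[29, 30], [46, 47], .kill 46 43 1 646⟩ else ⟨[], [], .leaf []⟩))))
 else (bif Nat.blt k 652 then (bif Nat.blt k 650 then (bif Nat.blt k 649 then (bif Nat.beq k 648 then ⟨[29, 30], [45, 46, 47], .kill 45 42 1 647⟩ else ⟨[], [], .leaf []⟩)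
 else (bif Nat.beq k 649 then ⟨[29, 30], [32, 45, 46, 47], .kill 32 26 1 648⟩ else ⟨[], [], .leaf []⟩))
 else (bif Nat.blt k 651 then (bif Nat.beq k 650 then ⟨[29, 30], [31, 32, 45, 46, 47], .kill 31 24 1 649⟩ else ⟨[], [], .leaf []⟩)
 else (bif Nat.beq k 651 then ⟨[29, 30], [31, 32, 43, 45, 46, 47], .sq 43 1 46 [47] 650⟩ else ⟨[], [], .leaf []⟩)))
 else (bif Nat.blt k 654 then (bif Nat.blt k 653 then (bif Nat.beq k 652 then ⟨[29, 30], [31, 32, 42, 43, 45, 46, 47], .sq 42 1 45 [46, 47] 651⟩ else ⟨[], [], .leaf []⟩)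
 else (bif Nat.beq k 653 then ⟨[29], [30, 31, 32, 42, 43, 45, 46, 47], .split 30 [0, -1, 0, 0] 643 652⟩ else ⟨[], [], .leaf []⟩))
 else (bif Nat.blt k 655 then (bif Nat.beq k 654 then ⟨[29], [30, 31, 32, 42, 43, 44, 45, 46, 47], .kill 44 41 0 653⟩ else ⟨[], [], .leaf []⟩)
 else (bif Nat.beq k 655 then ⟨[29], [30, 31, 32, 40, 42, 43, 44, 45, 46, 47], .kill 40 37 0 654⟩ else ⟨[], [], .leaf []⟩)))))
 else (bif Nat.blt k 664 then (bif Nat.blt k 660 then (bif Nat.blt k 658 then (bif Nat.blt k 657 then (bif Nat.beq k 656 then ⟨[29], [30, 31, 32, 39, 40, 42, 43, 44, 45, 46, 47], .kill 39 35 0 655⟩ else ⟨[], [], .leaf []⟩)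
 else (bif Nat.beq k 657 then ⟨[29], [30, 31, 32, 38, 39, 40, 42, 43, 44, 45, 46, 47], .kill 38 34 0 656⟩ else ⟨[], [], .leaf []⟩))
 else (bif Nat.blt k 659 then (bif Nat.beq k 658 then ⟨[29], [30, 31, 32, 38, 39, 40, 41, 42, 43, 44, 45, 46, 47], .sq 41 0 44 [45, 46, 47] 657⟩ else ⟨[], [], .leaf []⟩)
 else (bif Nat.beq k 659 then ⟨[29], [30, 31, 32, 37, 38, 39, 40, 41, 42, 43, 44, 45, 46, 47], .sq 37 0 40 [44, 45, 46, 47] 658⟩ else ⟨[], [], .leaf []⟩)))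
 else (bif Nat.blt k 662 then (bif Nat.blt k 661 then (bif Nat.beq k 660 then ⟨[29], [30, 31, 32, 36, 37, 38, 39, 40, 41, 42, 43, 44, 45, 46, 47], .kill 36 33 0 659⟩ else ⟨[], [], .leaf []⟩)
 else (bif Nat.beq k 661 then ⟨[29], [30, 31, 32, 35, 36, 37, 38, 39, 40, 41, 42, 43, 44, 45, 46, 47], .sq 35 0 39 [40, 44, 45, 46, 47] 660⟩ else ⟨[], [], .leaf []⟩))
 else (bif Nat.blt k 663 then (bif Nat.beq k 662 then ⟨[29], [30, 31, 32, 34, 35, 36, 37, 38, 39, 40, 41, 42, 43, 44, 45, 46, 47], .sq 34 0 38 [39, 40, 44, 45, 46, 47] 661⟩ else ⟨[], [], .leaf []⟩)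
 else (bif Nat.beq k 663 then ⟨[29], [30, 31, 32, 33, 34, 35, 36, 37, 38, 39, 40, 41, 42, 43, 44, 45, 46, 47], .sq 33 0 36 [37, 38, 39, 40, 41, 42, 43, 44, 45, 46, 47] 662⟩ else ⟨[], [], .leaf []⟩))))
 else (bif Nat.blt k 668 then (bif Nat.blt k 666 then (bif Nat.blt k 665 then (bif Nat.beq k 664 then ⟨[], [29, 30, 31, 32, 33, 34, 35, 36, 37, 38, 39, 40, 41, 42, 43, 44, 45, 46, 47], .split 29 [-1, 0, 0, 0] 590 663⟩ else ⟨[], [], .leaf []⟩)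
 else (bif Nat.beq k 665 then ⟨[28], [], .leaf [.x 42, .x 5]⟩ else ⟨[], [], .leaf []⟩))
 else (bif Nat.blt k 667 then (bif Nat.beq k 666 then ⟨[28, 47], [], .leaf [.w 3, .w 0, .w 1, .w 2]⟩ else ⟨[], [], .leaf []⟩)
 else (bif Nat.beq k 667 then ⟨[28], [47], .split 47 [-1, 0, 0, 1] 665 666⟩ else ⟨[], [], .leaf []⟩)))
 else (bif Nat.blt k 670 then (bif Nat.blt k 669 then (bif Nat.beq k 668 then ⟨[28, 46], [], .leaf [.x 42, .x 5, .w 3]⟩ else ⟨[], [], .leaf []⟩)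
 else (bif Nat.beq k 669 then ⟨[28, 46, 47], [], .leaf [.x 23, .w 3, .w 0, .w 1, .w 2]⟩ else ⟨[], [], .leaf []⟩))
 else (bif Nat.blt k 671 then (bif Nat.beq k 670 then ⟨[28, 46], [47], .split 47 [0, 0, -1, -1] 668 669⟩ else ⟨[], [], .leaf []⟩)
 else (bif Nat.beq k 671 then ⟨[28], [46, 47], .split 46 [-1, 0, -1, 0] 667 670⟩ else ⟨[], [], .leaf []⟩))))))
 else (bif Nat.blt k 688 then (bif Nat.blt k 680 then (bif Nat.blt k 676 then (bif Nat.blt k 674 then (bif Nat.blt k 673 then (bif Nat.beq k 672 then ⟨[28, 45], [], .leaf [.x 36, .x 11]⟩ else ⟨[], [], .leaf []⟩)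
 else (bif Nat.beq k 673 then ⟨[28, 45], [47], .kill 47 26 1 672⟩ else ⟨[], [], .leaf []⟩))
 else (bif Nat.blt k 675 then (bif Nat.beq k 674 then ⟨[28, 45], [46, 47], .kill 46 25 1 673⟩ else ⟨[], [], .leaf []⟩)
 else (bif Nat.beq k 675 then ⟨[28], [45, 46, 47], .split 45 [0, -1, 0, 0] 671 674⟩ else ⟨[], [], .leaf []⟩)))
 else (bif Nat.blt k 678 then (bif Nat.blt k 677 then (bif Nat.beq k 676 then ⟨[28, 43], [], .leaf [.x 38, .x 9, .w 1]⟩ else ⟨[], [], .leaf []⟩)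
 else (bif Nat.beq k 677 then ⟨[28, 43, 45], [], .leaf [.x 42, .x 36, .x 25, .x 20, .x 11]⟩ else ⟨[], [], .leaf []⟩))
 else (bif Nat.blt k 679 then (bif Nat.beq k 678 then ⟨[28, 43], [45], .split 45 [-1, -1, 0, 1] 676 677⟩ else ⟨[], [], .leaf []⟩)
 else (bif Nat.beq k 679 then ⟨[28, 43], [45, 47], .kill 47 31 1 678⟩ else ⟨[], [], .leaf []⟩))))
 else (bif Nat.blt k 684 then (bif Nat.blt k 682 then (bif Nat.blt k 681 then (bif Nat.beq k 680 then ⟨[28, 43], [45, 46, 47], .kill 46 30 1 679⟩ else ⟨[], [], .leaf []⟩)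
 else (bif Nat.beq k 681 then ⟨[28], [43, 45, 46, 47], .split 43 [0, -1, 0, 0] 675 680⟩ else ⟨[], [], .leaf []⟩))
 else (bif Nat.blt k 683 then (bif Nat.beq k 682 then ⟨[28, 41], [], .leaf [.x 36, .x 31, .x 16, .x 11]⟩ else ⟨[], [], .leaf []⟩)
 else (bif Nat.beq k 683 then ⟨[28, 41, 47], [], .leaf [.x 18, .x 5, .x 24, .x 41, .w 0, .w 1]⟩ else ⟨[], [], .leaf []⟩)))
 else (bif Nat.blt k 686 then (bif Nat.blt k 685 then (bif Nat.beq k 684 then ⟨[28, 41], [47], .split 47 [-1, 0, -3, -2] 682 683⟩ else ⟨[], [], .leaf []⟩)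
 else (bif Nat.beq k 685 then ⟨[28, 41], [46, 47], .kill 46 32 1 684⟩ else ⟨[], [], .leaf []⟩))
 else (bif Nat.blt k 687 then (bif Nat.beq k 686 then ⟨[28, 41], [45, 46, 47], .kill 45 31 1 685⟩ else ⟨[], [], .leaf []⟩)
 else (bif Nat.beq k 687 then ⟨[28, 41], [43, 45, 46, 47], .kill 43 26 1 686⟩ else ⟨[], [], .leaf []⟩)))))
 else (bif Nat.blt k 696 then (bif Nat.blt k 692 then (bif Nat.blt k 690 then (bif Nat.blt k 689 then (bif Nat.beq k 688 then ⟨[28], [41, 43, 45, 46, 47], .split 41 [-1, 0, -1, 0] 681 687⟩ else ⟨[], [], .leaf []⟩)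
 else (bif Nat.beq k 689 then ⟨[28, 32], [], .leaf [.x 42, .x 5]⟩ else ⟨[], [], .leaf []⟩))
 else (bif Nat.blt k 691 then (bif Nat.beq k 690 then ⟨[28, 32, 47], [], .leaf [.x 42, .x 5, .w 0, .w 1]⟩ else ⟨[], [], .leaf []⟩)
 else (bif Nat.beq k 691 then ⟨[28, 32], [47], .split 47 [-1, 0, -2, -1] 689 690⟩ else ⟨[], [], .leaf []⟩)))
 else (bif Nat.blt k 694 then (bif Nat.blt k 693 then (bif Nat.beq k 692 then ⟨[28, 32, 45], [], .leaf [.x 36, .x 27, .x 13, .x 11]⟩ else ⟨[], [], .leaf []⟩)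
 else (bif Nat.beq k 693 then ⟨[28, 32, 45], [47], .kill 47 26 2 692⟩ else ⟨[], [], .leaf []⟩))
 else (bif Nat.blt k 695 then (bif Nat.beq k 694 then ⟨[28, 32], [45, 47], .split 45 [0, -1, 0, 0] 691 693⟩ else ⟨[], [], .leaf []⟩)
 else (bif Nat.beq k 695 then ⟨[28, 32, 43], [], .leaf [.x 38, .x 20, .x 14, .x 9, .w 1]⟩ else ⟨[], [], .leaf []⟩))))
 else (bif Nat.blt k 700 then (bif Nat.blt k 698 then (bif Nat.blt k 697 then (bif Nat.beq k 696 then ⟨[28, 32, 43, 45], [], .leaf [.x 14, .x 42, .x 25, .x 20, .x 11]⟩ else ⟨[], [], .leaf []⟩)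
 else (bif Nat.beq k 697 then ⟨[28, 32, 43], [45], .split 45 [-1, -2, -2, -1] 695 696⟩ else ⟨[], [], .leaf []⟩))
 else (bif Nat.blt k 699 then (bif Nat.beq k 698 then ⟨[28, 32, 43], [45, 47], .kill 47 31 2 697⟩ else ⟨[], [], .leaf []⟩)
 else (bif Nat.beq k 699 then ⟨[28, 32], [43, 45, 47], .split 43 [0, -1, 0, 0] 694 698⟩ else ⟨[], [], .leaf []⟩)))
 else (bif Nat.blt k 702 then (bif Nat.blt k 701 then (bif Nat.beq k 700 then ⟨[28, 32], [43, 45, 46, 47], .kill 46 41 1 699⟩ else ⟨[], [], .leaf []⟩)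
 else (bif Nat.beq k 701 then ⟨[28, 32], [41, 43, 45, 46, 47], .sq 41 1 46 [] 700⟩ else ⟨[], [], .leaf []⟩))
 else (bif Nat.blt k 703 then (bif Nat.beq k 702 then ⟨[28], [32, 41, 43, 45, 46, 47], .split 32 [-1, 0, -1, 0] 688 701⟩ else ⟨[], [], .leaf []⟩)
 else (bif Nat.beq k 703 then ⟨[28, 31], [], .leaf [.x 41, .x 36, .x 11, .x 6]⟩ else ⟨[], [], .leaf []⟩)))))))

def node704 (k : ℕ) : Node :=
 (bif Nat.blt k 736 then (bif Nat.blt k 720 then (bif Nat.blt k 712 then (bif Nat.blt k 708 then (bif Nat.blt k 706 then (bif Nat.blt k 705 then (bif Nat.beq k 704 then ⟨[28, 31, 46], [], .leaf [.x 12, .x 9, .x 42, .x 28, .x 5, .w 2]⟩ else ⟨[], [], .leaf []⟩)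
 else (bif Nat.beq k 705 then ⟨[28, 31], [46], .split 46 [-2, -3, -2, 0] 703 704⟩ else ⟨[], [], .leaf []⟩))
 else (bif Nat.blt k 707 then (bif Nat.beq k 706 then ⟨[28, 31], [46, 47], .kill 47 43 1 705⟩ else ⟨[], [], .leaf []⟩)
 else (bif Nat.beq k 707 then ⟨[28, 31], [45, 46, 47], .kill 45 41 1 706⟩ else ⟨[], [], .leaf []⟩)))
 else (bif Nat.blt k 710 then (bif Nat.blt k 709 then (bif Nat.beq k 708 then ⟨[28, 31], [32, 45, 46, 47], .kill 32 25 1 707⟩ else ⟨[], [], .leaf []⟩)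
 else (bif Nat.beq k 709 then ⟨[28, 31], [32, 43, 45, 46, 47], .sq 43 1 47 [] 708⟩ else ⟨[], [], .leaf []⟩))
 else (bif Nat.blt k 711 then (bif Nat.beq k 710 then ⟨[28, 31], [32, 41, 43, 45, 46, 47], .sq 41 1 45 [46, 47] 709⟩ else ⟨[], [], .leaf []⟩)
 else (bif Nat.beq k 711 then ⟨[28], [31, 32, 41, 43, 45, 46, 47], .split 31 [0, -1, 0, 0] 702 710⟩ else ⟨[], [], .leaf []⟩))))
 else (bif Nat.blt k 716 then (bif Nat.blt k 714 then (bif Nat.blt k 713 then (bif Nat.beq k 712 then ⟨[28, 30], [], .leaf [.x 36, .x 11, .w 1, .w 0]⟩ else ⟨[], [], .leaf []⟩)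
 else (bif Nat.beq k 713 then ⟨[28, 30, 47], [], .leaf [.x 21, .x 36, .x 27, .x 11, .x 5]⟩ else ⟨[], [], .leaf []⟩))
 else (bif Nat.blt k 715 then (bif Nat.beq k 714 then ⟨[28, 30], [47], .split 47 [-1, 0, 1, 2] 712 713⟩ else ⟨[], [], .leaf []⟩)
 else (bif Nat.beq k 715 then ⟨[28, 30, 45], [], .leaf [.x 5, .x 36, .x 11]⟩ else ⟨[], [], .leaf []⟩)))
 else (bif Nat.blt k 718 then (bif Nat.blt k 717 then (bif Nat.beq k 716 then ⟨[28, 30, 45, 47], [], .leaf [.x 36, .x 27, .x 11, .x 5]⟩ else ⟨[], [], .leaf []⟩)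
 else (bif Nat.beq k 717 then ⟨[28, 30, 45], [47], .split 47 [0, -1, -2, -2] 715 716⟩ else ⟨[], [], .leaf []⟩))
 else (bif Nat.blt k 719 then (bif Nat.beq k 718 then ⟨[28, 30], [45, 47], .split 45 [-1, -1, -1, 0] 714 717⟩ else ⟨[], [], .leaf []⟩)
 else (bif Nat.beq k 719 then ⟨[28, 30, 41], [], .leaf [.x 14, .x 36, .x 34, .x 31, .x 16, .x 11]⟩ else ⟨[], [], .leaf []⟩)))))
 else (bif Nat.blt k 728 then (bif Nat.blt k 724 then (bif Nat.blt k 722 then (bif Nat.blt k 721 then (bif Nat.beq k 720 then ⟨[28, 30, 41, 47], [], .leaf [.x 14, .x 42, .x 23, .x 18, .x 13, .w 3, .w 2]⟩ else ⟨[], [], .leaf []⟩)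
 else (bif Nat.beq k 721 then ⟨[28, 30, 41], [47], .split 47 [-1, -2, -3, -2] 719 720⟩ else ⟨[], [], .leaf []⟩))
 else (bif Nat.blt k 723 then (bif Nat.beq k 722 then ⟨[28, 30, 41], [45, 47], .kill 45 31 2 721⟩ else ⟨[], [], .leaf []⟩)
 else (bif Nat.beq k 723 then ⟨[28, 30], [41, 45, 47], .split 41 [-1, -1, -1, 0] 718 722⟩ else ⟨[], [], .leaf []⟩)))
 else (bif Nat.blt k 726 then (bif Nat.blt k 725 then (bif Nat.beq k 724 then ⟨[28, 30, 31], [], .leaf [.x 41, .x 5, .x 36, .x 11, .x 6]⟩ else ⟨[], [], .leaf []⟩)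
 else (bif Nat.beq k 725 then ⟨[28, 30, 31, 47], [], .leaf [.x 21, .x 36, .x 27, .x 11, .x 6, .x 5]⟩ else ⟨[], [], .leaf []⟩))
 else (bif Nat.blt k 727 then (bif Nat.beq k 726 then ⟨[28, 30, 31], [47], .split 47 [-2, -3, -4, -2] 724 725⟩ else ⟨[], [], .leaf []⟩)
 else (bif Nat.beq k 727 then ⟨[28, 30, 31], [45, 47], .kill 45 41 2 726⟩ else ⟨[], [], .leaf []⟩))))
 else (bif Nat.blt k 732 then (bif Nat.blt k 730 then (bif Nat.blt k 729 then (bif Nat.beq k 728 then ⟨[28, 30, 31], [41, 45, 47], .sq 41 2 45 [] 727⟩ else ⟨[], [], .leaf []⟩)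
 else (bif Nat.beq k 729 then ⟨[28, 30], [31, 41, 45, 47], .split 31 [-1, -1, -1, 0] 723 728⟩ else ⟨[], [], .leaf []⟩))
 else (bif Nat.blt k 731 then (bif Nat.beq k 730 then ⟨[28, 30], [31, 41, 45, 46, 47], .kill 46 43 1 729⟩ else ⟨[], [], .leaf []⟩)
 else (bif Nat.beq k 731 then ⟨[28, 30], [31, 41, 43, 45, 46, 47], .sq 43 1 46 [45, 47] 730⟩ else ⟨[], [], .leaf []⟩)))
 else (bif Nat.blt k 734 then (bif Nat.blt k 733 then (bif Nat.beq k 732 then ⟨[28, 30], [31, 32, 41, 43, 45, 46, 47], .kill 32 26 1 731⟩ else ⟨[], [], .leaf []⟩)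
 else (bif Nat.beq k 733 then ⟨[28], [30, 31, 32, 41, 43, 45, 46, 47], .split 30 [0, -1, 0, 0] 711 732⟩ else ⟨[], [], .leaf []⟩))
 else (bif Nat.blt k 735 then (bif Nat.beq k 734 then ⟨[28], [30, 31, 32, 41, 43, 44, 45, 46, 47], .kill 44 42 0 733⟩ else ⟨[], [], .leaf []⟩)
 else (bif Nat.beq k 735 then ⟨[28], [30, 31, 32, 40, 41, 43, 44, 45, 46, 47], .kill 40 38 0 734⟩ else ⟨[], [], .leaf []⟩))))))
 else (bif Nat.blt k 752 then (bif Nat.blt k 744 then (bif Nat.blt k 740 then (bif Nat.blt k 738 then (bif Nat.blt k 737 then (bif Nat.beq k 736 then ⟨[28], [30, 31, 32, 39, 40, 41, 43, 44, 45, 46, 47], .kill 39 36 0 735⟩ else ⟨[], [], .leaf []⟩)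
 else (bif Nat.beq k 737 then ⟨[28], [30, 31, 32, 37, 39, 40, 41, 43, 44, 45, 46, 47], .kill 37 34 0 736⟩ else ⟨[], [], .leaf []⟩))
 else (bif Nat.blt k 739 then (bif Nat.beq k 738 then ⟨[28], [30, 31, 32, 37, 39, 40, 41, 42, 43, 44, 45, 46, 47], .sq 42 0 44 [45, 46, 47] 737⟩ else ⟨[], [], .leaf []⟩)
 else (bif Nat.beq k 739 then ⟨[28], [30, 31, 32, 37, 38, 39, 40, 41, 42, 43, 44, 45, 46, 47], .sq 38 0 40 [44, 45, 46, 47] 738⟩ else ⟨[], [], .leaf []⟩)))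
 else (bif Nat.blt k 742 then (bif Nat.blt k 741 then (bif Nat.beq k 740 then ⟨[28], [30, 31, 32, 35, 37, 38, 39, 40, 41, 42, 43, 44, 45, 46, 47], .kill 35 33 0 739⟩ else ⟨[], [], .leaf []⟩)
 else (bif Nat.beq k 741 then ⟨[28], [30, 31, 32, 35, 36, 37, 38, 39, 40, 41, 42, 43, 44, 45, 46, 47], .sq 36 0 39 [40, 44, 45, 46, 47] 740⟩ else ⟨[], [], .leaf []⟩))
 else (bif Nat.blt k 743 then (bif Nat.beq k 742 then ⟨[28], [29, 30, 31, 32, 35, 36, 37, 38, 39, 40, 41, 42, 43, 44, 45, 46, 47], .kill 29 24 0 741⟩ else ⟨[], [], .leaf []⟩)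
 else (bif Nat.beq k 743 then ⟨[28], [29, 30, 31, 32, 34, 35, 36, 37, 38, 39, 40, 41, 42, 43, 44, 45, 46, 47], .sq 34 0 37 [38, 39, 40, 44, 45, 46, 47] 742⟩ else ⟨[], [], .leaf []⟩))))
 else (bif Nat.blt k 748 then (bif Nat.blt k 746 then (bif Nat.blt k 745 then (bif Nat.beq k 744 then ⟨[28], [29, 30, 31, 32, 33, 34, 35, 36, 37, 38, 39, 40, 41, 42, 43, 44, 45, 46, 47], .sq 33 0 35 [36, 37, 38, 39, 40, 41, 42, 43, 44, 45, 46, 47] 743⟩ else ⟨[], [], .leaf []⟩)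
 else (bif Nat.beq k 745 then ⟨[], [28, 29, 30, 31, 32, 33, 34, 35, 36, 37, 38, 39, 40, 41, 42, 43, 44, 45, 46, 47], .split 28 [-1, 0, 0, 0] 664 744⟩ else ⟨[], [], .leaf []⟩))
 else (bif Nat.blt k 747 then (bif Nat.beq k 746 then ⟨[27], [], .leaf [.x 43, .x 4]⟩ else ⟨[], [], .leaf []⟩)
 else (bif Nat.beq k 747 then ⟨[27, 47], [], .leaf [.x 35, .x 12, .w 3, .w 2]⟩ else ⟨[], [], .leaf []⟩)))
 else (bif Nat.blt k 750 then (bif Nat.blt k 749 then (bif Nat.beq k 748 then ⟨[27], [47], .split 47 [0, 0, 0, -1] 746 747⟩ else ⟨[], [], .leaf []⟩)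
 else (bif Nat.beq k 749 then ⟨[27, 46], [], .leaf [.x 36, .x 11, .w 2]⟩ else ⟨[], [], .leaf []⟩))
 else (bif Nat.blt k 751 then (bif Nat.beq k 750 then ⟨[27, 46], [47], .kill 47 24 1 749⟩ else ⟨[], [], .leaf []⟩)
 else (bif Nat.beq k 751 then ⟨[27], [46, 47], .split 46 [0, 0, 0, -1] 748 750⟩ else ⟨[], [], .leaf []⟩)))))
 else (bif Nat.blt k 760 then (bif Nat.blt k 756 then (bif Nat.blt k 754 then (bif Nat.blt k 753 then (bif Nat.beq k 752 then ⟨[27, 45], [], .leaf [.x 43, .x 4, .w 2, .w 3]⟩ else ⟨[], [], .leaf []⟩)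
 else (bif Nat.beq k 753 then ⟨[27, 45, 47], [], .leaf [.x 26, .x 21, .x 35, .x 12]⟩ else ⟨[], [], .leaf []⟩))
 else (bif Nat.blt k 755 then (bif Nat.beq k 754 then ⟨[27, 45], [47], .split 47 [0, 0, 0, -1] 752 753⟩ else ⟨[], [], .leaf []⟩)
 else (bif Nat.beq k 755 then ⟨[27, 45, 46], [], .leaf [.x 36, .x 22, .x 11, .w 2]⟩ else ⟨[], [], .leaf []⟩)))
 else (bif Nat.blt k 758 then (bif Nat.blt k 757 then (bif Nat.beq k 756 then ⟨[27, 45, 46], [47], .kill 47 24 2 755⟩ else ⟨[], [], .leaf []⟩)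
 else (bif Nat.beq k 757 then ⟨[27, 45], [46, 47], .split 46 [0, 0, 0, -1] 754 756⟩ else ⟨[], [], .leaf []⟩))
 else (bif Nat.blt k 759 then (bif Nat.beq k 758 then ⟨[27], [45, 46, 47], .split 45 [-1, 0, 1, 0] 751 757⟩ else ⟨[], [], .leaf []⟩)
 else (bif Nat.beq k 759 then ⟨[27, 42], [], .leaf [.x 39, .x 8, .w 2, .w 1]⟩ else ⟨[], [], .leaf []⟩))))
 else (bif Nat.blt k 764 then (bif Nat.blt k 762 then (bif Nat.blt k 761 then (bif Nat.beq k 760 then ⟨[27, 42, 46], [], .leaf [.x 43, .x 36, .x 22, .x 19, .x 11, .w 2]⟩ else ⟨[], [], .leaf []⟩)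
 else (bif Nat.beq k 761 then ⟨[27, 42], [46], .split 46 [-1, -1, -1, 1] 759 760⟩ else ⟨[], [], .leaf []⟩))
 else (bif Nat.blt k 763 then (bif Nat.beq k 762 then ⟨[27, 42], [46, 47], .kill 47 32 1 761⟩ else ⟨[], [], .leaf []⟩)
 else (bif Nat.beq k 763 then ⟨[27, 42], [45, 46, 47], .kill 45 30 1 762⟩ else ⟨[], [], .leaf []⟩)))
 else (bif Nat.blt k 766 then (bif Nat.blt k 765 then (bif Nat.beq k 764 then ⟨[27], [42, 45, 46, 47], .split 42 [0, 0, 0, -1] 758 763⟩ else ⟨[], [], .leaf []⟩)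
 else (bif Nat.beq k 765 then ⟨[27, 41], [], .leaf [.x 39, .x 8, .w 3, .w 2, .w 1]⟩ else ⟨[], [], .leaf []⟩))
 else (bif Nat.blt k 767 then (bif Nat.beq k 766 then ⟨[27, 41, 47], [], .leaf [.x 43, .x 18, .x 26, .x 21, .x 35, .x 12]⟩ else ⟨[], [], .leaf []⟩)
 else (bif Nat.beq k 767 then ⟨[27, 41], [47], .split 47 [-1, 0, 1, -2] 765 766⟩ else ⟨[], [], .leaf []⟩)))))))

def node768 (k : ℕ) : Node :=
 (bif Nat.blt k 800 then (bif Nat.blt k 784 then (bif Nat.blt k 776 then (bif Nat.blt k 772 then (bif Nat.blt k 770 then (bif Nat.blt k 769 then (bif Nat.beq k 768 then ⟨[27, 41], [46, 47], .kill 46 32 1 767⟩ else ⟨[], [], .leaf []⟩)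
 else (bif Nat.beq k 769 then ⟨[27, 41], [45, 46, 47], .kill 45 31 1 768⟩ else ⟨[], [], .leaf []⟩))
 else (bif Nat.blt k 771 then (bif Nat.beq k 770 then ⟨[27, 41], [42, 45, 46, 47], .kill 42 24 1 769⟩ else ⟨[], [], .leaf []⟩)
 else (bif Nat.beq k 771 then ⟨[27], [41, 42, 45, 46, 47], .split 41 [0, 0, 0, -1] 764 770⟩ else ⟨[], [], .leaf []⟩)))
 else (bif Nat.blt k 774 then (bif Nat.blt k 773 then (bif Nat.beq k 772 then ⟨[27, 32], [], .leaf [.x 43, .x 4, .w 0, .w 1]⟩ else ⟨[], [], .leaf []⟩)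
 else (bif Nat.beq k 773 then ⟨[27, 32, 45], [], .leaf [.x 13, .x 8, .x 43, .x 27, .x 4]⟩ else ⟨[], [], .leaf []⟩))
 else (bif Nat.blt k 775 then (bif Nat.beq k 774 then ⟨[27, 32], [45], .split 45 [-2, -3, -4, 0] 772 773⟩ else ⟨[], [], .leaf []⟩)
 else (bif Nat.beq k 775 then ⟨[27, 32], [45, 47], .kill 47 42 1 774⟩ else ⟨[], [], .leaf []⟩))))
 else (bif Nat.blt k 780 then (bif Nat.blt k 778 then (bif Nat.blt k 777 then (bif Nat.beq k 776 then ⟨[27, 32], [45, 46, 47], .kill 46 41 1 775⟩ else ⟨[], [], .leaf []⟩)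
 else (bif Nat.beq k 777 then ⟨[27, 32], [42, 45, 46, 47], .sq 42 1 47 [] 776⟩ else ⟨[], [], .leaf []⟩))
 else (bif Nat.blt k 779 then (bif Nat.beq k 778 then ⟨[27, 32], [41, 42, 45, 46, 47], .sq 41 1 46 [47] 777⟩ else ⟨[], [], .leaf []⟩)
 else (bif Nat.beq k 779 then ⟨[27], [32, 41, 42, 45, 46, 47], .split 32 [-2, -1, 0, 0] 771 778⟩ else ⟨[], [], .leaf []⟩)))
 else (bif Nat.blt k 782 then (bif Nat.blt k 781 then (bif Nat.beq k 780 then ⟨[27, 31], [], .leaf [.x 43, .x 4]⟩ else ⟨[], [], .leaf []⟩)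
 else (bif Nat.beq k 781 then ⟨[27, 31, 47], [], .leaf [.x 43, .x 4, .w 2, .w 0, .w 1]⟩ else ⟨[], [], .leaf []⟩))
 else (bif Nat.blt k 783 then (bif Nat.beq k 782 then ⟨[27, 31], [47], .split 47 [-1, 0, 1, -1] 780 781⟩ else ⟨[], [], .leaf []⟩)
 else (bif Nat.beq k 783 then ⟨[27, 31, 46], [], .leaf [.x 36, .x 28, .x 12, .x 11, .w 2]⟩ else ⟨[], [], .leaf []⟩)))))
 else (bif Nat.blt k 792 then (bif Nat.blt k 788 then (bif Nat.blt k 786 then (bif Nat.blt k 785 then (bif Nat.beq k 784 then ⟨[27, 31, 46], [47], .kill 47 24 2 783⟩ else ⟨[], [], .leaf []⟩)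
 else (bif Nat.beq k 785 then ⟨[27, 31], [46, 47], .split 46 [-1, 0, 1, -1] 782 784⟩ else ⟨[], [], .leaf []⟩))
 else (bif Nat.blt k 787 then (bif Nat.beq k 786 then ⟨[27, 31, 42], [], .leaf [.x 39, .x 19, .x 14, .x 8, .w 2, .w 1]⟩ else ⟨[], [], .leaf []⟩)
 else (bif Nat.beq k 787 then ⟨[27, 31, 42, 46], [], .leaf [.x 14, .x 43, .x 22, .x 19, .x 11, .w 2]⟩ else ⟨[], [], .leaf []⟩)))
 else (bif Nat.blt k 790 then (bif Nat.blt k 789 then (bif Nat.beq k 788 then ⟨[27, 31, 42], [46], .split 46 [-1, -2, -3, -1] 786 787⟩ else ⟨[], [], .leaf []⟩)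
 else (bif Nat.beq k 789 then ⟨[27, 31, 42], [46, 47], .kill 47 32 2 788⟩ else ⟨[], [], .leaf []⟩))
 else (bif Nat.blt k 791 then (bif Nat.beq k 790 then ⟨[27, 31], [42, 46, 47], .split 42 [-1, 0, 1, -1] 785 789⟩ else ⟨[], [], .leaf []⟩)
 else (bif Nat.beq k 791 then ⟨[27, 31, 32], [], .leaf [.x 22, .x 43, .x 4, .w 0, .w 1]⟩ else ⟨[], [], .leaf []⟩))))
 else (bif Nat.blt k 796 then (bif Nat.blt k 794 then (bif Nat.blt k 793 then (bif Nat.beq k 792 then ⟨[27, 31, 32, 46], [], .leaf [.x 36, .x 28, .x 12, .x 11, .x 6, .w 2]⟩ else ⟨[], [], .leaf []⟩)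
 else (bif Nat.beq k 793 then ⟨[27, 31, 32], [46], .split 46 [-2, -3, -4, -2] 791 792⟩ else ⟨[], [], .leaf []⟩))
 else (bif Nat.blt k 795 then (bif Nat.beq k 794 then ⟨[27, 31, 32], [46, 47], .kill 47 42 2 793⟩ else ⟨[], [], .leaf []⟩)
 else (bif Nat.beq k 795 then ⟨[27, 31, 32], [42, 46, 47], .sq 42 2 47 [] 794⟩ else ⟨[], [], .leaf []⟩)))
 else (bif Nat.blt k 798 then (bif Nat.blt k 797 then (bif Nat.beq k 796 then ⟨[27, 31], [32, 42, 46, 47], .split 32 [0, -1, -2, 0] 790 795⟩ else ⟨[], [], .leaf []⟩)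
 else (bif Nat.beq k 797 then ⟨[27, 31], [32, 42, 45, 46, 47], .kill 45 41 1 796⟩ else ⟨[], [], .leaf []⟩))
 else (bif Nat.blt k 799 then (bif Nat.beq k 798 then ⟨[27, 31], [32, 41, 42, 45, 46, 47], .sq 41 1 45 [46, 47] 797⟩ else ⟨[], [], .leaf []⟩)
 else (bif Nat.beq k 799 then ⟨[27], [31, 32, 41, 42, 45, 46, 47], .split 31 [0, 0, 0, -1] 779 798⟩ else ⟨[], [], .leaf []⟩))))))
 else (bif Nat.blt k 816 then (bif Nat.blt k 808 then (bif Nat.blt k 804 then (bif Nat.blt k 802 then (bif Nat.blt k 801 then (bif Nat.beq k 800 then ⟨[27, 30], [], .leaf [.x 43, .x 4, .w 3]⟩ else ⟨[], [], .leaf []⟩)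
 else (bif Nat.beq k 801 then ⟨[27, 30, 47], [], .leaf [.x 35, .x 29, .x 12, .x 11, .w 3, .w 2]⟩ else ⟨[], [], .leaf []⟩))
 else (bif Nat.blt k 803 then (bif Nat.beq k 802 then ⟨[27, 30], [47], .split 47 [-1, 0, 1, 2] 800 801⟩ else ⟨[], [], .leaf []⟩)
 else (bif Nat.beq k 803 then ⟨[27, 30, 46], [], .leaf [.x 4, .x 36, .x 11, .w 2]⟩ else ⟨[], [], .leaf []⟩)))
 else (bif Nat.blt k 806 then (bif Nat.blt k 805 then (bif Nat.beq k 804 then ⟨[27, 30, 46, 47], [], .leaf [.x 36, .x 28, .x 11, .x 4, .w 2]⟩ else ⟨[], [], .leaf []⟩)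
 else (bif Nat.beq k 805 then ⟨[27, 30, 46], [47], .split 47 [0, -1, -2, -2] 803 804⟩ else ⟨[], [], .leaf []⟩))
 else (bif Nat.blt k 807 then (bif Nat.beq k 806 then ⟨[27, 30], [46, 47], .split 46 [-1, -1, -1, 0] 802 805⟩ else ⟨[], [], .leaf []⟩)
 else (bif Nat.beq k 807 then ⟨[27, 30, 41], [], .leaf [.x 39, .x 18, .x 14, .x 8, .w 3, .w 2, .w 1]⟩ else ⟨[], [], .leaf []⟩))))
 else (bif Nat.blt k 812 then (bif Nat.blt k 810 then (bif Nat.blt k 809 then (bif Nat.beq k 808 then ⟨[27, 30, 41, 47], [], .leaf [.x 14, .x 43, .x 18, .x 12, .x 26, .x 21]⟩ else ⟨[], [], .leaf []⟩)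
 else (bif Nat.beq k 809 then ⟨[27, 30, 41], [47], .split 47 [-1, -2, -3, -2] 807 808⟩ else ⟨[], [], .leaf []⟩))
 else (bif Nat.blt k 811 then (bif Nat.beq k 810 then ⟨[27, 30, 41], [46, 47], .kill 46 32 2 809⟩ else ⟨[], [], .leaf []⟩)
 else (bif Nat.beq k 811 then ⟨[27, 30], [41, 46, 47], .split 41 [-1, -1, -1, 0] 806 810⟩ else ⟨[], [], .leaf []⟩)))
 else (bif Nat.blt k 814 then (bif Nat.blt k 813 then (bif Nat.beq k 812 then ⟨[27, 30, 32], [], .leaf [.x 21, .x 43, .x 4, .w 0, .w 1]⟩ else ⟨[], [], .leaf []⟩)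
 else (bif Nat.beq k 813 then ⟨[27, 30, 32, 47], [], .leaf [.x 11, .x 43, .x 42, .x 14, .x 4, .w 0, .w 1]⟩ else ⟨[], [], .leaf []⟩))
 else (bif Nat.blt k 815 then (bif Nat.beq k 814 then ⟨[27, 30, 32], [47], .split 47 [-2, -3, -4, -2] 812 813⟩ else ⟨[], [], .leaf []⟩)
 else (bif Nat.beq k 815 then ⟨[27, 30, 32], [46, 47], .kill 46 41 2 814⟩ else ⟨[], [], .leaf []⟩)))))
 else (bif Nat.blt k 824 then (bif Nat.blt k 820 then (bif Nat.blt k 818 then (bif Nat.blt k 817 then (bif Nat.beq k 816 then ⟨[27, 30, 32], [41, 46, 47], .sq 41 2 46 [] 815⟩ else ⟨[], [], .leaf []⟩)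
 else (bif Nat.beq k 817 then ⟨[27, 30], [32, 41, 46, 47], .split 32 [-1, -1, -1, 0] 811 816⟩ else ⟨[], [], .leaf []⟩))
 else (bif Nat.blt k 819 then (bif Nat.beq k 818 then ⟨[27, 30], [32, 41, 45, 46, 47], .kill 45 42 1 817⟩ else ⟨[], [], .leaf []⟩)
 else (bif Nat.beq k 819 then ⟨[27, 30], [32, 41, 42, 45, 46, 47], .sq 42 1 45 [46, 47] 818⟩ else ⟨[], [], .leaf []⟩)))
 else (bif Nat.blt k 822 then (bif Nat.blt k 821 then (bif Nat.beq k 820 then ⟨[27, 30], [31, 32, 41, 42, 45, 46, 47], .kill 31 24 1 819⟩ else ⟨[], [], .leaf []⟩)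
 else (bif Nat.beq k 821 then ⟨[27], [30, 31, 32, 41, 42, 45, 46, 47], .split 30 [0, 0, 0, -1] 799 820⟩ else ⟨[], [], .leaf []⟩))
 else (bif Nat.blt k 823 then (bif Nat.beq k 822 then ⟨[27], [30, 31, 32, 41, 42, 44, 45, 46, 47], .kill 44 43 0 821⟩ else ⟨[], [], .leaf []⟩)
 else (bif Nat.beq k 823 then ⟨[27], [30, 31, 32, 40, 41, 42, 44, 45, 46, 47], .kill 40 39 0 822⟩ else ⟨[], [], .leaf []⟩))))
 else (bif Nat.blt k 828 then (bif Nat.blt k 826 then (bif Nat.blt k 825 then (bif Nat.beq k 824 then ⟨[27], [30, 31, 32, 38, 40, 41, 42, 44, 45, 46, 47], .kill 38 36 0 823⟩ else ⟨[], [], .leaf []⟩)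
 else (bif Nat.beq k 825 then ⟨[27], [30, 31, 32, 37, 38, 40, 41, 42, 44, 45, 46, 47], .kill 37 35 0 824⟩ else ⟨[], [], .leaf []⟩))
 else (bif Nat.blt k 827 then (bif Nat.beq k 826 then ⟨[27], [30, 31, 32, 37, 38, 40, 41, 42, 43, 44, 45, 46, 47], .sq 43 0 44 [45, 46, 47] 825⟩ else ⟨[], [], .leaf []⟩)
 else (bif Nat.beq k 827 then ⟨[27], [30, 31, 32, 37, 38, 39, 40, 41, 42, 43, 44, 45, 46, 47], .sq 39 0 40 [44, 45, 46, 47] 826⟩ else ⟨[], [], .leaf []⟩)))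
 else (bif Nat.blt k 830 then (bif Nat.blt k 829 then (bif Nat.beq k 828 then ⟨[27], [30, 31, 32, 34, 37, 38, 39, 40, 41, 42, 43, 44, 45, 46, 47], .kill 34 33 0 827⟩ else ⟨[], [], .leaf []⟩)
 else (bif Nat.beq k 829 then ⟨[27], [30, 31, 32, 34, 36, 37, 38, 39, 40, 41, 42, 43, 44, 45, 46, 47], .sq 36 0 38 [40, 44, 45, 46, 47] 828⟩ else ⟨[], [], .leaf []⟩))
 else (bif Nat.blt k 831 then (bif Nat.beq k 830 then ⟨[27], [29, 30, 31, 32, 34, 36, 37, 38, 39, 40, 41, 42, 43, 44, 45, 46, 47], .kill 29 26 0 829⟩ else ⟨[], [], .leaf []⟩)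
 else (bif Nat.beq k 831 then ⟨[27], [29, 30, 31, 32, 34, 35, 36, 37, 38, 39, 40, 41, 42, 43, 44, 45, 46, 47], .sq 35 0 37 [38, 39, 40, 44, 45, 46, 47] 830⟩ else ⟨[], [], .leaf []⟩)))))))

def node832 (k : ℕ) : Node :=
 (bif Nat.blt k 864 then (bif Nat.blt k 848 then (bif Nat.blt k 840 then (bif Nat.blt k 836 then (bif Nat.blt k 834 then (bif Nat.blt k 833 then (bif Nat.beq k 832 then ⟨[27], [28, 29, 30, 31, 32, 34, 35, 36, 37, 38, 39, 40, 41, 42, 43, 44, 45, 46, 47], .kill 28 25 0 831⟩ else ⟨[], [], .leaf []⟩)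
 else (bif Nat.beq k 833 then ⟨[27], [28, 29, 30, 31, 32, 33, 34, 35, 36, 37, 38, 39, 40, 41, 42, 43, 44, 45, 46, 47], .sq 33 0 34 [35, 36, 37, 38, 39, 40, 41, 42, 43, 44, 45, 46, 47] 832⟩ else ⟨[], [], .leaf []⟩))
 else (bif Nat.blt k 835 then (bif Nat.beq k 834 then ⟨[], [27, 28, 29, 30, 31, 32, 33, 34, 35, 36, 37, 38, 39, 40, 41, 42, 43, 44, 45, 46, 47], .split 27 [-1, 0, 0, 0] 745 833⟩ else ⟨[], [], .leaf []⟩)
 else (bif Nat.beq k 835 then ⟨[26], [], .leaf [.x 45, .x 2]⟩ else ⟨[], [], .leaf []⟩)))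
 else (bif Nat.blt k 838 then (bif Nat.blt k 837 then (bif Nat.beq k 836 then ⟨[26, 46], [], .leaf [.x 10, .w 3, .w 1, .w 0]⟩ else ⟨[], [], .leaf []⟩)
 else (bif Nat.beq k 837 then ⟨[26], [46], .split 46 [0, 0, -1, 1] 835 836⟩ else ⟨[], [], .leaf []⟩))
 else (bif Nat.blt k 839 then (bif Nat.beq k 838 then ⟨[26, 44], [], .leaf [.w 1, .w 2, .w 0, .w 1]⟩ else ⟨[], [], .leaf []⟩)
 else (bif Nat.beq k 839 then ⟨[26, 44, 46], [], .leaf [.x 10, .x 34, .x 28, .w 1, .w 2]⟩ else ⟨[], [], .leaf []⟩))))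
 else (bif Nat.blt k 844 then (bif Nat.blt k 842 then (bif Nat.blt k 841 then (bif Nat.beq k 840 then ⟨[26, 44], [46], .split 46 [0, 0, -1, 1] 838 839⟩ else ⟨[], [], .leaf []⟩)
 else (bif Nat.beq k 841 then ⟨[26], [44, 46], .split 44 [-1, 0, 0, 0] 837 840⟩ else ⟨[], [], .leaf []⟩))
 else (bif Nat.blt k 843 then (bif Nat.beq k 842 then ⟨[26, 42], [], .leaf [.x 37, .x 19, .x 10, .w 3]⟩ else ⟨[], [], .leaf []⟩)
 else (bif Nat.beq k 843 then ⟨[26, 42, 46], [], .leaf [.x 34, .x 28, .x 10, .w 1, .w 2]⟩ else ⟨[], [], .leaf []⟩)))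
 else (bif Nat.blt k 846 then (bif Nat.blt k 845 then (bif Nat.beq k 844 then ⟨[26, 42], [46], .split 46 [-1, 0, -1, 1] 842 843⟩ else ⟨[], [], .leaf []⟩)
 else (bif Nat.beq k 845 then ⟨[26, 42], [44, 46], .kill 44 28 1 844⟩ else ⟨[], [], .leaf []⟩))
 else (bif Nat.blt k 847 then (bif Nat.beq k 846 then ⟨[26], [42, 44, 46], .split 42 [-1, 0, 0, 0] 841 845⟩ else ⟨[], [], .leaf []⟩)
 else (bif Nat.beq k 847 then ⟨[26, 40], [], .leaf [.x 41, .x 6, .w 1]⟩ else ⟨[], [], .leaf []⟩)))))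
 else (bif Nat.blt k 856 then (bif Nat.blt k 852 then (bif Nat.blt k 850 then (bif Nat.blt k 849 then (bif Nat.beq k 848 then ⟨[26, 40, 46], [], .leaf [.x 41, .x 37, .x 20, .x 6, .w 1]⟩ else ⟨[], [], .leaf []⟩)
 else (bif Nat.beq k 849 then ⟨[26, 40], [46], .split 46 [0, 0, -1, 1] 847 848⟩ else ⟨[], [], .leaf []⟩))
 else (bif Nat.blt k 851 then (bif Nat.beq k 850 then ⟨[26, 40, 42], [], .leaf [.x 32, .x 17, .x 13, .w 2, .w 1]⟩ else ⟨[], [], .leaf []⟩)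
 else (bif Nat.beq k 851 then ⟨[26, 40, 42, 46], [], .leaf [.x 37, .x 13, .x 30, .x 26, .x 19, .x 17]⟩ else ⟨[], [], .leaf []⟩)))
 else (bif Nat.blt k 854 then (bif Nat.blt k 853 then (bif Nat.beq k 852 then ⟨[26, 40, 42], [46], .split 46 [-1, -1, -2, 0] 850 851⟩ else ⟨[], [], .leaf []⟩)
 else (bif Nat.beq k 853 then ⟨[26, 40], [42, 46], .split 42 [0, 0, -1, 1] 849 852⟩ else ⟨[], [], .leaf []⟩))
 else (bif Nat.blt k 855 then (bif Nat.beq k 854 then ⟨[26, 40], [42, 44, 46], .kill 44 33 1 853⟩ else ⟨[], [], .leaf []⟩)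
 else (bif Nat.beq k 855 then ⟨[26], [40, 42, 44, 46], .split 40 [-1, 0, 0, 0] 846 854⟩ else ⟨[], [], .leaf []⟩))))
 else (bif Nat.blt k 860 then (bif Nat.blt k 858 then (bif Nat.blt k 857 then (bif Nat.beq k 856 then ⟨[26, 38], [], .leaf [.x 37, .x 10, .w 2]⟩ else ⟨[], [], .leaf []⟩)
 else (bif Nat.beq k 857 then ⟨[26, 38, 46], [], .leaf [.x 25, .x 24, .x 10, .w 2]⟩ else ⟨[], [], .leaf []⟩))
 else (bif Nat.blt k 859 then (bif Nat.beq k 858 then ⟨[26, 38], [46], .split 46 [0, -2, -3, -1] 856 857⟩ else ⟨[], [], .leaf []⟩)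
 else (bif Nat.beq k 859 then ⟨[26, 38, 42], [], .leaf [.x 20, .x 37, .x 19, .x 10, .w 2]⟩ else ⟨[], [], .leaf []⟩)))
 else (bif Nat.blt k 862 then (bif Nat.blt k 861 then (bif Nat.beq k 860 then ⟨[26, 38, 42, 46], [], .leaf [.x 34, .x 25, .x 24, .x 20, .x 10, .w 2]⟩ else ⟨[], [], .leaf []⟩)
 else (bif Nat.beq k 861 then ⟨[26, 38, 42], [46], .split 46 [-1, -2, -3, -1] 859 860⟩ else ⟨[], [], .leaf []⟩))
 else (bif Nat.blt k 863 then (bif Nat.beq k 862 then ⟨[26, 38], [42, 46], .split 42 [-1, 0, 0, 0] 858 861⟩ else ⟨[], [], .leaf []⟩)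
 else (bif Nat.beq k 863 then ⟨[26, 38], [42, 44, 46], .kill 44 35 1 862⟩ else ⟨[], [], .leaf []⟩))))))
 else (bif Nat.blt k 880 then (bif Nat.blt k 872 then (bif Nat.blt k 868 then (bif Nat.blt k 866 then (bif Nat.blt k 865 then (bif Nat.beq k 864 then ⟨[26, 38], [40, 42, 44, 46], .kill 40 28 1 863⟩ else ⟨[], [], .leaf []⟩)
 else (bif Nat.beq k 865 then ⟨[26], [38, 40, 42, 44, 46], .split 38 [0, 0, -1, 1] 855 864⟩ else ⟨[], [], .leaf []⟩))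
 else (bif Nat.blt k 867 then (bif Nat.beq k 866 then ⟨[26, 35], [], .leaf [.x 31, .x 41, .x 16, .x 6, .w 1]⟩ else ⟨[], [], .leaf []⟩)
 else (bif Nat.beq k 867 then ⟨[26, 35, 46], [], .leaf [.x 31, .x 41, .x 37, .x 20, .x 16, .x 6, .w 1]⟩ else ⟨[], [], .leaf []⟩)))
 else (bif Nat.blt k 870 then (bif Nat.blt k 869 then (bif Nat.beq k 868 then ⟨[26, 35], [46], .split 46 [-2, 0, 1, -1] 866 867⟩ else ⟨[], [], .leaf []⟩)
 else (bif Nat.beq k 869 then ⟨[26, 35, 42], [], .leaf [.x 25, .x 31, .x 17, .x 16, .x 13, .w 2, .w 1]⟩ else ⟨[], [], .leaf []⟩))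
 else (bif Nat.blt k 871 then (bif Nat.beq k 870 then ⟨[26, 35, 42, 46], [], .leaf [.x 37, .x 24, .x 13, .x 30, .x 25, .x 18, .x 17]⟩ else ⟨[], [], .leaf []⟩)
 else (bif Nat.beq k 871 then ⟨[26, 35, 42], [46], .split 46 [-1, -3, -4, -2] 869 870⟩ else ⟨[], [], .leaf []⟩))))
 else (bif Nat.blt k 876 then (bif Nat.blt k 874 then (bif Nat.blt k 873 then (bif Nat.beq k 872 then ⟨[26, 35], [42, 46], .split 42 [-1, -1, -1, -1] 868 871⟩ else ⟨[], [], .leaf []⟩)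
 else (bif Nat.beq k 873 then ⟨[26, 35], [42, 44, 46], .kill 44 38 1 872⟩ else ⟨[], [], .leaf []⟩))
 else (bif Nat.blt k 875 then (bif Nat.beq k 874 then ⟨[26, 35], [40, 42, 44, 46], .kill 40 31 1 873⟩ else ⟨[], [], .leaf []⟩)
 else (bif Nat.beq k 875 then ⟨[26, 35], [38, 40, 42, 44, 46], .sq 38 1 44 [] 874⟩ else ⟨[], [], .leaf []⟩)))
 else (bif Nat.blt k 878 then (bif Nat.blt k 877 then (bif Nat.beq k 876 then ⟨[26], [35, 38, 40, 42, 44, 46], .split 35 [-1, 0, 0, 0] 865 875⟩ else ⟨[], [], .leaf []⟩)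
 else (bif Nat.beq k 877 then ⟨[26, 33], [], .leaf [.x 37, .x 31, .x 16, .x 10, .w 2]⟩ else ⟨[], [], .leaf []⟩))
 else (bif Nat.blt k 879 then (bif Nat.beq k 878 then ⟨[26, 33, 46], [], .leaf [.x 17, .x 31, .x 25, .x 16, .x 10, .w 2]⟩ else ⟨[], [], .leaf []⟩)
 else (bif Nat.beq k 879 then ⟨[26, 33], [46], .split 46 [0, 0, -1, 1] 877 878⟩ else ⟨[], [], .leaf []⟩)))))
 else (bif Nat.blt k 888 then (bif Nat.blt k 884 then (bif Nat.blt k 882 then (bif Nat.blt k 881 then (bif Nat.beq k 880 then ⟨[26, 33, 42], [], .leaf [.x 18, .x 40, .x 19, .x 10, .x 7, .w 1, .w 2]⟩ else ⟨[], [], .leaf []⟩)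
 else (bif Nat.beq k 881 then ⟨[26, 33, 42, 46], [], .leaf [.x 34, .x 32, .x 10, .x 18, .x 30, .x 17, .w 1]⟩ else ⟨[], [], .leaf []⟩))
 else (bif Nat.blt k 883 then (bif Nat.beq k 882 then ⟨[26, 33, 42], [46], .split 46 [-1, -2, -3, -1] 880 881⟩ else ⟨[], [], .leaf []⟩)
 else (bif Nat.beq k 883 then ⟨[26, 33], [42, 46], .split 42 [0, 0, -1, 1] 879 882⟩ else ⟨[], [], .leaf []⟩)))
 else (bif Nat.blt k 886 then (bif Nat.blt k 885 then (bif Nat.beq k 884 then ⟨[26, 33], [42, 44, 46], .kill 44 40 1 883⟩ else ⟨[], [], .leaf []⟩)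
 else (bif Nat.beq k 885 then ⟨[26, 33], [38, 42, 44, 46], .kill 38 31 1 884⟩ else ⟨[], [], .leaf []⟩))
 else (bif Nat.blt k 887 then (bif Nat.beq k 886 then ⟨[26, 33], [38, 40, 42, 44, 46], .sq 40 1 44 [] 885⟩ else ⟨[], [], .leaf []⟩)
 else (bif Nat.beq k 887 then ⟨[26, 33], [35, 38, 40, 42, 44, 46], .kill 35 28 1 886⟩ else ⟨[], [], .leaf []⟩))))
 else (bif Nat.blt k 892 then (bif Nat.blt k 890 then (bif Nat.blt k 889 then (bif Nat.beq k 888 then ⟨[26], [33, 35, 38, 40, 42, 44, 46], .split 33 [-1, 0, 0, 0] 876 887⟩ else ⟨[], [], .leaf []⟩)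
 else (bif Nat.beq k 889 then ⟨[26, 31], [], .leaf [.x 37, .x 12, .x 10, .w 3, .w 0]⟩ else ⟨[], [], .leaf []⟩))
 else (bif Nat.blt k 891 then (bif Nat.beq k 890 then ⟨[26, 31, 46], [], .leaf [.x 10, .x 41, .x 35, .x 27, .x 6]⟩ else ⟨[], [], .leaf []⟩)
 else (bif Nat.beq k 891 then ⟨[26, 31], [46], .split 46 [-1, 0, 1, -1] 889 890⟩ else ⟨[], [], .leaf []⟩)))
 else (bif Nat.blt k 894 then (bif Nat.blt k 893 then (bif Nat.beq k 892 then ⟨[26, 31, 44], [], .leaf [.x 43, .x 20, .x 6, .w 2, .w 0, .w 1]⟩ else ⟨[], [], .leaf []⟩)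
 else (bif Nat.beq k 893 then ⟨[26, 31, 44, 46], [], .leaf [.x 37, .x 20, .x 41, .x 26, .x 12, .x 6]⟩ else ⟨[], [], .leaf []⟩))
 else (bif Nat.blt k 895 then (bif Nat.beq k 894 then ⟨[26, 31, 44], [46], .split 46 [0, -1, -2, 0] 892 893⟩ else ⟨[], [], .leaf []⟩)
 else (bif Nat.beq k 895 then ⟨[26, 31], [44, 46], .split 44 [-1, 0, 1, -1] 891 894⟩ else ⟨[], [], .leaf []⟩)))))))

def node896 (k : ℕ) : Node :=
 (bif Nat.blt k 928 then (bif Nat.blt k 912 then (bif Nat.blt k 904 then (bif Nat.blt k 900 then (bif Nat.blt k 898 then (bif Nat.blt k 897 then (bif Nat.beq k 896 then ⟨[26, 31, 42], [], .leaf [.x 33, .x 13, .x 37, .x 12, .x 10, .w 2]⟩ else ⟨[], [], .leaf []⟩)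
 else (bif Nat.beq k 897 then ⟨[26, 31, 42, 46], [], .leaf [.x 33, .x 27, .x 25, .x 24, .x 13, .x 10, .w 2]⟩ else ⟨[], [], .leaf []⟩))
 else (bif Nat.blt k 899 then (bif Nat.beq k 898 then ⟨[26, 31, 42], [46], .split 46 [-1, -2, -3, -1] 896 897⟩ else ⟨[], [], .leaf []⟩)
 else (bif Nat.beq k 899 then ⟨[26, 31, 42], [44, 46], .kill 44 28 2 898⟩ else ⟨[], [], .leaf []⟩)))
 else (bif Nat.blt k 902 then (bif Nat.blt k 901 then (bif Nat.beq k 900 then ⟨[26, 31], [42, 44, 46], .split 42 [-1, 0, 1, -1] 895 899⟩ else ⟨[], [], .leaf []⟩)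
 else (bif Nat.beq k 901 then ⟨[26, 31], [40, 42, 44, 46], .kill 40 35 1 900⟩ else ⟨[], [], .leaf []⟩))
 else (bif Nat.blt k 903 then (bif Nat.beq k 902 then ⟨[26, 31], [38, 40, 42, 44, 46], .kill 38 33 1 901⟩ else ⟨[], [], .leaf []⟩)
 else (bif Nat.beq k 903 then ⟨[26, 31], [35, 38, 40, 42, 44, 46], .sq 35 1 40 [44, 46] 902⟩ else ⟨[], [], .leaf []⟩))))
 else (bif Nat.blt k 908 then (bif Nat.blt k 906 then (bif Nat.blt k 905 then (bif Nat.beq k 904 then ⟨[26, 31], [33, 35, 38, 40, 42, 44, 46], .sq 33 1 38 [40, 42, 44, 46] 903⟩ else ⟨[], [], .leaf []⟩)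
 else (bif Nat.beq k 905 then ⟨[26], [31, 33, 35, 38, 40, 42, 44, 46], .split 31 [-1, 0, 0, 0] 888 904⟩ else ⟨[], [], .leaf []⟩))
 else (bif Nat.blt k 907 then (bif Nat.beq k 906 then ⟨[26, 28], [], .leaf [.x 41, .x 38, .x 9, .x 6, .w 1]⟩ else ⟨[], [], .leaf []⟩)
 else (bif Nat.beq k 907 then ⟨[26, 28, 46], [], .leaf [.x 41, .x 38, .x 37, .x 20, .x 9, .x 6, .w 1]⟩ else ⟨[], [], .leaf []⟩)))
 else (bif Nat.blt k 910 then (bif Nat.blt k 909 then (bif Nat.beq k 908 then ⟨[26, 28], [46], .split 46 [-2, 0, -1, 1] 906 907⟩ else ⟨[], [], .leaf []⟩)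
 else (bif Nat.beq k 909 then ⟨[26, 28, 31], [], .leaf [.x 24, .x 20, .x 41, .x 36, .x 25, .x 11, .x 6]⟩ else ⟨[], [], .leaf []⟩))
 else (bif Nat.blt k 911 then (bif Nat.beq k 910 then ⟨[26, 28, 31, 46], [], .leaf [.x 37, .x 24, .x 20, .x 41, .x 25, .x 11, .x 6]⟩ else ⟨[], [], .leaf []⟩)
 else (bif Nat.beq k 911 then ⟨[26, 28, 31], [46], .split 46 [-2, -3, -4, -2] 909 910⟩ else ⟨[], [], .leaf []⟩)))))
 else (bif Nat.blt k 920 then (bif Nat.blt k 916 then (bif Nat.blt k 914 then (bif Nat.blt k 913 then (bif Nat.beq k 912 then ⟨[26, 28], [31, 46], .split 31 [0, -1, -1, -1] 908 911⟩ else ⟨[], [], .leaf []⟩)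
 else (bif Nat.beq k 913 then ⟨[26, 28], [31, 44, 46], .kill 44 42 1 912⟩ else ⟨[], [], .leaf []⟩))
 else (bif Nat.blt k 915 then (bif Nat.beq k 914 then ⟨[26, 28], [31, 40, 44, 46], .kill 40 38 1 913⟩ else ⟨[], [], .leaf []⟩)
 else (bif Nat.beq k 915 then ⟨[26, 28], [31, 40, 42, 44, 46], .sq 42 1 44 [46] 914⟩ else ⟨[], [], .leaf []⟩)))
 else (bif Nat.blt k 918 then (bif Nat.blt k 917 then (bif Nat.beq k 916 then ⟨[26, 28], [31, 38, 40, 42, 44, 46], .sq 38 1 40 [44, 46] 915⟩ else ⟨[], [], .leaf []⟩)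
 else (bif Nat.beq k 917 then ⟨[26, 28], [31, 35, 38, 40, 42, 44, 46], .kill 35 33 1 916⟩ else ⟨[], [], .leaf []⟩))
 else (bif Nat.blt k 919 then (bif Nat.beq k 918 then ⟨[26, 28], [31, 33, 35, 38, 40, 42, 44, 46], .sq 33 1 35 [38, 40, 42, 44, 46] 917⟩ else ⟨[], [], .leaf []⟩)
 else (bif Nat.beq k 919 then ⟨[26], [28, 31, 33, 35, 38, 40, 42, 44, 46], .split 28 [-1, 0, 0, 0] 905 918⟩ else ⟨[], [], .leaf []⟩))))
 else (bif Nat.blt k 924 then (bif Nat.blt k 922 then (bif Nat.blt k 921 then (bif Nat.beq k 920 then ⟨[26], [28, 31, 33, 35, 38, 40, 42, 44, 46, 47], .kill 47 45 0 919⟩ else ⟨[], [], .leaf []⟩)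
 else (bif Nat.beq k 921 then ⟨[26], [28, 31, 33, 35, 38, 40, 42, 44, 45, 46, 47], .sq 45 0 47 [35, 38, 40, 42, 44, 46] 920⟩ else ⟨[], [], .leaf []⟩))
 else (bif Nat.blt k 923 then (bif Nat.beq k 922 then ⟨[26], [28, 31, 33, 35, 38, 40, 42, 43, 44, 45, 46, 47], .kill 43 41 0 921⟩ else ⟨[], [], .leaf []⟩)
 else (bif Nat.beq k 923 then ⟨[26], [28, 31, 33, 35, 38, 39, 40, 42, 43, 44, 45, 46, 47], .kill 39 37 0 922⟩ else ⟨[], [], .leaf []⟩)))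
 else (bif Nat.blt k 926 then (bif Nat.blt k 925 then (bif Nat.beq k 924 then ⟨[26], [28, 31, 33, 35, 37, 38, 39, 40, 42, 43, 44, 45, 46, 47], .sq 37 0 39 [35, 38, 40, 42, 44, 46, 47] 923⟩ else ⟨[], [], .leaf []⟩)
 else (bif Nat.beq k 925 then ⟨[26], [28, 31, 33, 35, 36, 37, 38, 39, 40, 42, 43, 44, 45, 46, 47], .kill 36 34 0 924⟩ else ⟨[], [], .leaf []⟩))
 else (bif Nat.blt k 927 then (bif Nat.beq k 926 then ⟨[26], [28, 31, 33, 35, 36, 37, 38, 39, 40, 41, 42, 43, 44, 45, 46, 47], .sq 41 0 43 [35, 38, 39, 40, 42, 44, 45, 46, 47] 925⟩ else ⟨[], [], .leaf []⟩)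
 else (bif Nat.beq k 927 then ⟨[26], [28, 31, 32, 33, 35, 36, 37, 38, 39, 40, 41, 42, 43, 44, 45, 46, 47], .kill 32 30 0 926⟩ else ⟨[], [], .leaf []⟩))))))
 else (bif Nat.blt k 944 then (bif Nat.blt k 936 then (bif Nat.blt k 932 then (bif Nat.blt k 930 then (bif Nat.blt k 929 then (bif Nat.beq k 928 then ⟨[26], [28, 31, 32, 33, 34, 35, 36, 37, 38, 39, 40, 41, 42, 43, 44, 45, 46, 47], .sq 34 0 36 [35, 37, 38, 39, 40, 42, 43, 44, 45, 46, 47] 927⟩ else ⟨[], [], .leaf []⟩)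
 else (bif Nat.beq k 929 then ⟨[26], [28, 29, 31, 32, 33, 34, 35, 36, 37, 38, 39, 40, 41, 42, 43, 44, 45, 46, 47], .kill 29 27 0 928⟩ else ⟨[], [], .leaf []⟩))
 else (bif Nat.blt k 931 then (bif Nat.beq k 930 then ⟨[26], [28, 29, 30, 31, 32, 33, 34, 35, 36, 37, 38, 39, 40, 41, 42, 43, 44, 45, 46, 47], .sq 30 0 32 [35, 36, 37, 38, 39, 40, 41, 42, 43, 44, 45, 46, 47] 929⟩ else ⟨[], [], .leaf []⟩)
 else (bif Nat.beq k 931 then ⟨[26], [27, 28, 29, 30, 31, 32, 33, 34, 35, 36, 37, 38, 39, 40, 41, 42, 43, 44, 45, 46, 47], .sq 27 0 29 [31, 32, 34, 35, 36, 37, 38, 39, 40, 41, 42, 43, 44, 45, 46, 47] 930⟩ else ⟨[], [], .leaf []⟩)))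
 else (bif Nat.blt k 934 then (bif Nat.blt k 933 then (bif Nat.beq k 932 then ⟨[], [26, 27, 28, 29, 30, 31, 32, 33, 34, 35, 36, 37, 38, 39, 40, 41, 42, 43, 44, 45, 46, 47], .split 26 [0, -1, 0, 0] 834 931⟩ else ⟨[], [], .leaf []⟩)
 else (bif Nat.beq k 933 then ⟨[25], [], .leaf [.x 38, .x 9]⟩ else ⟨[], [], .leaf []⟩))
 else (bif Nat.blt k 935 then (bif Nat.beq k 934 then ⟨[25, 47], [], .leaf [.x 9, .w 1, .w 0]⟩ else ⟨[], [], .leaf []⟩)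
 else (bif Nat.beq k 935 then ⟨[25], [47], .split 47 [0, -1, 0, 2] 933 934⟩ else ⟨[], [], .leaf []⟩))))
 else (bif Nat.blt k 940 then (bif Nat.blt k 938 then (bif Nat.blt k 937 then (bif Nat.beq k 936 then ⟨[25, 44], [], .leaf [.x 31, .x 16, .w 0, .w 1]⟩ else ⟨[], [], .leaf []⟩)
 else (bif Nat.beq k 937 then ⟨[25, 44, 47], [], .leaf [.x 38, .x 31, .x 16, .x 34, .x 13]⟩ else ⟨[], [], .leaf []⟩))
 else (bif Nat.blt k 939 then (bif Nat.beq k 938 then ⟨[25, 44], [47], .split 47 [0, -1, 0, 2] 936 937⟩ else ⟨[], [], .leaf []⟩)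
 else (bif Nat.beq k 939 then ⟨[25], [44, 47], .split 44 [-1, 0, 0, 0] 935 938⟩ else ⟨[], [], .leaf []⟩)))
 else (bif Nat.blt k 942 then (bif Nat.blt k 941 then (bif Nat.beq k 940 then ⟨[25, 41], [], .leaf [.x 38, .x 18, .x 9]⟩ else ⟨[], [], .leaf []⟩)
 else (bif Nat.beq k 941 then ⟨[25, 41, 47], [], .leaf [.x 9, .x 34, .x 31, .x 29, .x 16]⟩ else ⟨[], [], .leaf []⟩))
 else (bif Nat.blt k 943 then (bif Nat.beq k 942 then ⟨[25, 41], [47], .split 47 [-1, 0, -1, -2] 940 941⟩ else ⟨[], [], .leaf []⟩)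
 else (bif Nat.beq k 943 then ⟨[25, 41], [44, 47], .kill 44 29 1 942⟩ else ⟨[], [], .leaf []⟩)))))
 else (bif Nat.blt k 952 then (bif Nat.blt k 948 then (bif Nat.blt k 946 then (bif Nat.blt k 945 then (bif Nat.beq k 944 then ⟨[25], [41, 44, 47], .split 41 [-1, 0, 0, 0] 939 943⟩ else ⟨[], [], .leaf []⟩)
 else (bif Nat.beq k 945 then ⟨[25, 40], [], .leaf [.x 42, .x 5, .w 1]⟩ else ⟨[], [], .leaf []⟩))
 else (bif Nat.blt k 947 then (bif Nat.beq k 946 then ⟨[25, 40, 47], [], .leaf [.x 42, .x 38, .x 20, .x 5, .w 1]⟩ else ⟨[], [], .leaf []⟩)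
 else (bif Nat.beq k 947 then ⟨[25, 40], [47], .split 47 [0, 0, -1, -2] 945 946⟩ else ⟨[], [], .leaf []⟩)))
 else (bif Nat.blt k 950 then (bif Nat.blt k 949 then (bif Nat.beq k 948 then ⟨[25, 40, 41], [], .leaf [.x 32, .x 16, .x 13, .w 3, .w 2, .w 1]⟩ else ⟨[], [], .leaf []⟩)
 else (bif Nat.beq k 949 then ⟨[25, 40, 41, 47], [], .leaf [.x 38, .x 13, .x 31, .x 25, .x 18, .x 16]⟩ else ⟨[], [], .leaf []⟩))
 else (bif Nat.blt k 951 then (bif Nat.beq k 950 then ⟨[25, 40, 41], [47], .split 47 [-1, -1, -2, -2] 948 949⟩ else ⟨[], [], .leaf []⟩)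
 else (bif Nat.beq k 951 then ⟨[25, 40], [41, 47], .split 41 [-1, -1, -1, 0] 947 950⟩ else ⟨[], [], .leaf []⟩))))
 else (bif Nat.blt k 956 then (bif Nat.blt k 954 then (bif Nat.blt k 953 then (bif Nat.beq k 952 then ⟨[25, 40], [41, 44, 47], .kill 44 33 1 951⟩ else ⟨[], [], .leaf []⟩)
 else (bif Nat.beq k 953 then ⟨[25], [40, 41, 44, 47], .split 40 [-1, 0, 0, 0] 944 952⟩ else ⟨[], [], .leaf []⟩))
 else (bif Nat.blt k 955 then (bif Nat.beq k 954 then ⟨[25, 37], [], .leaf [.x 38, .x 9, .w 3, .w 2]⟩ else ⟨[], [], .leaf []⟩)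
 else (bif Nat.beq k 955 then ⟨[25, 37, 47], [], .leaf [.x 9, .x 21, .x 24, .x 25]⟩ else ⟨[], [], .leaf []⟩)))
 else (bif Nat.blt k 958 then (bif Nat.blt k 957 then (bif Nat.beq k 956 then ⟨[25, 37], [47], .split 47 [0, -2, -3, -2] 954 955⟩ else ⟨[], [], .leaf []⟩)
 else (bif Nat.beq k 957 then ⟨[25, 37, 41], [], .leaf [.x 20, .x 38, .x 18, .x 9, .w 3, .w 2]⟩ else ⟨[], [], .leaf []⟩))
 else (bif Nat.blt k 959 then (bif Nat.beq k 958 then ⟨[25, 37, 41, 47], [], .leaf [.x 9, .x 34, .x 21, .x 29, .x 25, .x 16]⟩ else ⟨[], [], .leaf []⟩)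
 else (bif Nat.beq k 959 then ⟨[25, 37, 41], [47], .split 47 [-1, -2, -3, -2] 957 958⟩ else ⟨[], [], .leaf []⟩)))))))

def node960 (k : ℕ) : Node :=
 (bif Nat.blt k 992 then (bif Nat.blt k 976 then (bif Nat.blt k 968 then (bif Nat.blt k 964 then (bif Nat.blt k 962 then (bif Nat.blt k 961 then (bif Nat.beq k 960 then ⟨[25, 37], [41, 47], .split 41 [-1, 0, 0, 0] 956 959⟩ else ⟨[], [], .leaf []⟩)
 else (bif Nat.beq k 961 then ⟨[25, 37], [41, 44, 47], .kill 44 36 1 960⟩ else ⟨[], [], .leaf []⟩))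
 else (bif Nat.blt k 963 then (bif Nat.beq k 962 then ⟨[25, 37], [40, 41, 44, 47], .kill 40 29 1 961⟩ else ⟨[], [], .leaf []⟩)
 else (bif Nat.beq k 963 then ⟨[25], [37, 40, 41, 44, 47], .split 37 [0, -1, -1, 0] 953 962⟩ else ⟨[], [], .leaf []⟩)))
 else (bif Nat.blt k 966 then (bif Nat.blt k 965 then (bif Nat.beq k 964 then ⟨[25, 36], [], .leaf [.x 45, .x 2, .w 1, .w 2]⟩ else ⟨[], [], .leaf []⟩)
 else (bif Nat.beq k 965 then ⟨[25, 36, 47], [], .leaf [.x 45, .x 38, .x 28, .x 2, .w 1, .w 2]⟩ else ⟨[], [], .leaf []⟩))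
 else (bif Nat.blt k 967 then (bif Nat.beq k 966 then ⟨[25, 36], [47], .split 47 [-2, 0, 1, 2] 964 965⟩ else ⟨[], [], .leaf []⟩)
 else (bif Nat.beq k 967 then ⟨[25, 36, 41], [], .leaf [.x 34, .x 5, .x 45, .x 17, .x 16, .x 2, .w 1]⟩ else ⟨[], [], .leaf []⟩))))
 else (bif Nat.blt k 972 then (bif Nat.blt k 970 then (bif Nat.blt k 969 then (bif Nat.beq k 968 then ⟨[25, 36, 41, 47], [], .leaf [.x 38, .x 23, .x 13, .x 31, .x 26, .x 19, .x 16]⟩ else ⟨[], [], .leaf []⟩)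
 else (bif Nat.beq k 969 then ⟨[25, 36, 41], [47], .split 47 [-1, -3, -4, -2] 967 968⟩ else ⟨[], [], .leaf []⟩))
 else (bif Nat.blt k 971 then (bif Nat.beq k 970 then ⟨[25, 36], [41, 47], .split 41 [-1, -1, -1, 0] 966 969⟩ else ⟨[], [], .leaf []⟩)
 else (bif Nat.beq k 971 then ⟨[25, 36], [41, 44, 47], .kill 44 37 1 970⟩ else ⟨[], [], .leaf []⟩)))
 else (bif Nat.blt k 974 then (bif Nat.blt k 973 then (bif Nat.beq k 972 then ⟨[25, 36], [40, 41, 44, 47], .kill 40 30 1 971⟩ else ⟨[], [], .leaf []⟩)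
 else (bif Nat.beq k 973 then ⟨[25, 36], [37, 40, 41, 44, 47], .sq 37 1 44 [] 972⟩ else ⟨[], [], .leaf []⟩))
 else (bif Nat.blt k 975 then (bif Nat.beq k 974 then ⟨[25], [36, 37, 40, 41, 44, 47], .split 36 [-1, 0, 0, 0] 963 973⟩ else ⟨[], [], .leaf []⟩)
 else (bif Nat.beq k 975 then ⟨[25, 33], [], .leaf [.x 45, .x 2, .x 31, .x 16, .w 2]⟩ else ⟨[], [], .leaf []⟩)))))
 else (bif Nat.blt k 984 then (bif Nat.blt k 980 then (bif Nat.blt k 978 then (bif Nat.blt k 977 then (bif Nat.beq k 976 then ⟨[25, 33, 47], [], .leaf [.x 16, .x 30, .x 9, .x 21, .x 26, .x 15]⟩ else ⟨[], [], .leaf []⟩)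
 else (bif Nat.beq k 977 then ⟨[25, 33], [47], .split 47 [0, 0, -1, -2] 975 976⟩ else ⟨[], [], .leaf []⟩))
 else (bif Nat.blt k 979 then (bif Nat.beq k 978 then ⟨[25, 33, 41], [], .leaf [.x 45, .x 34, .x 28, .x 2, .x 31, .x 16, .w 2]⟩ else ⟨[], [], .leaf []⟩)
 else (bif Nat.beq k 979 then ⟨[25, 33, 41, 47], [], .leaf [.x 34, .x 32, .x 9, .x 19, .x 31, .x 16, .w 1]⟩ else ⟨[], [], .leaf []⟩)))
 else (bif Nat.blt k 982 then (bif Nat.blt k 981 then (bif Nat.beq k 980 then ⟨[25, 33, 41], [47], .split 47 [-1, -2, -3, -2] 978 979⟩ else ⟨[], [], .leaf []⟩)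
 else (bif Nat.beq k 981 then ⟨[25, 33], [41, 47], .split 41 [0, 0, -1, -2] 977 980⟩ else ⟨[], [], .leaf []⟩))
 else (bif Nat.blt k 983 then (bif Nat.beq k 982 then ⟨[25, 33], [41, 44, 47], .kill 44 40 1 981⟩ else ⟨[], [], .leaf []⟩)
 else (bif Nat.beq k 983 then ⟨[25, 33], [37, 41, 44, 47], .kill 37 30 1 982⟩ else ⟨[], [], .leaf []⟩))))
 else (bif Nat.blt k 988 then (bif Nat.blt k 986 then (bif Nat.blt k 985 then (bif Nat.beq k 984 then ⟨[25, 33], [37, 40, 41, 44, 47], .sq 40 1 44 [] 983⟩ else ⟨[], [], .leaf []⟩)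
 else (bif Nat.beq k 985 then ⟨[25, 33], [36, 37, 40, 41, 44, 47], .kill 36 29 1 984⟩ else ⟨[], [], .leaf []⟩))
 else (bif Nat.blt k 987 then (bif Nat.beq k 986 then ⟨[25], [33, 36, 37, 40, 41, 44, 47], .split 33 [-1, 0, 0, 0] 974 985⟩ else ⟨[], [], .leaf []⟩)
 else (bif Nat.beq k 987 then ⟨[25, 30], [], .leaf [.x 38, .x 11, .x 9, .w 0]⟩ else ⟨[], [], .leaf []⟩)))
 else (bif Nat.blt k 990 then (bif Nat.blt k 989 then (bif Nat.beq k 988 then ⟨[25, 30, 47], [], .leaf [.x 9, .x 42, .x 36, .x 27, .x 5]⟩ else ⟨[], [], .leaf []⟩)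
 else (bif Nat.beq k 989 then ⟨[25, 30], [47], .split 47 [-1, 0, 1, 2] 987 988⟩ else ⟨[], [], .leaf []⟩))
 else (bif Nat.blt k 991 then (bif Nat.beq k 990 then ⟨[25, 30, 44], [], .leaf [.x 20, .x 13, .x 42, .x 25, .x 11, .x 5]⟩ else ⟨[], [], .leaf []⟩)
 else (bif Nat.beq k 991 then ⟨[25, 30, 44, 47], [], .leaf [.x 38, .x 20, .x 42, .x 25, .x 11, .x 5]⟩ else ⟨[], [], .leaf []⟩))))))
 else (bif Nat.blt k 1008 then (bif Nat.blt k 1000 then (bif Nat.blt k 996 then (bif Nat.blt k 994 then (bif Nat.blt k 993 then (bif Nat.beq k 992 then ⟨[25, 30, 44], [47], .split 47 [0, -1, -2, -2] 990 991⟩ else ⟨[], [], .leaf []⟩)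
 else (bif Nat.beq k 993 then ⟨[25, 30], [44, 47], .split 44 [-1, -1, -1, 0] 989 992⟩ else ⟨[], [], .leaf []⟩))
 else (bif Nat.blt k 995 then (bif Nat.beq k 994 then ⟨[25, 30, 41], [], .leaf [.x 33, .x 13, .x 38, .x 11, .x 9, .w 3, .w 2]⟩ else ⟨[], [], .leaf []⟩)
 else (bif Nat.beq k 995 then ⟨[25, 30, 41, 47], [], .leaf [.x 18, .x 38, .x 20, .x 42, .x 25, .x 11, .x 5]⟩ else ⟨[], [], .leaf []⟩)))
 else (bif Nat.blt k 998 then (bif Nat.blt k 997 then (bif Nat.beq k 996 then ⟨[25, 30, 41], [47], .split 47 [-1, -2, -3, -2] 994 995⟩ else ⟨[], [], .leaf []⟩)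
 else (bif Nat.beq k 997 then ⟨[25, 30, 41], [44, 47], .kill 44 29 2 996⟩ else ⟨[], [], .leaf []⟩))
 else (bif Nat.blt k 999 then (bif Nat.beq k 998 then ⟨[25, 30], [41, 44, 47], .split 41 [-1, -1, -1, 0] 993 997⟩ else ⟨[], [], .leaf []⟩)
 else (bif Nat.beq k 999 then ⟨[25, 30], [40, 41, 44, 47], .kill 40 36 1 998⟩ else ⟨[], [], .leaf []⟩))))
 else (bif Nat.blt k 1004 then (bif Nat.blt k 1002 then (bif Nat.blt k 1001 then (bif Nat.beq k 1000 then ⟨[25, 30], [37, 40, 41, 44, 47], .kill 37 33 1 999⟩ else ⟨[], [], .leaf []⟩)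
 else (bif Nat.beq k 1001 then ⟨[25, 30], [36, 37, 40, 41, 44, 47], .sq 36 1 40 [44, 47] 1000⟩ else ⟨[], [], .leaf []⟩))
 else (bif Nat.blt k 1003 then (bif Nat.beq k 1002 then ⟨[25, 30], [33, 36, 37, 40, 41, 44, 47], .sq 33 1 37 [40, 41, 44, 47] 1001⟩ else ⟨[], [], .leaf []⟩)
 else (bif Nat.beq k 1003 then ⟨[25], [30, 33, 36, 37, 40, 41, 44, 47], .split 30 [-1, 0, 0, 0] 986 1002⟩ else ⟨[], [], .leaf []⟩)))
 else (bif Nat.blt k 1006 then (bif Nat.blt k 1005 then (bif Nat.beq k 1004 then ⟨[25, 29], [], .leaf [.x 42, .x 37, .x 10, .x 5, .w 1]⟩ else ⟨[], [], .leaf []⟩)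
 else (bif Nat.beq k 1005 then ⟨[25, 29, 47], [], .leaf [.x 42, .x 38, .x 37, .x 20, .x 10, .x 5, .w 1]⟩ else ⟨[], [], .leaf []⟩))
 else (bif Nat.blt k 1007 then (bif Nat.beq k 1006 then ⟨[25, 29], [47], .split 47 [-2, 0, -1, -2] 1004 1005⟩ else ⟨[], [], .leaf []⟩)
 else (bif Nat.beq k 1007 then ⟨[25, 29, 30], [], .leaf [.x 23, .x 20, .x 42, .x 35, .x 26, .x 12, .x 5]⟩ else ⟨[], [], .leaf []⟩)))))
 else (bif Nat.blt k 1016 then (bif Nat.blt k 1012 then (bif Nat.blt k 1010 then (bif Nat.blt k 1009 then (bif Nat.beq k 1008 then ⟨[25, 29, 30, 47], [], .leaf [.x 38, .x 23, .x 20, .x 42, .x 26, .x 12, .x 5]⟩ else ⟨[], [], .leaf []⟩)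
 else (bif Nat.beq k 1009 then ⟨[25, 29, 30], [47], .split 47 [-2, -3, -4, -2] 1007 1008⟩ else ⟨[], [], .leaf []⟩))
 else (bif Nat.blt k 1011 then (bif Nat.beq k 1010 then ⟨[25, 29], [30, 47], .split 30 [0, -1, -1, 0] 1006 1009⟩ else ⟨[], [], .leaf []⟩)
 else (bif Nat.beq k 1011 then ⟨[25, 29], [30, 44, 47], .kill 44 41 1 1010⟩ else ⟨[], [], .leaf []⟩)))
 else (bif Nat.blt k 1014 then (bif Nat.blt k 1013 then (bif Nat.beq k 1012 then ⟨[25, 29], [30, 40, 44, 47], .kill 40 37 1 1011⟩ else ⟨[], [], .leaf []⟩)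
 else (bif Nat.beq k 1013 then ⟨[25, 29], [30, 40, 41, 44, 47], .sq 41 1 44 [47] 1012⟩ else ⟨[], [], .leaf []⟩))
 else (bif Nat.blt k 1015 then (bif Nat.beq k 1014 then ⟨[25, 29], [30, 37, 40, 41, 44, 47], .sq 37 1 40 [44, 47] 1013⟩ else ⟨[], [], .leaf []⟩)
 else (bif Nat.beq k 1015 then ⟨[25, 29], [30, 36, 37, 40, 41, 44, 47], .kill 36 33 1 1014⟩ else ⟨[], [], .leaf []⟩))))
 else (bif Nat.blt k 1020 then (bif Nat.blt k 1018 then (bif Nat.blt k 1017 then (bif Nat.beq k 1016 then ⟨[25, 29], [30, 33, 36, 37, 40, 41, 44, 47], .sq 33 1 36 [37, 40, 41, 44, 47] 1015⟩ else ⟨[], [], .leaf []⟩)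
 else (bif Nat.beq k 1017 then ⟨[25], [29, 30, 33, 36, 37, 40, 41, 44, 47], .split 29 [-1, 0, 0, 0] 1003 1016⟩ else ⟨[], [], .leaf []⟩))
 else (bif Nat.blt k 1019 then (bif Nat.beq k 1018 then ⟨[25], [29, 30, 33, 36, 37, 40, 41, 44, 46, 47], .kill 46 45 0 1017⟩ else ⟨[], [], .leaf []⟩)
 else (bif Nat.beq k 1019 then ⟨[25], [29, 30, 33, 36, 37, 40, 41, 44, 45, 46, 47], .sq 45 0 46 [36, 37, 40, 41, 44, 47] 1018⟩ else ⟨[], [], .leaf []⟩)))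
 else (bif Nat.blt k 1022 then (bif Nat.blt k 1021 then (bif Nat.beq k 1020 then ⟨[25], [29, 30, 33, 36, 37, 40, 41, 43, 44, 45, 46, 47], .kill 43 42 0 1019⟩ else ⟨[], [], .leaf []⟩)
 else (bif Nat.beq k 1021 then ⟨[25], [29, 30, 33, 36, 37, 39, 40, 41, 43, 44, 45, 46, 47], .kill 39 38 0 1020⟩ else ⟨[], [], .leaf []⟩))
 else (bif Nat.blt k 1023 then (bif Nat.beq k 1022 then ⟨[25], [29, 30, 33, 36, 37, 38, 39, 40, 41, 43, 44, 45, 46, 47], .sq 38 0 39 [36, 37, 40, 41, 44, 46, 47] 1021⟩ else ⟨[], [], .leaf []⟩)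
 else (bif Nat.beq k 1023 then ⟨[25], [29, 30, 33, 35, 36, 37, 38, 39, 40, 41, 43, 44, 45, 46, 47], .kill 35 34 0 1022⟩ else ⟨[], [], .leaf []⟩)))))))

def node1024 (k : ℕ) : Node :=
 (bif Nat.blt k 1056 then (bif Nat.blt k 1040 then (bif Nat.blt k 1032 then (bif Nat.blt k 1028 then (bif Nat.blt k 1026 then (bif Nat.blt k 1025 then (bif Nat.beq k 1024 then ⟨[25], [29, 30, 33, 35, 36, 37, 38, 39, 40, 41, 42, 43, 44, 45, 46, 47], .sq 42 0 43 [36, 37, 39, 40, 41, 44, 45, 46, 47] 1023⟩ else ⟨[], [], .leaf []⟩)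
 else (bif Nat.beq k 1025 then ⟨[25], [29, 30, 32, 33, 35, 36, 37, 38, 39, 40, 41, 42, 43, 44, 45, 46, 47], .kill 32 31 0 1024⟩ else ⟨[], [], .leaf []⟩))
 else (bif Nat.blt k 1027 then (bif Nat.beq k 1026 then ⟨[25], [29, 30, 32, 33, 34, 35, 36, 37, 38, 39, 40, 41, 42, 43, 44, 45, 46, 47], .sq 34 0 35 [36, 37, 38, 39, 40, 41, 43, 44, 45, 46, 47] 1025⟩ else ⟨[], [], .leaf []⟩)
 else (bif Nat.beq k 1027 then ⟨[25], [28, 29, 30, 32, 33, 34, 35, 36, 37, 38, 39, 40, 41, 42, 43, 44, 45, 46, 47], .kill 28 27 0 1026⟩ else ⟨[], [], .leaf []⟩)))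
 else (bif Nat.blt k 1030 then (bif Nat.blt k 1029 then (bif Nat.beq k 1028 then ⟨[25], [28, 29, 30, 31, 32, 33, 34, 35, 36, 37, 38, 39, 40, 41, 42, 43, 44, 45, 46, 47], .sq 31 0 32 [35, 36, 37, 38, 39, 40, 41, 42, 43, 44, 45, 46, 47] 1027⟩ else ⟨[], [], .leaf []⟩)
 else (bif Nat.beq k 1029 then ⟨[25], [26, 28, 29, 30, 31, 32, 33, 34, 35, 36, 37, 38, 39, 40, 41, 42, 43, 44, 45, 46, 47], .kill 26 24 0 1028⟩ else ⟨[], [], .leaf []⟩))
 else (bif Nat.blt k 1031 then (bif Nat.beq k 1030 then ⟨[25], [26, 27, 28, 29, 30, 31, 32, 33, 34, 35, 36, 37, 38, 39, 40, 41, 42, 43, 44, 45, 46, 47], .sq 27 0 28 [29, 30, 31, 32, 34, 35, 36, 37, 38, 39, 40, 41, 42, 43, 44, 45, 46, 47] 1029⟩ else ⟨[], [], .leaf []⟩)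
 else (bif Nat.beq k 1031 then ⟨[], [25, 26, 27, 28, 29, 30, 31, 32, 33, 34, 35, 36, 37, 38, 39, 40, 41, 42, 43, 44, 45, 46, 47], .split 25 [0, -1, 0, 0] 932 1030⟩ else ⟨[], [], .leaf []⟩))))
 else (bif Nat.blt k 1036 then (bif Nat.blt k 1034 then (bif Nat.blt k 1033 then (bif Nat.beq k 1032 then ⟨[24], [], .leaf [.x 46, .x 1]⟩ else ⟨[], [], .leaf []⟩)
 else (bif Nat.beq k 1033 then ⟨[24, 45], [], .leaf [.x 10, .w 2, .w 3, .w 1, .w 0]⟩ else ⟨[], [], .leaf []⟩))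
 else (bif Nat.blt k 1035 then (bif Nat.beq k 1034 then ⟨[24], [45], .split 45 [0, -1, 0, 0] 1032 1033⟩ else ⟨[], [], .leaf []⟩)
 else (bif Nat.beq k 1035 then ⟨[24, 44], [], .leaf [.x 28, .x 19, .w 0, .w 1]⟩ else ⟨[], [], .leaf []⟩)))
 else (bif Nat.blt k 1038 then (bif Nat.blt k 1037 then (bif Nat.beq k 1036 then ⟨[24, 44, 45], [], .leaf [.x 12, .x 28, .x 13, .x 34, .x 10]⟩ else ⟨[], [], .leaf []⟩)
 else (bif Nat.beq k 1037 then ⟨[24, 44], [45], .split 45 [0, -1, 0, 0] 1035 1036⟩ else ⟨[], [], .leaf []⟩))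
 else (bif Nat.blt k 1039 then (bif Nat.beq k 1038 then ⟨[24], [44, 45], .split 44 [-1, 0, 0, 0] 1034 1037⟩ else ⟨[], [], .leaf []⟩)
 else (bif Nat.beq k 1039 then ⟨[24, 43], [], .leaf [.x 12, .x 30, .x 17, .w 3, .w 0]⟩ else ⟨[], [], .leaf []⟩)))))
 else (bif Nat.blt k 1048 then (bif Nat.blt k 1044 then (bif Nat.blt k 1042 then (bif Nat.blt k 1041 then (bif Nat.beq k 1040 then ⟨[24, 43, 45], [], .leaf [.x 35, .x 28, .x 27, .x 19, .x 13]⟩ else ⟨[], [], .leaf []⟩)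
 else (bif Nat.beq k 1041 then ⟨[24, 43], [45], .split 45 [-1, -1, 0, 0] 1039 1040⟩ else ⟨[], [], .leaf []⟩))
 else (bif Nat.blt k 1043 then (bif Nat.beq k 1042 then ⟨[24, 43], [44, 45], .kill 44 27 1 1041⟩ else ⟨[], [], .leaf []⟩)
 else (bif Nat.beq k 1043 then ⟨[24], [43, 44, 45], .split 43 [-1, 0, 0, 0] 1038 1042⟩ else ⟨[], [], .leaf []⟩)))
 else (bif Nat.blt k 1046 then (bif Nat.blt k 1045 then (bif Nat.beq k 1044 then ⟨[24, 40], [], .leaf [.x 35, .x 12, .w 1]⟩ else ⟨[], [], .leaf []⟩)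
 else (bif Nat.beq k 1045 then ⟨[24, 40, 45], [], .leaf [.x 19, .x 35, .x 27, .x 12, .w 1]⟩ else ⟨[], [], .leaf []⟩))
 else (bif Nat.blt k 1047 then (bif Nat.beq k 1046 then ⟨[24, 40], [45], .split 45 [-1, -1, 0, 0] 1044 1045⟩ else ⟨[], [], .leaf []⟩)
 else (bif Nat.beq k 1047 then ⟨[24, 40, 43], [], .leaf [.x 31, .x 17, .x 12, .w 1]⟩ else ⟨[], [], .leaf []⟩))))
 else (bif Nat.blt k 1052 then (bif Nat.blt k 1050 then (bif Nat.blt k 1049 then (bif Nat.beq k 1048 then ⟨[24, 40, 43, 45], [], .leaf [.x 37, .x 31, .x 19, .x 17, .x 12, .w 1]⟩ else ⟨[], [], .leaf []⟩)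
 else (bif Nat.beq k 1049 then ⟨[24, 40, 43], [45], .split 45 [-1, -1, 0, 0] 1047 1048⟩ else ⟨[], [], .leaf []⟩))
 else (bif Nat.blt k 1051 then (bif Nat.beq k 1050 then ⟨[24, 40], [43, 45], .split 43 [0, 0, -2, -1] 1046 1049⟩ else ⟨[], [], .leaf []⟩)
 else (bif Nat.beq k 1051 then ⟨[24, 40], [43, 44, 45], .kill 44 33 1 1050⟩ else ⟨[], [], .leaf []⟩)))
 else (bif Nat.blt k 1054 then (bif Nat.blt k 1053 then (bif Nat.beq k 1052 then ⟨[24], [40, 43, 44, 45], .split 40 [-1, 0, 0, 0] 1043 1051⟩ else ⟨[], [], .leaf []⟩)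
 else (bif Nat.beq k 1053 then ⟨[24, 39], [], .leaf [.x 37, .x 10]⟩ else ⟨[], [], .leaf []⟩))
 else (bif Nat.blt k 1055 then (bif Nat.beq k 1054 then ⟨[24, 39, 45], [], .leaf [.x 26, .x 22, .x 10]⟩ else ⟨[], [], .leaf []⟩)
 else (bif Nat.beq k 1055 then ⟨[24, 39], [45], .split 45 [0, -2, -2, -1] 1053 1054⟩ else ⟨[], [], .leaf []⟩))))))
 else (bif Nat.blt k 1072 then (bif Nat.blt k 1064 then (bif Nat.blt k 1060 then (bif Nat.blt k 1058 then (bif Nat.blt k 1057 then (bif Nat.beq k 1056 then ⟨[24, 39, 43], [], .leaf [.x 19, .x 37, .x 20, .x 10]⟩ else ⟨[], [], .leaf []⟩)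
 else (bif Nat.beq k 1057 then ⟨[24, 39, 43, 45], [], .leaf [.x 35, .x 26, .x 22, .x 19, .x 10]⟩ else ⟨[], [], .leaf []⟩))
 else (bif Nat.blt k 1059 then (bif Nat.beq k 1058 then ⟨[24, 39, 43], [45], .split 45 [-1, -2, -2, -1] 1056 1057⟩ else ⟨[], [], .leaf []⟩)
 else (bif Nat.beq k 1059 then ⟨[24, 39], [43, 45], .split 43 [-1, 0, 0, 0] 1055 1058⟩ else ⟨[], [], .leaf []⟩)))
 else (bif Nat.blt k 1062 then (bif Nat.blt k 1061 then (bif Nat.beq k 1060 then ⟨[24, 39], [43, 44, 45], .kill 44 34 1 1059⟩ else ⟨[], [], .leaf []⟩)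
 else (bif Nat.beq k 1061 then ⟨[24, 39], [40, 43, 44, 45], .kill 40 27 1 1060⟩ else ⟨[], [], .leaf []⟩))
 else (bif Nat.blt k 1063 then (bif Nat.beq k 1062 then ⟨[24], [39, 40, 43, 44, 45], .split 39 [0, -1, 0, 0] 1052 1061⟩ else ⟨[], [], .leaf []⟩)
 else (bif Nat.beq k 1063 then ⟨[24, 34], [], .leaf [.x 35, .x 32, .x 15, .x 12, .w 1]⟩ else ⟨[], [], .leaf []⟩))))
 else (bif Nat.blt k 1068 then (bif Nat.blt k 1066 then (bif Nat.blt k 1065 then (bif Nat.beq k 1064 then ⟨[24, 34, 45], [], .leaf [.x 29, .x 35, .x 32, .x 27, .x 15, .x 12, .w 1]⟩ else ⟨[], [], .leaf []⟩)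
 else (bif Nat.beq k 1065 then ⟨[24, 34], [45], .split 45 [-1, 1, 0, 0] 1063 1064⟩ else ⟨[], [], .leaf []⟩))
 else (bif Nat.blt k 1067 then (bif Nat.beq k 1066 then ⟨[24, 34, 43], [], .leaf [.x 22, .x 32, .x 17, .x 15, .x 12, .w 1]⟩ else ⟨[], [], .leaf []⟩)
 else (bif Nat.beq k 1067 then ⟨[24, 34, 43, 45], [], .leaf [.x 37, .x 22, .x 32, .x 19, .x 17, .x 15, .x 12, .w 1]⟩ else ⟨[], [], .leaf []⟩)))
 else (bif Nat.blt k 1070 then (bif Nat.blt k 1069 then (bif Nat.beq k 1068 then ⟨[24, 34, 43], [45], .split 45 [-1, -3, -4, -2] 1066 1067⟩ else ⟨[], [], .leaf []⟩)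
 else (bif Nat.beq k 1069 then ⟨[24, 34], [43, 45], .split 43 [-1, 1, 0, 0] 1065 1068⟩ else ⟨[], [], .leaf []⟩))
 else (bif Nat.blt k 1071 then (bif Nat.beq k 1070 then ⟨[24, 34], [43, 44, 45], .kill 44 39 1 1069⟩ else ⟨[], [], .leaf []⟩)
 else (bif Nat.beq k 1071 then ⟨[24, 34], [40, 43, 44, 45], .kill 40 32 1 1070⟩ else ⟨[], [], .leaf []⟩)))))
 else (bif Nat.blt k 1080 then (bif Nat.blt k 1076 then (bif Nat.blt k 1074 then (bif Nat.blt k 1073 then (bif Nat.beq k 1072 then ⟨[24, 34], [39, 40, 43, 44, 45], .sq 39 1 44 [] 1071⟩ else ⟨[], [], .leaf []⟩)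
 else (bif Nat.beq k 1073 then ⟨[24], [34, 39, 40, 43, 44, 45], .split 34 [-1, 0, 0, 0] 1062 1072⟩ else ⟨[], [], .leaf []⟩))
 else (bif Nat.blt k 1075 then (bif Nat.beq k 1074 then ⟨[24, 33], [], .leaf [.x 37, .x 32, .x 15, .x 10]⟩ else ⟨[], [], .leaf []⟩)
 else (bif Nat.beq k 1075 then ⟨[24, 33, 45], [], .leaf [.x 17, .x 32, .x 22, .x 15, .x 10]⟩ else ⟨[], [], .leaf []⟩)))
 else (bif Nat.blt k 1078 then (bif Nat.blt k 1077 then (bif Nat.beq k 1076 then ⟨[24, 33], [45], .split 45 [-1, -2, 0, 0] 1074 1075⟩ else ⟨[], [], .leaf []⟩)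
 else (bif Nat.beq k 1077 then ⟨[24, 33, 43], [], .leaf [.x 29, .x 37, .x 32, .x 20, .x 15, .x 10]⟩ else ⟨[], [], .leaf []⟩))
 else (bif Nat.blt k 1079 then (bif Nat.beq k 1078 then ⟨[24, 33, 43, 45], [], .leaf [.x 35, .x 17, .x 32, .x 22, .x 19, .x 15, .x 10]⟩ else ⟨[], [], .leaf []⟩)
 else (bif Nat.beq k 1079 then ⟨[24, 33, 43], [45], .split 45 [-1, -2, -2, -1] 1077 1078⟩ else ⟨[], [], .leaf []⟩))))
 else (bif Nat.blt k 1084 then (bif Nat.blt k 1082 then (bif Nat.blt k 1081 then (bif Nat.beq k 1080 then ⟨[24, 33], [43, 45], .split 43 [-1, -2, 0, 0] 1076 1079⟩ else ⟨[], [], .leaf []⟩)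
 else (bif Nat.beq k 1081 then ⟨[24, 33], [43, 44, 45], .kill 44 40 1 1080⟩ else ⟨[], [], .leaf []⟩))
 else (bif Nat.blt k 1083 then (bif Nat.beq k 1082 then ⟨[24, 33], [39, 43, 44, 45], .kill 39 32 1 1081⟩ else ⟨[], [], .leaf []⟩)
 else (bif Nat.beq k 1083 then ⟨[24, 33], [39, 40, 43, 44, 45], .sq 40 1 44 [] 1082⟩ else ⟨[], [], .leaf []⟩)))
 else (bif Nat.blt k 1086 then (bif Nat.blt k 1085 then (bif Nat.beq k 1084 then ⟨[24, 33], [34, 39, 40, 43, 44, 45], .kill 34 27 1 1083⟩ else ⟨[], [], .leaf []⟩)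
 else (bif Nat.beq k 1085 then ⟨[24], [33, 34, 39, 40, 43, 44, 45], .split 33 [-1, 0, 0, 0] 1073 1084⟩ else ⟨[], [], .leaf []⟩))
 else (bif Nat.blt k 1087 then (bif Nat.beq k 1086 then ⟨[24, 32], [], .leaf [.x 19, .x 41, .x 6, .w 3]⟩ else ⟨[], [], .leaf []⟩)
 else (bif Nat.beq k 1087 then ⟨[24, 32, 45], [], .leaf [.x 19, .x 35, .x 27, .x 13, .x 12]⟩ else ⟨[], [], .leaf []⟩)))))))

def node1088 (k : ℕ) : Node :=
 (bif Nat.blt k 1110 then (bif Nat.blt k 1099 then (bif Nat.blt k 1093 then (bif Nat.blt k 1090 then (bif Nat.blt k 1089 then (bif Nat.beq k 1088 then ⟨[24, 32], [45], .split 45 [0, -1, 0, 0] 1086 1087⟩ else ⟨[], [], .leaf []⟩)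
 else (bif Nat.beq k 1089 then ⟨[24, 32, 44], [], .leaf [.x 42, .x 19, .x 6, .w 0, .w 1]⟩ else ⟨[], [], .leaf []⟩))
 else (bif Nat.blt k 1091 then (bif Nat.beq k 1090 then ⟨[24, 32, 44, 45], [], .leaf [.x 13, .x 33, .x 27, .x 26, .x 22, .x 10]⟩ else ⟨[], [], .leaf []⟩)
 else (bif Nat.blt k 1092 then (bif Nat.beq k 1091 then ⟨[24, 32, 44], [45], .split 45 [0, -1, 0, 0] 1089 1090⟩ else ⟨[], [], .leaf []⟩)
 else (bif Nat.beq k 1092 then ⟨[24, 32], [44, 45], .split 44 [-1, 0, -2, -1] 1088 1091⟩ else ⟨[], [], .leaf []⟩))))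
 else (bif Nat.blt k 1096 then (bif Nat.blt k 1094 then (bif Nat.beq k 1093 then ⟨[24, 32, 43], [], .leaf [.x 33, .x 12, .x 37, .x 13, .x 10]⟩ else ⟨[], [], .leaf []⟩)
 else (bif Nat.blt k 1095 then (bif Nat.beq k 1094 then ⟨[24, 32, 43, 45], [], .leaf [.x 33, .x 28, .x 26, .x 22, .x 12, .x 10]⟩ else ⟨[], [], .leaf []⟩)
 else (bif Nat.beq k 1095 then ⟨[24, 32, 43], [45], .split 45 [-1, -2, -2, -1] 1093 1094⟩ else ⟨[], [], .leaf []⟩)))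
 else (bif Nat.blt k 1097 then (bif Nat.beq k 1096 then ⟨[24, 32, 43], [44, 45], .kill 44 27 2 1095⟩ else ⟨[], [], .leaf []⟩)
 else (bif Nat.blt k 1098 then (bif Nat.beq k 1097 then ⟨[24, 32], [43, 44, 45], .split 43 [0, -1, 0, 0] 1092 1096⟩ else ⟨[], [], .leaf []⟩)
 else (bif Nat.beq k 1098 then ⟨[24, 32], [40, 43, 44, 45], .kill 40 34 1 1097⟩ else ⟨[], [], .leaf []⟩)))))
 else (bif Nat.blt k 1104 then (bif Nat.blt k 1101 then (bif Nat.blt k 1100 then (bif Nat.beq k 1099 then ⟨[24, 32], [39, 40, 43, 44, 45], .kill 39 33 1 1098⟩ else ⟨[], [], .leaf []⟩)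
 else (bif Nat.beq k 1100 then ⟨[24, 32], [34, 39, 40, 43, 44, 45], .sq 34 1 40 [44, 45] 1099⟩ else ⟨[], [], .leaf []⟩))
 else (bif Nat.blt k 1102 then (bif Nat.beq k 1101 then ⟨[24, 32], [33, 34, 39, 40, 43, 44, 45], .sq 33 1 39 [40, 43, 44, 45] 1100⟩ else ⟨[], [], .leaf []⟩)
 else (bif Nat.blt k 1103 then (bif Nat.beq k 1102 then ⟨[24], [32, 33, 34, 39, 40, 43, 44, 45], .split 32 [-1, 0, 0, 0] 1085 1101⟩ else ⟨[], [], .leaf []⟩)
 else (bif Nat.beq k 1103 then ⟨[24, 27], [], .leaf [.x 39, .x 8, .x 35, .x 12, .w 1]⟩ else ⟨[], [], .leaf []⟩))))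
 else (bif Nat.blt k 1107 then (bif Nat.blt k 1105 then (bif Nat.beq k 1104 then ⟨[24, 27, 45], [], .leaf [.x 39, .x 19, .x 8, .x 35, .x 27, .x 12, .w 1]⟩ else ⟨[], [], .leaf []⟩)
 else (bif Nat.blt k 1106 then (bif Nat.beq k 1105 then ⟨[24, 27], [45], .split 45 [-2, -1, 0, 0] 1103 1104⟩ else ⟨[], [], .leaf []⟩)
 else (bif Nat.beq k 1106 then ⟨[24, 27, 32], [], .leaf [.x 22, .x 43, .x 19, .x 6, .x 4, .w 0, .w 1]⟩ else ⟨[], [], .leaf []⟩)))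
 else (bif Nat.blt k 1108 then (bif Nat.beq k 1107 then ⟨[24, 27, 32, 45], [], .leaf [.x 34, .x 22, .x 28, .x 26, .x 8, .x 35, .x 12, .w 1]⟩ else ⟨[], [], .leaf []⟩)
 else (bif Nat.blt k 1109 then (bif Nat.beq k 1108 then ⟨[24, 27, 32], [45], .split 45 [-2, -3, -4, -2] 1106 1107⟩ else ⟨[], [], .leaf []⟩)
 else (bif Nat.beq k 1109 then ⟨[24, 27], [32, 45], .split 32 [-2, -1, 0, 0] 1105 1108⟩ else ⟨[], [], .leaf []⟩))))))
 else (bif Nat.blt k 1121 then (bif Nat.blt k 1115 then (bif Nat.blt k 1112 then (bif Nat.blt k 1111 then (bif Nat.beq k 1110 then ⟨[24, 27], [32, 44, 45], .kill 44 43 1 1109⟩ else ⟨[], [], .leaf []⟩)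
 else (bif Nat.beq k 1111 then ⟨[24, 27], [32, 40, 44, 45], .kill 40 39 1 1110⟩ else ⟨[], [], .leaf []⟩))
 else (bif Nat.blt k 1113 then (bif Nat.beq k 1112 then ⟨[24, 27], [32, 40, 43, 44, 45], .sq 43 1 44 [45] 1111⟩ else ⟨[], [], .leaf []⟩)
 else (bif Nat.blt k 1114 then (bif Nat.beq k 1113 then ⟨[24, 27], [32, 39, 40, 43, 44, 45], .sq 39 1 40 [44, 45] 1112⟩ else ⟨[], [], .leaf []⟩)
 else (bif Nat.beq k 1114 then ⟨[24, 27], [32, 34, 39, 40, 43, 44, 45], .kill 34 33 1 1113⟩ else ⟨[], [], .leaf []⟩))))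
 else (bif Nat.blt k 1118 then (bif Nat.blt k 1116 then (bif Nat.beq k 1115 then ⟨[24, 27], [32, 33, 34, 39, 40, 43, 44, 45], .sq 33 1 34 [39, 40, 43, 44, 45] 1114⟩ else ⟨[], [], .leaf []⟩)
 else (bif Nat.blt k 1117 then (bif Nat.beq k 1116 then ⟨[24], [27, 32, 33, 34, 39, 40, 43, 44, 45], .split 27 [-1, 0, 0, 0] 1102 1115⟩ else ⟨[], [], .leaf []⟩)
 else (bif Nat.beq k 1117 then ⟨[24], [27, 32, 33, 34, 39, 40, 43, 44, 45, 47], .kill 47 46 0 1116⟩ else ⟨[], [], .leaf []⟩)))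
 else (bif Nat.blt k 1119 then (bif Nat.beq k 1118 then ⟨[24], [27, 32, 33, 34, 39, 40, 43, 44, 45, 46, 47], .sq 46 0 47 [34, 39, 40, 43, 44, 45] 1117⟩ else ⟨[], [], .leaf []⟩)
 else (bif Nat.blt k 1120 then (bif Nat.beq k 1119 then ⟨[24], [27, 32, 33, 34, 39, 40, 42, 43, 44, 45, 46, 47], .kill 42 41 0 1118⟩ else ⟨[], [], .leaf []⟩)
 else (bif Nat.beq k 1120 then ⟨[24], [27, 32, 33, 34, 38, 39, 40, 42, 43, 44, 45, 46, 47], .kill 38 37 0 1119⟩ else ⟨[], [], .leaf []⟩)))))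
 else (bif Nat.blt k 1126 then (bif Nat.blt k 1123 then (bif Nat.blt k 1122 then (bif Nat.beq k 1121 then ⟨[24], [27, 32, 33, 34, 37, 38, 39, 40, 42, 43, 44, 45, 46, 47], .sq 37 0 38 [34, 39, 40, 43, 44, 45, 47] 1120⟩ else ⟨[], [], .leaf []⟩)
 else (bif Nat.beq k 1122 then ⟨[24], [27, 32, 33, 34, 36, 37, 38, 39, 40, 42, 43, 44, 45, 46, 47], .kill 36 35 0 1121⟩ else ⟨[], [], .leaf []⟩))
 else (bif Nat.blt k 1124 then (bif Nat.beq k 1123 then ⟨[24], [27, 32, 33, 34, 36, 37, 38, 39, 40, 41, 42, 43, 44, 45, 46, 47], .sq 41 0 42 [34, 38, 39, 40, 43, 44, 45, 46, 47] 1122⟩ else ⟨[], [], .leaf []⟩)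
 else (bif Nat.blt k 1125 then (bif Nat.beq k 1124 then ⟨[24], [27, 31, 32, 33, 34, 36, 37, 38, 39, 40, 41, 42, 43, 44, 45, 46, 47], .kill 31 30 0 1123⟩ else ⟨[], [], .leaf []⟩)
 else (bif Nat.beq k 1125 then ⟨[24], [27, 31, 32, 33, 34, 35, 36, 37, 38, 39, 40, 41, 42, 43, 44, 45, 46, 47], .sq 35 0 36 [34, 37, 38, 39, 40, 42, 43, 44, 45, 46, 47] 1124⟩ else ⟨[], [], .leaf []⟩))))
 else (bif Nat.blt k 1129 then (bif Nat.blt k 1127 then (bif Nat.beq k 1126 then ⟨[24], [27, 29, 31, 32, 33, 34, 35, 36, 37, 38, 39, 40, 41, 42, 43, 44, 45, 46, 47], .kill 29 28 0 1125⟩ else ⟨[], [], .leaf []⟩)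
 else (bif Nat.blt k 1128 then (bif Nat.beq k 1127 then ⟨[24], [27, 29, 30, 31, 32, 33, 34, 35, 36, 37, 38, 39, 40, 41, 42, 43, 44, 45, 46, 47], .sq 30 0 31 [34, 36, 37, 38, 39, 40, 41, 42, 43, 44, 45, 46, 47] 1126⟩ else ⟨[], [], .leaf []⟩)
 else (bif Nat.beq k 1128 then ⟨[24], [27, 28, 29, 30, 31, 32, 33, 34, 35, 36, 37, 38, 39, 40, 41, 42, 43, 44, 45, 46, 47], .sq 28 0 29 [31, 32, 34, 35, 36, 37, 38, 39, 40, 41, 42, 43, 44, 45, 46, 47] 1127⟩ else ⟨[], [], .leaf []⟩)))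
 else (bif Nat.blt k 1130 then (bif Nat.beq k 1129 then ⟨[24], [26, 27, 28, 29, 30, 31, 32, 33, 34, 35, 36, 37, 38, 39, 40, 41, 42, 43, 44, 45, 46, 47], .kill 26 25 0 1128⟩ else ⟨[], [], .leaf []⟩)
 else (bif Nat.blt k 1131 then (bif Nat.beq k 1130 then ⟨[24], [25, 26, 27, 28, 29, 30, 31, 32, 33, 34, 35, 36, 37, 38, 39, 40, 41, 42, 43, 44, 45, 46, 47], .sq 25 0 26 [28, 29, 30, 31, 32, 34, 35, 36, 37, 38, 39, 40, 41, 42, 43, 44, 45, 46, 47] 1129⟩ else ⟨[], [], .leaf []⟩)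
 else (bif Nat.beq k 1131 then ⟨[], [24, 25, 26, 27, 28, 29, 30, 31, 32, 33, 34, 35, 36, 37, 38, 39, 40, 41, 42, 43, 44, 45, 46, 47], .split 24 [0, 0, -1, 0] 1031 1130⟩ else ⟨[], [], .leaf []⟩)))))))

/-- The certificate. -/
def node (k : ℕ) : Node :=
 (bif Nat.blt k 576 then (bif Nat.blt k 256 then (bif Nat.blt k 128 then (bif Nat.blt k 64 then (node0 k)
 else (node64 k))
 else (bif Nat.blt k 192 then (node128 k)
 else (node192 k)))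
 else (bif Nat.blt k 384 then (bif Nat.blt k 320 then (node256 k)
 else (node320 k))
 else (bif Nat.blt k 448 then (node384 k)
 else (bif Nat.blt k 512 then (node448 k)
 else (node512 k)))))
 else (bif Nat.blt k 832 then (bif Nat.blt k 704 then (bif Nat.blt k 640 then (node576 k)
 else (node640 k))
 else (bif Nat.blt k 768 then (node704 k)
 else (node768 k)))
 else (bif Nat.blt k 960 then (bif Nat.blt k 896 then (node832 k)
 else (node896 k))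
 else (bif Nat.blt k 1024 then (node960 k)
 else (bif Nat.blt k 1088 then (node1024 k)
 else (node1088 k))))))

end CfsgLib.InvClasses.F4
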