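import Cfsg.Agent.Lib.InvClasses.F4.Terms
import Cfsg.Agent.Lib.InvClasses.F4.Nodes

/-!
The certificate is valid.
-/

set_option autoImplicit false
set_option maxRecDepth 100000
set_option Elab.async false

namespace CfsgLib.InvClasses.F4

/-- The target lists. -/
def reps : List (List ℕ) := [[47], [44], [44, 47], [39, 45]]

/-- The step at an index is valid. -/
def chk (k : ℕ) : Bool := chkNode Chevalley.Data.F4.tbl D reps node k

theorem chk0 : Chevalley.allLt (fun i => chk (0 + i)) 64 = true := by decide +kernel

theorem chk64 : Chevalley.allLt (fun i => chk (64 + i)) 64 = true := by decide +kernel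

theorem chk128 : Chevalley.allLt (fun i => chk (128 + i)) 64 = true := by decide +kernel

theorem chk192 : Chevalley.allLt (fun i => chk (192 + i)) 64 = true := by decide +kernel

theorem chk256 : Chevalley.allLt (fun i => chk (256 + i)) 64 = true := by decide +kernel

theorem chk320 : Chevalley.allLt (fun i => chk (320 + i)) 64 = true := by decide +kernel

theorem chk384 : Chevalley.allLt (fun i => chk (384 + i)) 64 = true := by decide +kernel

theorem chk448 : Chevalley.allLt (fun i => chk (448 + i)) 64 = true := by decide +kernel

theorem chk512 : Chevalley.allLt (fun i => chk (512 + i)) 64 = true := by decide +kernel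

theorem chk576 : Chevalley.allLt (fun i => chk (576 + i)) 64 = true := by decide +kernel

theorem chk640 : Chevalley.allLt (fun i => chk (640 + i)) 64 = true := by decide +kernel

theorem chk704 : Chevalley.allLt (fun i => chk (704 + i)) 64 = true := by decide +kernel

theorem chk768 : Chevalley.allLt (fun i => chk (768 + i)) 64 = true := by decide +kernel

theorem chk832 : Chevalley.allLt (fun i => chk (832 + i)) 64 = true := by decide +kernel

theorem chk896 : Chevalley.allLt (fun i => chk (896 + i)) 64 = true := by decide +kernel

theorem chk960 : Chevalley.allLt (fun i => chk (960 + i)) 64 = true := by decide +kernel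

theorem chk1024 : Chevalley.allLt (fun i => chk (1024 + i)) 64 = true := by decide +kernel

theorem chk1088 : Chevalley.allLt (fun i => chk (1088 + i)) 44 = true := by decide +kernel

theorem chk_all : ∀ k < 1132, chk k = true := by
  intro k hk
  rcases Nat.lt_or_ge k 64 with h | h
  · have := Chevalley.allLt_iff.mp chk0 (k - 0) (by omega)
    rwa [show 0 + (k - 0) = k by omega] at this
  rcases Nat.lt_or_ge k 128 with h | h
  · have := Chevalley.allLt_iff.mp chk64 (k - 64) (by omega)
    rwa [show 64 + (k - 64) = k by omega] at this
  rcases Nat.lt_or_ge k 192 with h | h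
  · have := Chevalley.allLt_iff.mp chk128 (k - 128) (by omega)
    rwa [show 128 + (k - 128) = k by omega] at this
  rcases Nat.lt_or_ge k 256 with h | h
  · have := Chevalley.allLt_iff.mp chk192 (k - 192) (by omega)
    rwa [show 192 + (k - 192) = k by omega] at this
  rcases Nat.lt_or_ge k 320 with h | h
  · have := Chevalley.allLt_iff.mp chk256 (k - 256) (by omega)
    rwa [show 256 + (k - 256) = k by omega] at this
  rcases Nat.lt_or_ge k 384 with h | h
  · have := Chevalley.allLt_iff.mp chk320 (k - 320) (by omega)
    rwa [show 320 + (k - 320) = k by omega] at this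
  rcases Nat.lt_or_ge k 448 with h | h
  · have := Chevalley.allLt_iff.mp chk384 (k - 384) (by omega)
    rwa [show 384 + (k - 384) = k by omega] at this
  rcases Nat.lt_or_ge k 512 with h | h
  · have := Chevalley.allLt_iff.mp chk448 (k - 448) (by omega)
    rwa [show 448 + (k - 448) = k by omega] at this
  rcases Nat.lt_or_ge k 576 with h | h
  · have := Chevalley.allLt_iff.mp chk512 (k - 512) (by omega)
    rwa [show 512 + (k - 512) = k by omega] at this
  rcases Nat.lt_or_ge k 640 with h | h
  · have := Chevalley.allLt_iff.mp chk576 (k - 576) (by omega)
    rwa [show 576 + (k - 576) = k by omega] at this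
  rcases Nat.lt_or_ge k 704 with h | h
  · have := Chevalley.allLt_iff.mp chk640 (k - 640) (by omega)
    rwa [show 640 + (k - 640) = k by omega] at this
  rcases Nat.lt_or_ge k 768 with h | h
  · have := Chevalley.allLt_iff.mp chk704 (k - 704) (by omega)
    rwa [show 704 + (k - 704) = k by omega] at this
  rcases Nat.lt_or_ge k 832 with h | h
  · have := Chevalley.allLt_iff.mp chk768 (k - 768) (by omega)
    rwa [show 768 + (k - 768) = k by omega] at this
  rcases Nat.lt_or_ge k 896 with h | h
  · have := Chevalley.allLt_iff.mp chk832 (k - 832) (by omega)
    rwa [show 832 + (k - 832) = k by omega] at this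
  rcases Nat.lt_or_ge k 960 with h | h
  · have := Chevalley.allLt_iff.mp chk896 (k - 896) (by omega)
    rwa [show 896 + (k - 896) = k by omega] at this
  rcases Nat.lt_or_ge k 1024 with h | h
  · have := Chevalley.allLt_iff.mp chk960 (k - 960) (by omega)
    rwa [show 960 + (k - 960) = k by omega] at this
  rcases Nat.lt_or_ge k 1088 with h | h
  · have := Chevalley.allLt_iff.mp chk1024 (k - 1024) (by omega)
    rwa [show 1024 + (k - 1024) = k by omega] at this
  have := Chevalley.allLt_iff.mp chk1088 (k - 1088) (by omega)
  rwa [show 1088 + (k - 1088) = k by omega] at this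

theorem node_root : (node 1131).M = [] ∧ (node 1131).L = List.range' 24 24 := by decide +kernel

end CfsgLib.InvClasses.F4
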