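import Cfsg.Agent.Lib.InvClasses.Rules
import Cfsg.Agent.Lib.Chevalley.Data.F4
import Cfsg.Agent.Lib.Chevalley.Bridge
import Mathlib.LinearAlgebra.Matrix.Rank
import Mathlib.LinearAlgebra.Matrix.Block

/-!
Rank bounds for `y - 1` at the representatives of the involution classes of `F₄`.
-/

set_option autoImplicit false
set_option maxRecDepth 100000
set_option Elab.async false

namespace CfsgLib.InvClasses.F4

open CfsgLib.Chevalley CfsgLib.Chevalley.Tbl Matrix

local notation "TF" => CfsgLib.Chevalley.Data.F4.tbl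

/-- The matrix of `x_r(1)` over the integers. -/
def Mz (r : ℕ) : Matrix (Tbl.I TF) (Tbl.I TF) ℤ := Matrix.of fun row col =>
  (if row = col then 1 else 0) + (Tbl.colA TF r 1 col row + Tbl.colA TF r 2 col row + Tbl.colA TF r 3 col row)

/-- A coordinate from a number. -/
def ix (k : ℕ) : Tbl.I TF :=
  if h : k < Tbl.n TF then Sum.inr ⟨k, h⟩ else if h' : k - 48 < Tbl.rank TF then Sum.inl ⟨k - 48, h'⟩
    else Sum.inl ⟨0, by decide +kernel⟩

/-- An entry of `x_r(1) x_s(1) - 1`. -/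
def ent2 (r s : ℕ) (i j : Tbl.I TF) : ℤ := (Mz r * Mz s) i j - (if i = j then 1 else 0)

/-- An entry of `x_r(1) - 1`. -/
def ent1 (r : ℕ) (i j : Tbl.I TF) : ℤ := Mz r i j - (if i = j then 1 else 0)

def rowsW : Fin 21 → ℕ := ![39, 47, 38, 44, 36, 45, 46, 42, 43, 40, 29, 37, 33, 35, 34, 19, 28, 27, 26, 49, 18]
def colsW : Fin 21 → ℕ := ![13, 51, 12, 18, 10, 21, 23, 15, 16, 14, 6, 11, 7, 9, 8, 1, 5, 4, 2, 3, 0]
def rowsV : Fin 24 → ℕ :=
  ![28, 37, 40, 31, 44, 46, 47, 36, 39, 38, 30, 35, 29, 42, 41, 43, 14, 45, 48, 13, 34, 51, 25, 10]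
def colsV : Fin 24 → ℕ :=
  ![11, 9, 13, 6, 20, 25, 26, 19, 49, 10, 5, 18, 12, 17, 16, 15, 4, 50, 8, 3, 7, 2, 0, 1]

theorem minorW : ∀ i j : Fin 21, (j < i → ent2 44 47 (ix (rowsW i)) (ix (colsW j)) % 2 = 0) ∧
    (i = j → ent2 44 47 (ix (rowsW i)) (ix (colsW j)) % 2 = 1) := by decide +kernel

theorem minorV : ∀ i j : Fin 24, (j < i → ent2 39 45 (ix (rowsV i)) (ix (colsV j)) % 2 = 0) ∧
    (i = j → ent2 39 45 (ix (rowsV i)) (ix (colsV j)) % 2 = 1) := by decide +kernel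

theorem cols47 : (Finset.univ.filter fun j : Tbl.I TF => ∃ i, ent1 47 i j % 2 ≠ 0).card ≤ 16 := by
  decide +kernel

theorem cols44 : (Finset.univ.filter fun j : Tbl.I TF => ∃ i, ent1 44 i j % 2 ≠ 0).card ≤ 16 := by
  decide +kernel

theorem colsW' : (Finset.univ.filter fun j : Tbl.I TF => ∃ i, ent2 44 47 i j % 2 ≠ 0).card ≤ 22 := by
  decide +kernel

variable {F : Type*} [Field F] [CharP F 2]

theorem cast_emod {z : ℤ} : (z : F) = ((z % 2 : ℤ) : F) := by
  conv_lhs => rw [show z = z % 2 + 2 * (z / 2) by omega]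
  push_cast
  rw [CharTwo.two_eq_zero (R := F), zero_mul, add_zero]

/-- The value of `y - 1` on a product. -/
theorem rank_le {M : Matrix (Tbl.I TF) (Tbl.I TF) F} (S : Finset (Tbl.I TF))
    (h : ∀ i j, j ∉ S → M i j = 0) : M.rank ≤ S.card := by
  classical
  have e : M = M.submatrix id (Subtype.val : {j // j ∈ S} → Tbl.I TF) *
      (1 : Matrix (Tbl.I TF) (Tbl.I TF) F).submatrix (Subtype.val : {j // j ∈ S} → Tbl.I TF) id := by
    ext i j
    simp only [Matrix.mul_apply, Matrix.submatrix_apply, id, Matrix.one_apply, mul_ite, mul_one, mul_zero]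
    by_cases hj : j ∈ S
    · rw [Finset.sum_eq_single ⟨j, hj⟩]
      · simp
      · intro b _ hb; rw [if_neg fun e => hb (Subtype.ext e)]
      · simp
    · rw [h i j hj, Finset.sum_eq_zero]
      intro b _
      rw [if_neg fun e : b.val = j => hj (by rw [← e]; exact b.2)]
  rw [e]
  refine (Matrix.rank_mul_le_right _ _).trans ((Matrix.rank_le_card_height _).trans ?_)
  simp

theorem le_rank {k : ℕ} {M : Matrix (Tbl.I TF) (Tbl.I TF) F} (f g : Fin k → Tbl.I TF)
    (h : ∀ i j : Fin k, (j < i → M (f i) (g j) = 0) ∧ (i = j → M (f i) (g j) = 1)) : k ≤ M.rank := by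
  classical
  have e : M.submatrix f g = (1 : Matrix (Tbl.I TF) (Tbl.I TF) F).submatrix f id * M *
      (1 : Matrix (Tbl.I TF) (Tbl.I TF) F).submatrix id g := by
    ext i j
    simp [Matrix.mul_apply, Matrix.one_apply]
  have hdet : (M.submatrix f g).det = 1 := by
    rw [Matrix.det_of_isUpperTriangular (show (M.submatrix f g).IsUpperTriangular from fun i j hij => (h i j).1 hij)]
    exact Finset.prod_eq_one fun i _ => (h i i).2 rfl
  have hr := Matrix.rank_of_isUnit (M.submatrix f g) ((Matrix.isUnit_iff_isUnit_det _).mpr (by rw [hdet]; exact isUnit_one))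
  rw [Fintype.card_fin] at hr
  rw [← hr, e]
  exact (Matrix.rank_mul_le_left _ _).trans (Matrix.rank_mul_le_right _ _)

theorem xU_eq_Mz {r : ℕ} (hr : r < Tbl.n TF) :
    ((Tbl.xU TF F r 1 : GL (Tbl.I TF) F) : Matrix (Tbl.I TF) (Tbl.I TF) F) =
      (Mz r).map (Int.cast : ℤ → F) := by
  ext i j
  rw [Tbl.xU_val Data.F4.valid hr, X_apply, Matrix.map_apply, Mz, Matrix.of_apply]
  simp only [Finset.sum_Ico_eq_sum_range, Finset.sum_range_succ, Finset.sum_range_zero, zero_add,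
    one_pow, one_mul, Nat.reduceAdd, Nat.reduceSub]
  push_cast
  simp [apply_ite (Int.cast : ℤ → F)]

theorem ent1_eq {r : ℕ} (hr : r < Tbl.n TF) (i j : Tbl.I TF) :
    (((Tbl.xU TF F r 1 : GL (Tbl.I TF) F) : Matrix (Tbl.I TF) (Tbl.I TF) F) - 1) i j = ((ent1 r i j : ℤ) : F) := by
  rw [Matrix.sub_apply, xU_eq_Mz hr, Matrix.map_apply, ent1, Matrix.one_apply]
  push_cast
  simp [apply_ite (Int.cast : ℤ → F)]

theorem ent2_eq {r s : ℕ} (hr : r < Tbl.n TF) (hs : s < Tbl.n TF) (i j : Tbl.I TF) :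
    (((Tbl.xU TF F r 1 * Tbl.xU TF F s 1 : GL (Tbl.I TF) F) : Matrix (Tbl.I TF) (Tbl.I TF) F) - 1) i j =
      ((ent2 r s i j : ℤ) : F) := by
  rw [Matrix.sub_apply, Units.val_mul, xU_eq_Mz hr, xU_eq_Mz hs, ent2, Matrix.one_apply, Int.cast_sub,
    Matrix.mul_apply, Matrix.mul_apply]
  simp [Matrix.map_apply, apply_ite (Int.cast : ℤ → F)]

/-- The rank of `y - 1`. -/
noncomputable def rk (y : GL (Tbl.I TF) F) : ℕ := ((y : Matrix (Tbl.I TF) (Tbl.I TF) F) - 1).rank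

omit [CharP F 2] in
theorem rk_conj {h y y' : GL (Tbl.I TF) F} (e : h * y = y' * h) : rk y = rk y' := by
  have e' : y' = h * y * h⁻¹ := by rw [e, mul_inv_cancel_right]
  have hm : ((y' : Matrix (Tbl.I TF) (Tbl.I TF) F) - 1) =
      (h : Matrix (Tbl.I TF) (Tbl.I TF) F) * ((y : Matrix (Tbl.I TF) (Tbl.I TF) F) - 1) *
        ((h⁻¹ : GL (Tbl.I TF) F) : Matrix (Tbl.I TF) (Tbl.I TF) F) := by
    rw [mul_sub, sub_mul, mul_one, e', Units.val_mul, Units.val_mul, ← Units.val_mul h h⁻¹, mul_inv_cancel]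
    rfl
  rw [rk, rk, hm, Matrix.rank_mul_eq_left_of_isUnit_det _ _ ((Matrix.isUnit_iff_isUnit_det _).mp (Units.isUnit _)),
    Matrix.rank_mul_eq_right_of_isUnit_det _ _ ((Matrix.isUnit_iff_isUnit_det _).mp (Units.isUnit _))]

theorem rk_root_le {r : ℕ} (hr : r < Tbl.n TF)
    (h : (Finset.univ.filter fun j : Tbl.I TF => ∃ i, ent1 r i j % 2 ≠ 0).card ≤ 16) :
    rk (Tbl.xU TF F r 1 : GL (Tbl.I TF) F) ≤ 16 := by
  refine (rank_le (Finset.univ.filter fun j : Tbl.I TF => ∃ i, ent1 r i j % 2 ≠ 0) fun i j hj => ?_).trans h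
  rw [ent1_eq hr, cast_emod]
  simp only [Finset.mem_filter, Finset.mem_univ, true_and, not_exists, not_not] at hj
  rw [hj i, Int.cast_zero]

theorem rk_w : 21 ≤ rk (Tbl.xU TF F 44 1 * Tbl.xU TF F 47 1 : GL (Tbl.I TF) F) ∧
    rk (Tbl.xU TF F 44 1 * Tbl.xU TF F 47 1 : GL (Tbl.I TF) F) ≤ 22 := by
  refine ⟨le_rank (fun i => ix (rowsW i)) (fun j => ix (colsW j)) fun i j => ?_, ?_⟩
  · rw [ent2_eq (by decide +kernel) (by decide +kernel), cast_emod]
    exact ⟨fun h => by rw [(minorW i j).1 h, Int.cast_zero], fun h => by rw [(minorW i j).2 h, Int.cast_one]⟩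
  · refine (rank_le (Finset.univ.filter fun j : Tbl.I TF => ∃ i, ent2 44 47 i j % 2 ≠ 0) fun i j hj => ?_).trans colsW'
    rw [ent2_eq (by decide +kernel) (by decide +kernel), cast_emod]
    simp only [Finset.mem_filter, Finset.mem_univ, true_and, not_exists, not_not] at hj
    rw [hj i, Int.cast_zero]

theorem rk_v : 24 ≤ rk (Tbl.xU TF F 39 1 * Tbl.xU TF F 45 1 : GL (Tbl.I TF) F) := by
  refine le_rank (fun i => ix (rowsV i)) (fun j => ix (colsV j)) fun i j => ?_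
  rw [ent2_eq (by decide +kernel) (by decide +kernel), cast_emod]
  exact ⟨fun h => by rw [(minorV i j).1 h, Int.cast_zero], fun h => by rw [(minorV i j).2 h, Int.cast_one]⟩

end CfsgLib.InvClasses.F4
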