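import Cfsg.Agent.Lib.InvClasses.F4.Check
import Cfsg.Agent.Lib.InvClasses.F4.Ranks
import Cfsg.Agent.Lib.KnownB.RootCentralizer.F4Mixed
import Cfsg.Agent.S1062

/-!
The four classes of involutions of `F₄` over a finite field of characteristic two.
-/

set_option autoImplicit false
set_option maxRecDepth 20000

namespace CfsgLib.InvClasses.F4

open CfsgLib.Chevalley CfsgLib.Chevalley.Tbl

variable {F : Type*} [Field F] [CharP F 2]

local notation "TF" => CfsgLib.Chevalley.Data.F4.tbl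
local notation "xx" => Tbl.xU TF F

theorem good_pos [Finite F] {u : GL (Tbl.I TF) F} (hu : u ∈ (Tbl.datum TF).posUnipotent F)
    (h : u * u = 1) : Good TF F reps u := by
  have hp := pt_all (T := TF) (F := F) Data.F4.valid Data.F4.chkComm odd2 (reps := reps) (get := node)
    (N := 1132) chk_all 1131 (by norm_num)
  rw [node_root.1, node_root.2] at hp
  have hu' : u ∈ U TF F (List.range' 24 24) := by
    rw [posUnipotent_rootGen Data.F4.valid] at hu
    exact mono_mem (fun r hr hr' => List.mem_range'_1.mpr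
      ⟨le_of_eq_of_le (show 24 = Tbl.half TF by decide +kernel) hr', by
        have : Tbl.n TF = 48 := by decide +kernel
        omega⟩) hu
  have := hp u hu' (by rw [eL_nil, one_mul]; exact h)
  rwa [eL_nil, one_mul] at this

theorem exists_conj_pos [Fintype F] {g : GL (Tbl.I TF) F} (hg : g ∈ (Tbl.datum TF).group F)
    (h : g * g = 1) : ∃ k ∈ (Tbl.datum TF).group F, ∃ u ∈ (Tbl.datum TF).posUnipotent F,
      k * g = u * k := by
  classical
  have : Fact (Nat.Prime 2) := ⟨Nat.prime_two⟩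
  obtain ⟨f, -, hcard⟩ := FiniteField.card F 2
  have hq : Fintype.card F = 2 ^ (f : ℕ) := hcard
  have hG := Cfsg.Agent.S1062.result (F := F) rfl
  rw [← Data.F4.datum_eq] at hG
  have hle : (Tbl.datum TF).posUnipotent F ≤ (Tbl.datum TF).group F := by
    rw [posUnipotent_rootGen Data.F4.valid]
    exact rootGen_le fun r hr _ t => xU_mem_group Data.F4.valid hr t
  let P : Subgroup ↥((Tbl.datum TF).group F) :=
    ((Tbl.datum TF).posUnipotent F).subgroupOf ((Tbl.datum TF).group F)
  have hPc : Nat.card ↥P = Fintype.card F ^ 24 := by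
    rw [Nat.card_congr (Subgroup.subgroupOfEquivOfLe hle).toEquiv,
      card_posUnipotent Data.F4.valid Data.F4.chkComm,
      show (Tbl.datum TF).nroots / 2 = 24 by decide +kernel]
  have hP : IsPGroup 2 ↥P := IsPGroup.of_card (n := (f : ℕ) * 24) (by rw [hPc, hq, ← pow_mul])
  have hindex : ¬ 2 ∣ P.index := by
    intro hd
    have h1 := P.card_mul_index
    rw [hPc, hG, mul_assoc, mul_assoc, mul_assoc] at h1
    rw [Nat.eq_of_mul_eq_mul_left (pow_pos Fintype.card_pos 24) h1] at hd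
    have heven : Even (Fintype.card F) := by rw [hq]; exact (Nat.even_pow' (PNat.ne_zero f)).mpr even_two
    have ho : ∀ e : ℕ, e ≠ 0 → Odd (Fintype.card F ^ e - 1) := fun e he =>
      Nat.Even.sub_odd (Nat.one_le_pow _ _ Fintype.card_pos) (heven.pow_of_ne_zero he) odd_one
    exact (Nat.not_even_iff_odd.mpr ((ho 2 (by norm_num)).mul ((ho 6 (by norm_num)).mul
      ((ho 8 (by norm_num)).mul (ho 12 (by norm_num)))))) (even_iff_two_dvd.mpr hd)
  let s : ↥((Tbl.datum TF).group F) := ⟨g, hg⟩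
  have hs : s ^ 2 = 1 := Subtype.ext (by rw [pow_two]; exact h)
  have hz : IsPGroup 2 ↥(Subgroup.zpowers s) := by
    intro x
    obtain ⟨m, hm⟩ := Subgroup.mem_zpowers_iff.mp x.2
    refine ⟨1, Subtype.ext ?_⟩
    rw [pow_one, SubgroupClass.coe_pow, ← hm, ← zpow_natCast (s ^ m), ← zpow_mul, mul_comm, zpow_mul,
      zpow_natCast, hs, one_zpow]
    rfl
  obtain ⟨Q, hQ⟩ := hz.exists_le_sylow
  obtain ⟨k, hk⟩ := MulAction.exists_smul_eq ↥((Tbl.datum TF).group F) Q (hP.toSylow hindex)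
  have hmem : k * s * k⁻¹ ∈ P := by
    have := Subgroup.smul_mem_pointwise_smul s (MulAut.conj k) (Q : Subgroup _)
      (hQ (Subgroup.mem_zpowers s))
    rw [← Sylow.coe_subgroup_smul, hk] at this
    exact this
  refine ⟨k, k.2, _, Subgroup.mem_subgroupOf.mp hmem, ?_⟩
  simp only [Subgroup.coe_mul, Subgroup.coe_inv]
  rw [inv_mul_cancel_right]

theorem classify [Fintype F] {g : GL (Tbl.I TF) F} (hg : g ∈ (Tbl.datum TF).group F) (h : g * g = 1)
    (hne : g ≠ 1) : ∃ R ∈ reps, ∃ k ∈ (Tbl.datum TF).group F, k * g = eL TF F R * k := by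
  obtain ⟨k, hk, u, hu, e⟩ := exists_conj_pos hg h
  rcases good_conj hk e (good_pos hu (sq_conj e h)) with h' | h'
  · exact absurd h' hne
  · exact h'

theorem eL_one (r : ℕ) : eL TF F [r] = xx r 1 := by rw [eL_cons, eL_nil, mul_one]

theorem eL_two (r s : ℕ) : eL TF F [r, s] = xx r 1 * xx s 1 := by rw [eL_cons, eL_cons, eL_nil, mul_one]

theorem eL_sq {R : List ℕ} (hR : R ∈ reps) : eL TF F R * eL TF F R = 1 ∧ eL TF F R ≠ 1 := by
  have hV := Data.F4.valid
  have hc : ∀ {a b : ℕ}, allComm TF D [a, b] = true → xx a (1 : F) * xx b 1 * (xx a 1 * xx b 1) = 1 := by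
    intro a b hab
    obtain ⟨hlt, hcm⟩ := allComm_facts (F := F) hV Data.F4.chkComm odd2 hab
    rw [← mul_assoc, mul_assoc (xx a 1) (xx b 1) (xx a 1), ← (hcm a (by simp) b (by simp)).eq,
      ← mul_assoc, xU_sq hV (hlt a (by simp)), one_mul, xU_sq hV (hlt b (by simp))]
  have hone : ∀ r < Tbl.n TF, xx r (1 : F) ≠ 1 := fun r hr e =>
    one_ne_zero (xU_inj hV hr (e.trans (xU_zero hV hr).symm))
  have hrk : rk (1 : GL (Tbl.I TF) F) = 0 := by simp [rk]
  simp only [reps, List.mem_cons, List.not_mem_nil, or_false] at hR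
  rcases hR with rfl | rfl | rfl | rfl
  · rw [eL_one]; exact ⟨xU_sq hV (by decide +kernel) 1, hone 47 (by decide +kernel)⟩
  · rw [eL_one]; exact ⟨xU_sq hV (by decide +kernel) 1, hone 44 (by decide +kernel)⟩
  · rw [eL_two]
    exact ⟨hc (by decide +kernel), fun e => by have := (rk_w (F := F)).1; rw [e, hrk] at this; omega⟩
  · rw [eL_two]
    exact ⟨hc (by decide +kernel), fun e => by have := rk_v (F := F); rw [e, hrk] at this; omega⟩

theorem eL_mem {R : List ℕ} (hR : R ∈ reps) : eL TF F R ∈ (Tbl.datum TF).group F := by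
  refine list_prod_mem fun y hy => ?_
  obtain ⟨m, hm, rfl⟩ := List.mem_map.mp hy
  refine xU_mem_group Data.F4.valid ?_ 1
  have : ∀ R ∈ reps, ∀ m ∈ R, m < Tbl.n TF := by decide +kernel
  exact this R hR m hm

theorem not_conj_long_short {h : GL (Tbl.I TF) F} (hh : h ∈ (Tbl.datum TF).group F)
    (e : h * xx 47 1 = xx 44 1 * h) : False := by
  have hV := Data.F4.valid
  have hC := Data.F4.chkComm
  have hz : ∀ r, allComm TF D [44, 47] = true → r ∈ [44, 47] →
      ∀ u ∈ (Tbl.datum TF).posUnipotent F, u * xx r 1 = xx r 1 * u := by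
    intro r _ hr u hu
    exact CfsgLib.KnownB.RootCentralizer.gen_comm hV hC
      (CfsgLib.KnownB.RootCentralizer.centralCond_of_chk CfsgLib.KnownB.RootCentralizer.F4Mixed.cond_w)
      (List.mem_cons.mpr (by simp only [List.mem_cons, List.not_mem_nil, or_false] at hr ⊢; tauto))
      (CfsgLib.KnownB.RootCentralizer.pos_le_gen hV
        (CfsgLib.KnownB.RootCentralizer.centralCond_of_chk CfsgLib.KnownB.RootCentralizer.F4Mixed.cond_w) hu)
  obtain ⟨b, hb, n, hn, w, hw, hm, u', hu', eh⟩ := exists_canonical hV hC hh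
  obtain ⟨u, hu, d, hd, rfl⟩ := (mem_borel_iff hV).mp hb
  have hu'' : u' ∈ (Tbl.datum TF).posUnipotent F := by
    rw [posUnipotent_rootGen hV]
    exact mono_mem (fun r _ ⟨_, h, _⟩ => h) hu'
  obtain ⟨m, hmdef⟩ : ∃ m, m = d * n := ⟨_, rfl⟩
  have hg' : h = u * m * u' := by rw [eh, hmdef]; group
  have hmm : Tbl.Mono TF m w := by simpa [hmdef] using (mono_diag hV hd).mul hm
  have hfix : m * xx 47 1 = xx 44 1 * m := by
    have c1 := hz 47 (by decide +kernel) (by simp) _ (inv_mem hu'')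
    have c2 := hz 44 (by decide +kernel) (by simp) _ (inv_mem hu)
    calc m * xx 47 1 = u⁻¹ * h * (u'⁻¹ * xx 47 1) := by rw [hg']; group
      _ = u⁻¹ * (h * xx 47 1) * u'⁻¹ := by rw [c1]; simp only [mul_assoc]
      _ = (u⁻¹ * xx 44 1) * h * u'⁻¹ := by rw [e]; simp only [mul_assoc]
      _ = xx 44 1 * m := by rw [c2, hg']; group
  have h47 : 47 < Tbl.n TF := by decide +kernel
  have h44 : 44 < Tbl.n TF := by decide +kernel
  obtain ⟨c, hc⟩ := hmm.conj ⟨47, h47⟩
  have e1 : xx (w ⟨47, h47⟩).val ((c : F) * 1) = xx 44 1 :=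
    mul_right_cancel (((hc 1).1).symm.trans hfix)
  have hne : (w ⟨47, h47⟩).val ≠ 44 := by
    intro e2
    have hl := CfsgLib.KnownB.RootCentralizer.F4Mixed.isLong_image hw ⟨47, h47⟩
    rw [e2] at hl
    revert hl
    show CfsgLib.KnownB.RootCentralizer.F4Mixed.isLong 44 = CfsgLib.KnownB.RootCentralizer.F4Mixed.isLong 47 → False
    decide +kernel
  have e3 := congrArg (fun g : GL (Tbl.I TF) F =>
    (g : Matrix (Tbl.I TF) (Tbl.I TF) F) (Sum.inr ⟨44, h44⟩) (Sum.inl ⟨0, by decide +kernel⟩)) e1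
  simp only [xU_val hV (w ⟨47, h47⟩).2, xU_val hV h44, X_apply] at e3
  have hk : ∀ k ∈ Finset.Ico 1 4, Tbl.colA TF (w ⟨47, h47⟩).val k (Sum.inl ⟨0, by decide +kernel⟩)
      (Sum.inr ⟨44, h44⟩) = 0 := by
    intro k hk
    obtain ⟨hk1, -⟩ := Finset.mem_Ico.mp hk
    obtain ⟨k, rfl⟩ : ∃ k', k = k' + 1 := ⟨k - 1, by omega⟩
    show (if k = 0 then -Tbl.ca TF 0 (w ⟨47, h47⟩).val • Tbl.rootVec TF (w ⟨47, h47⟩).val else 0)
      (Sum.inr ⟨44, h44⟩) = 0
    split_ifs
    · simp [rootVec, Ne.symm hne]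
    · rfl
  rw [Finset.sum_eq_zero fun k hk' => by rw [hk k hk', Int.cast_zero, mul_zero]] at e3
  have hval : ∀ k ∈ Finset.Ico 1 4, (Tbl.colA TF 44 k (Sum.inl ⟨0, by decide +kernel⟩)
      (Sum.inr ⟨44, h44⟩)) % 2 = if k = 1 then 1 else 0 := by
    clear * -
    decide +kernel +revert
  rw [if_neg (by simp), zero_add, zero_add, Finset.sum_congr rfl fun k hk' => by
    rw [one_pow, one_mul, cast_emod, hval k hk']] at e3
  simp [Finset.sum_ite_eq'] at e3

/-- No two of the representatives are conjugate. -/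
theorem not_conj {R R' : List ℕ} (hR : R ∈ reps) (hR' : R' ∈ reps) {h : GL (Tbl.I TF) F}
    (hh : h ∈ (Tbl.datum TF).group F) (e : h * eL TF F R = eL TF F R' * h) :
    eL TF F R = eL TF F R' := by
  have hr := rk_conj e
  have t := rk_root_le (F := F) (r := 47) (by decide +kernel) cols47
  have u := rk_root_le (F := F) (r := 44) (by decide +kernel) cols44
  have w := rk_w (F := F)
  have v := rk_v (F := F)
  simp only [reps, List.mem_cons, List.not_mem_nil, or_false] at hR hR'
  rcases hR with rfl | rfl | rfl | rfl <;> rcases hR' with rfl | rfl | rfl | rfl <;>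
    simp only [eL_one, eL_two] at hr e ⊢
  all_goals first
    | rfl
    | omega
    | exact absurd e (fun e => not_conj_long_short hh e)
    | exact absurd e (fun e => not_conj_long_short (inv_mem hh)
        (by rw [inv_mul_eq_iff_eq_mul, ← mul_assoc, e, mul_inv_cancel_right]))

end CfsgLib.InvClasses.F4
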