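import Cfsg.Agent.Lib.InvClasses.Mod2
import Cfsg.Agent.Lib.Chevalley.Data.F4Comm

/-!
The odd commutator terms of type F₄.
-/

set_option autoImplicit false
set_option maxRecDepth 100000
set_option Elab.async false

namespace CfsgLib.InvClasses.F4

def d0 (s : ℕ) : List (ℕ × ℕ × ℕ) :=
 (bif Nat.blt s 39 then (bif Nat.blt s 31 then (bif Nat.blt s 26 then (bif Nat.beq s 24 then [(1, 1, 1)] else [])
 else (bif Nat.blt s 29 then (bif Nat.beq s 26 then [(2, 1, 1)] else [])
 else (bif Nat.beq s 29 then [(3, 1, 1), (6, 1, 2)] else [])))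
 else (bif Nat.blt s 36 then (bif Nat.blt s 32 then (bif Nat.beq s 31 then [(4, 1, 1)] else [])
 else (bif Nat.beq s 32 then [(5, 1, 1)] else []))
 else (bif Nat.blt s 38 then (bif Nat.beq s 36 then [(7, 1, 1), (17, 1, 2)] else [])
 else (bif Nat.beq s 38 then [(8, 1, 1), (22, 1, 2)] else []))))
 else (bif Nat.blt s 43 then (bif Nat.blt s 40 then (bif Nat.beq s 39 then [(9, 1, 1), (25, 1, 2)] else [])
 else (bif Nat.blt s 42 then (bif Nat.beq s 40 then [(11, 1, 1), (30, 1, 2)] else [])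
 else (bif Nat.beq s 42 then [(15, 1, 1)] else [])))
 else (bif Nat.blt s 45 then (bif Nat.blt s 44 then (bif Nat.beq s 43 then [(16, 1, 1)] else [])
 else (bif Nat.beq s 44 then [(18, 1, 1), (41, 1, 2)] else []))
 else (bif Nat.blt s 46 then (bif Nat.beq s 45 then [(21, 1, 1)] else [])
 else (bif Nat.beq s 46 then [(23, 1, 1)] else [])))))

def d1 (s : ℕ) : List (ℕ × ℕ × ℕ) :=
 (bif Nat.blt s 39 then (bif Nat.blt s 30 then (bif Nat.blt s 25 then (bif Nat.beq s 23 then [(0, 1, 1)] else [])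
 else (bif Nat.blt s 28 then (bif Nat.beq s 25 then [(2, 1, 1)] else [])
 else (bif Nat.beq s 28 then [(3, 1, 1), (5, 1, 2)] else [])))
 else (bif Nat.blt s 35 then (bif Nat.blt s 32 then (bif Nat.beq s 30 then [(4, 1, 1)] else [])
 else (bif Nat.beq s 32 then [(6, 1, 1)] else []))
 else (bif Nat.blt s 37 then (bif Nat.beq s 35 then [(7, 1, 1), (16, 1, 2)] else [])
 else (bif Nat.beq s 37 then [(8, 1, 1), (21, 1, 2)] else []))))
 else (bif Nat.blt s 43 then (bif Nat.blt s 40 then (bif Nat.beq s 39 then [(10, 1, 1), (26, 1, 2)] else [])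
 else (bif Nat.blt s 41 then (bif Nat.beq s 40 then [(12, 1, 1), (31, 1, 2)] else [])
 else (bif Nat.beq s 41 then [(15, 1, 1)] else [])))
 else (bif Nat.blt s 45 then (bif Nat.blt s 44 then (bif Nat.beq s 43 then [(17, 1, 1)] else [])
 else (bif Nat.beq s 44 then [(19, 1, 1), (42, 1, 2)] else []))
 else (bif Nat.blt s 47 then (bif Nat.beq s 45 then [(22, 1, 1)] else [])
 else (bif Nat.beq s 47 then [(24, 1, 1)] else [])))))

def d2 (s : ℕ) : List (ℕ × ℕ × ℕ) :=
 (bif Nat.blt s 38 then (bif Nat.blt s 30 then (bif Nat.blt s 22 then (bif Nat.beq s 21 then [(0, 1, 1)] else [])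
 else (bif Nat.blt s 27 then (bif Nat.beq s 22 then [(1, 1, 1)] else [])
 else (bif Nat.beq s 27 then [(3, 1, 1), (4, 1, 2)] else [])))
 else (bif Nat.blt s 34 then (bif Nat.blt s 31 then (bif Nat.beq s 30 then [(5, 1, 1)] else [])
 else (bif Nat.beq s 31 then [(6, 1, 1)] else []))
 else (bif Nat.blt s 37 then (bif Nat.beq s 34 then [(7, 1, 1), (15, 1, 2)] else [])
 else (bif Nat.beq s 37 then [(9, 1, 1), (23, 1, 2)] else []))))
 else (bif Nat.blt s 42 then (bif Nat.blt s 40 then (bif Nat.beq s 38 then [(10, 1, 1), (24, 1, 2)] else [])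
 else (bif Nat.blt s 41 then (bif Nat.beq s 40 then [(13, 1, 1), (32, 1, 2)] else [])
 else (bif Nat.beq s 41 then [(16, 1, 1)] else [])))
 else (bif Nat.blt s 46 then (bif Nat.blt s 44 then (bif Nat.beq s 42 then [(17, 1, 1)] else [])
 else (bif Nat.beq s 44 then [(20, 1, 1), (43, 1, 2)] else []))
 else (bif Nat.blt s 47 then (bif Nat.beq s 46 then [(25, 1, 1)] else [])
 else (bif Nat.beq s 47 then [(26, 1, 1)] else [])))))

def d3 (s : ℕ) : List (ℕ × ℕ × ℕ) :=
 (bif Nat.blt s 40 then (bif Nat.blt s 36 then (bif Nat.blt s 34 then (bif Nat.beq s 33 then [(7, 1, 1)] else [])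
 else (bif Nat.blt s 35 then (bif Nat.beq s 34 then [(8, 1, 1)] else [])
 else (bif Nat.beq s 35 then [(9, 1, 1)] else [])))
 else (bif Nat.blt s 38 then (bif Nat.blt s 37 then (bif Nat.beq s 36 then [(10, 1, 1)] else [])
 else (bif Nat.beq s 37 then [(11, 1, 1)] else []))
 else (bif Nat.blt s 39 then (bif Nat.beq s 38 then [(12, 1, 1)] else [])
 else (bif Nat.beq s 39 then [(13, 1, 1)] else []))))
 else (bif Nat.blt s 43 then (bif Nat.blt s 41 then (bif Nat.beq s 40 then [(14, 1, 1)] else [])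
 else (bif Nat.blt s 42 then (bif Nat.beq s 41 then [(18, 1, 1), (0, 2, 1)] else [])
 else (bif Nat.beq s 42 then [(19, 1, 1), (1, 2, 1)] else [])))
 else (bif Nat.blt s 46 then (bif Nat.blt s 45 then (bif Nat.beq s 43 then [(20, 1, 1), (2, 2, 1)] else [])
 else (bif Nat.beq s 45 then [(27, 1, 1), (4, 2, 1)] else []))
 else (bif Nat.blt s 47 then (bif Nat.beq s 46 then [(28, 1, 1), (5, 2, 1)] else [])
 else (bif Nat.beq s 47 then [(29, 1, 1), (6, 2, 1)] else [])))))

def d4 (s : ℕ) : List (ℕ × ℕ × ℕ) :=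
 (bif Nat.blt s 36 then (bif Nat.blt s 25 then (bif Nat.blt s 17 then (bif Nat.beq s 16 then [(0, 1, 1)] else [])
 else (bif Nat.blt s 20 then (bif Nat.beq s 17 then [(1, 1, 1)] else [])
 else (bif Nat.beq s 20 then [(3, 1, 1), (2, 1, 2)] else [])))
 else (bif Nat.blt s 33 then (bif Nat.blt s 26 then (bif Nat.beq s 25 then [(5, 1, 1)] else [])
 else (bif Nat.beq s 26 then [(6, 1, 1)] else []))
 else (bif Nat.blt s 35 then (bif Nat.beq s 33 then [(8, 1, 1), (15, 1, 2)] else [])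
 else (bif Nat.beq s 35 then [(11, 1, 1), (23, 1, 2)] else []))))
 else (bif Nat.blt s 42 then (bif Nat.blt s 39 then (bif Nat.beq s 36 then [(12, 1, 1), (24, 1, 2)] else [])
 else (bif Nat.blt s 41 then (bif Nat.beq s 39 then [(14, 1, 1), (32, 1, 2)] else [])
 else (bif Nat.beq s 41 then [(21, 1, 1)] else [])))
 else (bif Nat.blt s 46 then (bif Nat.blt s 44 then (bif Nat.beq s 42 then [(22, 1, 1)] else [])
 else (bif Nat.beq s 44 then [(27, 1, 1), (45, 1, 2)] else []))
 else (bif Nat.blt s 47 then (bif Nat.beq s 46 then [(30, 1, 1)] else [])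
 else (bif Nat.beq s 47 then [(31, 1, 1)] else [])))))

def d5 (s : ℕ) : List (ℕ × ℕ × ℕ) :=
 (bif Nat.blt s 36 then (bif Nat.blt s 22 then (bif Nat.blt s 17 then (bif Nat.beq s 15 then [(0, 1, 1)] else [])
 else (bif Nat.blt s 19 then (bif Nat.beq s 17 then [(2, 1, 1)] else [])
 else (bif Nat.beq s 19 then [(3, 1, 1), (1, 1, 2)] else [])))
 else (bif Nat.blt s 33 then (bif Nat.blt s 24 then (bif Nat.beq s 22 then [(4, 1, 1)] else [])
 else (bif Nat.beq s 24 then [(6, 1, 1)] else []))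
 else (bif Nat.blt s 34 then (bif Nat.beq s 33 then [(9, 1, 1), (16, 1, 2)] else [])
 else (bif Nat.beq s 34 then [(11, 1, 1), (21, 1, 2)] else []))))
 else (bif Nat.blt s 43 then (bif Nat.blt s 38 then (bif Nat.beq s 36 then [(13, 1, 1), (26, 1, 2)] else [])
 else (bif Nat.blt s 41 then (bif Nat.beq s 38 then [(14, 1, 1), (31, 1, 2)] else [])
 else (bif Nat.beq s 41 then [(23, 1, 1)] else [])))
 else (bif Nat.blt s 45 then (bif Nat.blt s 44 then (bif Nat.beq s 43 then [(25, 1, 1)] else [])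
 else (bif Nat.beq s 44 then [(28, 1, 1), (46, 1, 2)] else []))
 else (bif Nat.blt s 47 then (bif Nat.beq s 45 then [(30, 1, 1)] else [])
 else (bif Nat.beq s 47 then [(32, 1, 1)] else [])))))

def d6 (s : ℕ) : List (ℕ × ℕ × ℕ) :=
 (bif Nat.blt s 35 then (bif Nat.blt s 21 then (bif Nat.blt s 16 then (bif Nat.beq s 15 then [(1, 1, 1)] else [])
 else (bif Nat.blt s 18 then (bif Nat.beq s 16 then [(2, 1, 1)] else [])
 else (bif Nat.beq s 18 then [(3, 1, 1), (0, 1, 2)] else [])))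
 else (bif Nat.blt s 33 then (bif Nat.blt s 23 then (bif Nat.beq s 21 then [(4, 1, 1)] else [])
 else (bif Nat.beq s 23 then [(5, 1, 1)] else []))
 else (bif Nat.blt s 34 then (bif Nat.beq s 33 then [(10, 1, 1), (17, 1, 2)] else [])
 else (bif Nat.beq s 34 then [(12, 1, 1), (22, 1, 2)] else []))))
 else (bif Nat.blt s 43 then (bif Nat.blt s 37 then (bif Nat.beq s 35 then [(13, 1, 1), (25, 1, 2)] else [])
 else (bif Nat.blt s 42 then (bif Nat.beq s 37 then [(14, 1, 1), (30, 1, 2)] else [])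
 else (bif Nat.beq s 42 then [(24, 1, 1)] else [])))
 else (bif Nat.blt s 45 then (bif Nat.blt s 44 then (bif Nat.beq s 43 then [(26, 1, 1)] else [])
 else (bif Nat.beq s 44 then [(29, 1, 1), (47, 1, 2)] else []))
 else (bif Nat.blt s 46 then (bif Nat.beq s 45 then [(31, 1, 1)] else [])
 else (bif Nat.beq s 46 then [(32, 1, 1)] else [])))))

def d7 (s : ℕ) : List (ℕ × ℕ × ℕ) :=
 (bif Nat.blt s 37 then (bif Nat.blt s 29 then (bif Nat.blt s 27 then (bif Nat.beq s 14 then [(3, 1, 1)] else [])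
 else (bif Nat.blt s 28 then (bif Nat.beq s 27 then [(8, 1, 1)] else [])
 else (bif Nat.beq s 28 then [(9, 1, 1)] else [])))
 else (bif Nat.blt s 31 then (bif Nat.blt s 30 then (bif Nat.beq s 29 then [(10, 1, 1)] else [])
 else (bif Nat.beq s 30 then [(11, 1, 1), (0, 2, 1)] else []))
 else (bif Nat.blt s 32 then (bif Nat.beq s 31 then [(12, 1, 1), (1, 2, 1)] else [])
 else (bif Nat.beq s 32 then [(13, 1, 1), (2, 2, 1)] else []))))
 else (bif Nat.blt s 44 then (bif Nat.blt s 38 then (bif Nat.beq s 37 then [(18, 1, 1)] else [])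
 else (bif Nat.blt s 39 then (bif Nat.beq s 38 then [(19, 1, 1)] else [])
 else (bif Nat.beq s 39 then [(20, 1, 1)] else [])))
 else (bif Nat.blt s 46 then (bif Nat.blt s 45 then (bif Nat.beq s 44 then [(33, 1, 1)] else [])
 else (bif Nat.beq s 45 then [(34, 1, 1), (15, 2, 1)] else []))
 else (bif Nat.blt s 47 then (bif Nat.beq s 46 then [(35, 1, 1), (16, 2, 1)] else [])
 else (bif Nat.beq s 47 then [(36, 1, 1), (17, 2, 1)] else [])))))

def d8 (s : ℕ) : List (ℕ × ℕ × ℕ) :=
 (bif Nat.blt s 35 then (bif Nat.blt s 26 then (bif Nat.blt s 20 then (bif Nat.beq s 13 then [(3, 1, 1)] else [])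
 else (bif Nat.blt s 25 then (bif Nat.beq s 20 then [(7, 1, 1)] else [])
 else (bif Nat.beq s 25 then [(9, 1, 1), (0, 2, 1)] else [])))
 else (bif Nat.blt s 29 then (bif Nat.blt s 28 then (bif Nat.beq s 26 then [(10, 1, 1), (1, 2, 1)] else [])
 else (bif Nat.beq s 28 then [(11, 1, 1)] else []))
 else (bif Nat.blt s 32 then (bif Nat.beq s 29 then [(12, 1, 1)] else [])
 else (bif Nat.beq s 32 then [(14, 1, 1), (4, 2, 1)] else []))))
 else (bif Nat.blt s 43 then (bif Nat.blt s 36 then (bif Nat.beq s 35 then [(18, 1, 1)] else [])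
 else (bif Nat.blt s 40 then (bif Nat.beq s 36 then [(19, 1, 1)] else [])
 else (bif Nat.beq s 40 then [(27, 1, 1)] else [])))
 else (bif Nat.blt s 46 then (bif Nat.blt s 44 then (bif Nat.beq s 43 then [(33, 1, 1), (15, 2, 1)] else [])
 else (bif Nat.beq s 44 then [(34, 1, 1)] else []))
 else (bif Nat.blt s 47 then (bif Nat.beq s 46 then [(37, 1, 1), (21, 2, 1)] else [])
 else (bif Nat.beq s 47 then [(38, 1, 1), (22, 2, 1)] else [])))))

def d9 (s : ℕ) : List (ℕ × ℕ × ℕ) :=
 (bif Nat.blt s 34 then (bif Nat.blt s 24 then (bif Nat.blt s 19 then (bif Nat.beq s 12 then [(3, 1, 1)] else [])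
 else (bif Nat.blt s 22 then (bif Nat.beq s 19 then [(7, 1, 1)] else [])
 else (bif Nat.beq s 22 then [(8, 1, 1), (0, 2, 1)] else [])))
 else (bif Nat.blt s 29 then (bif Nat.blt s 27 then (bif Nat.beq s 24 then [(10, 1, 1), (2, 2, 1)] else [])
 else (bif Nat.beq s 27 then [(11, 1, 1)] else []))
 else (bif Nat.blt s 31 then (bif Nat.beq s 29 then [(13, 1, 1)] else [])
 else (bif Nat.beq s 31 then [(14, 1, 1), (5, 2, 1)] else []))))
 else (bif Nat.blt s 42 then (bif Nat.blt s 36 then (bif Nat.beq s 34 then [(18, 1, 1)] else [])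
 else (bif Nat.blt s 40 then (bif Nat.beq s 36 then [(20, 1, 1)] else [])
 else (bif Nat.beq s 40 then [(28, 1, 1)] else [])))
 else (bif Nat.blt s 45 then (bif Nat.blt s 44 then (bif Nat.beq s 42 then [(33, 1, 1), (16, 2, 1)] else [])
 else (bif Nat.beq s 44 then [(35, 1, 1)] else []))
 else (bif Nat.blt s 47 then (bif Nat.beq s 45 then [(37, 1, 1), (23, 2, 1)] else [])
 else (bif Nat.beq s 47 then [(39, 1, 1), (25, 2, 1)] else [])))))

def d10 (s : ℕ) : List (ℕ × ℕ × ℕ) :=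
 (bif Nat.blt s 34 then (bif Nat.blt s 23 then (bif Nat.blt s 18 then (bif Nat.beq s 11 then [(3, 1, 1)] else [])
 else (bif Nat.blt s 21 then (bif Nat.beq s 18 then [(7, 1, 1)] else [])
 else (bif Nat.beq s 21 then [(8, 1, 1), (1, 2, 1)] else [])))
 else (bif Nat.blt s 28 then (bif Nat.blt s 27 then (bif Nat.beq s 23 then [(9, 1, 1), (2, 2, 1)] else [])
 else (bif Nat.beq s 27 then [(12, 1, 1)] else []))
 else (bif Nat.blt s 30 then (bif Nat.beq s 28 then [(13, 1, 1)] else [])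
 else (bif Nat.beq s 30 then [(14, 1, 1), (6, 2, 1)] else []))))
 else (bif Nat.blt s 41 then (bif Nat.blt s 35 then (bif Nat.beq s 34 then [(19, 1, 1)] else [])
 else (bif Nat.blt s 40 then (bif Nat.beq s 35 then [(20, 1, 1)] else [])
 else (bif Nat.beq s 40 then [(29, 1, 1)] else [])))
 else (bif Nat.blt s 45 then (bif Nat.blt s 44 then (bif Nat.beq s 41 then [(33, 1, 1), (17, 2, 1)] else [])
 else (bif Nat.beq s 44 then [(36, 1, 1)] else []))
 else (bif Nat.blt s 46 then (bif Nat.beq s 45 then [(38, 1, 1), (24, 2, 1)] else [])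
 else (bif Nat.beq s 46 then [(39, 1, 1), (26, 2, 1)] else [])))))

def d11 (s : ℕ) : List (ℕ × ℕ × ℕ) :=
 (bif Nat.blt s 33 then (bif Nat.blt s 20 then (bif Nat.blt s 17 then (bif Nat.beq s 10 then [(3, 1, 1)] else [])
 else (bif Nat.blt s 19 then (bif Nat.beq s 17 then [(7, 1, 1), (0, 2, 1)] else [])
 else (bif Nat.beq s 19 then [(8, 1, 1)] else [])))
 else (bif Nat.blt s 26 then (bif Nat.blt s 24 then (bif Nat.beq s 20 then [(9, 1, 1)] else [])
 else (bif Nat.beq s 24 then [(12, 1, 1), (4, 2, 1)] else []))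
 else (bif Nat.blt s 29 then (bif Nat.beq s 26 then [(13, 1, 1), (5, 2, 1)] else [])
 else (bif Nat.beq s 29 then [(14, 1, 1)] else []))))
 else (bif Nat.blt s 42 then (bif Nat.blt s 38 then (bif Nat.beq s 33 then [(18, 1, 1)] else [])
 else (bif Nat.blt s 39 then (bif Nat.beq s 38 then [(27, 1, 1)] else [])
 else (bif Nat.beq s 39 then [(28, 1, 1)] else [])))
 else (bif Nat.blt s 44 then (bif Nat.blt s 43 then (bif Nat.beq s 42 then [(34, 1, 1), (21, 2, 1)] else [])
 else (bif Nat.beq s 43 then [(35, 1, 1), (23, 2, 1)] else []))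
 else (bif Nat.blt s 47 then (bif Nat.beq s 44 then [(37, 1, 1)] else [])
 else (bif Nat.beq s 47 then [(40, 1, 1), (30, 2, 1)] else [])))))

def d12 (s : ℕ) : List (ℕ × ℕ × ℕ) :=
 (bif Nat.blt s 33 then (bif Nat.blt s 20 then (bif Nat.blt s 16 then (bif Nat.beq s 9 then [(3, 1, 1)] else [])
 else (bif Nat.blt s 18 then (bif Nat.beq s 16 then [(7, 1, 1), (1, 2, 1)] else [])
 else (bif Nat.beq s 18 then [(8, 1, 1)] else [])))
 else (bif Nat.blt s 25 then (bif Nat.blt s 23 then (bif Nat.beq s 20 then [(10, 1, 1)] else [])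
 else (bif Nat.beq s 23 then [(11, 1, 1), (4, 2, 1)] else []))
 else (bif Nat.blt s 28 then (bif Nat.beq s 25 then [(13, 1, 1), (6, 2, 1)] else [])
 else (bif Nat.beq s 28 then [(14, 1, 1)] else []))))
 else (bif Nat.blt s 41 then (bif Nat.blt s 37 then (bif Nat.beq s 33 then [(19, 1, 1)] else [])
 else (bif Nat.blt s 39 then (bif Nat.beq s 37 then [(27, 1, 1)] else [])
 else (bif Nat.beq s 39 then [(29, 1, 1)] else [])))
 else (bif Nat.blt s 44 then (bif Nat.blt s 43 then (bif Nat.beq s 41 then [(34, 1, 1), (22, 2, 1)] else [])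
 else (bif Nat.beq s 43 then [(36, 1, 1), (24, 2, 1)] else []))
 else (bif Nat.blt s 46 then (bif Nat.beq s 44 then [(38, 1, 1)] else [])
 else (bif Nat.beq s 46 then [(40, 1, 1), (31, 2, 1)] else [])))))

def d13 (s : ℕ) : List (ℕ × ℕ × ℕ) :=
 (bif Nat.blt s 33 then (bif Nat.blt s 19 then (bif Nat.blt s 15 then (bif Nat.beq s 8 then [(3, 1, 1)] else [])
 else (bif Nat.blt s 18 then (bif Nat.beq s 15 then [(7, 1, 1), (2, 2, 1)] else [])
 else (bif Nat.beq s 18 then [(9, 1, 1)] else [])))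
 else (bif Nat.blt s 22 then (bif Nat.blt s 21 then (bif Nat.beq s 19 then [(10, 1, 1)] else [])
 else (bif Nat.beq s 21 then [(11, 1, 1), (5, 2, 1)] else []))
 else (bif Nat.blt s 27 then (bif Nat.beq s 22 then [(12, 1, 1), (6, 2, 1)] else [])
 else (bif Nat.beq s 27 then [(14, 1, 1)] else []))))
 else (bif Nat.blt s 41 then (bif Nat.blt s 37 then (bif Nat.beq s 33 then [(20, 1, 1)] else [])
 else (bif Nat.blt s 38 then (bif Nat.beq s 37 then [(28, 1, 1)] else [])
 else (bif Nat.beq s 38 then [(29, 1, 1)] else [])))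
 else (bif Nat.blt s 44 then (bif Nat.blt s 42 then (bif Nat.beq s 41 then [(35, 1, 1), (25, 2, 1)] else [])
 else (bif Nat.beq s 42 then [(36, 1, 1), (26, 2, 1)] else []))
 else (bif Nat.blt s 45 then (bif Nat.beq s 44 then [(39, 1, 1)] else [])
 else (bif Nat.beq s 45 then [(40, 1, 1), (32, 2, 1)] else [])))))

def d14 (s : ℕ) : List (ℕ × ℕ × ℕ) :=
 (bif Nat.blt s 34 then (bif Nat.blt s 17 then (bif Nat.blt s 15 then (bif Nat.beq s 7 then [(3, 1, 1)] else [])
 else (bif Nat.blt s 16 then (bif Nat.beq s 15 then [(8, 1, 1), (4, 2, 1)] else [])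
 else (bif Nat.beq s 16 then [(9, 1, 1), (5, 2, 1)] else [])))
 else (bif Nat.blt s 19 then (bif Nat.blt s 18 then (bif Nat.beq s 17 then [(10, 1, 1), (6, 2, 1)] else [])
 else (bif Nat.beq s 18 then [(11, 1, 1)] else []))
 else (bif Nat.blt s 20 then (bif Nat.beq s 19 then [(12, 1, 1)] else [])
 else (bif Nat.beq s 20 then [(13, 1, 1)] else []))))
 else (bif Nat.blt s 41 then (bif Nat.blt s 35 then (bif Nat.beq s 34 then [(27, 1, 1)] else [])
 else (bif Nat.blt s 36 then (bif Nat.beq s 35 then [(28, 1, 1)] else [])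
 else (bif Nat.beq s 36 then [(29, 1, 1)] else [])))
 else (bif Nat.blt s 43 then (bif Nat.blt s 42 then (bif Nat.beq s 41 then [(37, 1, 1), (30, 2, 1)] else [])
 else (bif Nat.beq s 42 then [(38, 1, 1), (31, 2, 1)] else []))
 else (bif Nat.blt s 44 then (bif Nat.beq s 43 then [(39, 1, 1), (32, 2, 1)] else [])
 else (bif Nat.beq s 44 then [(40, 1, 1)] else [])))))

def d15 (s : ℕ) : List (ℕ × ℕ × ℕ) :=
 (bif Nat.blt s 29 then (bif Nat.blt s 14 then (bif Nat.blt s 6 then (bif Nat.beq s 5 then [(0, 1, 1)] else [])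
 else (bif Nat.blt s 13 then (bif Nat.beq s 6 then [(1, 1, 1)] else [])
 else (bif Nat.beq s 13 then [(7, 1, 1), (2, 1, 2)] else [])))
 else (bif Nat.blt s 26 then (bif Nat.blt s 25 then (bif Nat.beq s 14 then [(8, 1, 1), (4, 1, 2)] else [])
 else (bif Nat.beq s 25 then [(16, 1, 1)] else []))
 else (bif Nat.blt s 28 then (bif Nat.beq s 26 then [(17, 1, 1)] else [])
 else (bif Nat.beq s 28 then [(18, 1, 1), (23, 1, 2)] else []))))
 else (bif Nat.blt s 39 then (bif Nat.blt s 30 then (bif Nat.beq s 29 then [(19, 1, 1), (24, 1, 2)] else [])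
 else (bif Nat.blt s 31 then (bif Nat.beq s 30 then [(21, 1, 1)] else [])
 else (bif Nat.beq s 31 then [(22, 1, 1)] else [])))
 else (bif Nat.blt s 46 then (bif Nat.blt s 40 then (bif Nat.beq s 39 then [(33, 1, 1), (43, 1, 2)] else [])
 else (bif Nat.beq s 40 then [(34, 1, 1), (45, 1, 2)] else []))
 else (bif Nat.blt s 47 then (bif Nat.beq s 46 then [(41, 1, 1)] else [])
 else (bif Nat.beq s 47 then [(42, 1, 1)] else [])))))

def d16 (s : ℕ) : List (ℕ × ℕ × ℕ) :=
 (bif Nat.blt s 29 then (bif Nat.blt s 14 then (bif Nat.blt s 6 then (bif Nat.beq s 4 then [(0, 1, 1)] else [])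
 else (bif Nat.blt s 12 then (bif Nat.beq s 6 then [(2, 1, 1)] else [])
 else (bif Nat.beq s 12 then [(7, 1, 1), (1, 1, 2)] else [])))
 else (bif Nat.blt s 24 then (bif Nat.blt s 22 then (bif Nat.beq s 14 then [(9, 1, 1), (5, 1, 2)] else [])
 else (bif Nat.beq s 22 then [(15, 1, 1)] else []))
 else (bif Nat.blt s 27 then (bif Nat.beq s 24 then [(17, 1, 1)] else [])
 else (bif Nat.beq s 27 then [(18, 1, 1), (21, 1, 2)] else []))))
 else (bif Nat.blt s 38 then (bif Nat.blt s 30 then (bif Nat.beq s 29 then [(20, 1, 1), (26, 1, 2)] else [])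
 else (bif Nat.blt s 32 then (bif Nat.beq s 30 then [(23, 1, 1)] else [])
 else (bif Nat.beq s 32 then [(25, 1, 1)] else [])))
 else (bif Nat.blt s 45 then (bif Nat.blt s 40 then (bif Nat.beq s 38 then [(33, 1, 1), (42, 1, 2)] else [])
 else (bif Nat.beq s 40 then [(35, 1, 1), (46, 1, 2)] else []))
 else (bif Nat.blt s 47 then (bif Nat.beq s 45 then [(41, 1, 1)] else [])
 else (bif Nat.beq s 47 then [(43, 1, 1)] else [])))))

def d17 (s : ℕ) : List (ℕ × ℕ × ℕ) :=
 (bif Nat.blt s 28 then (bif Nat.blt s 14 then (bif Nat.blt s 5 then (bif Nat.beq s 4 then [(1, 1, 1)] else [])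
 else (bif Nat.blt s 11 then (bif Nat.beq s 5 then [(2, 1, 1)] else [])
 else (bif Nat.beq s 11 then [(7, 1, 1), (0, 1, 2)] else [])))
 else (bif Nat.blt s 23 then (bif Nat.blt s 21 then (bif Nat.beq s 14 then [(10, 1, 1), (6, 1, 2)] else [])
 else (bif Nat.beq s 21 then [(15, 1, 1)] else []))
 else (bif Nat.blt s 27 then (bif Nat.beq s 23 then [(16, 1, 1)] else [])
 else (bif Nat.beq s 27 then [(19, 1, 1), (22, 1, 2)] else []))))
 else (bif Nat.blt s 37 then (bif Nat.blt s 31 then (bif Nat.beq s 28 then [(20, 1, 1), (25, 1, 2)] else [])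
 else (bif Nat.blt s 32 then (bif Nat.beq s 31 then [(24, 1, 1)] else [])
 else (bif Nat.beq s 32 then [(26, 1, 1)] else [])))
 else (bif Nat.blt s 45 then (bif Nat.blt s 40 then (bif Nat.beq s 37 then [(33, 1, 1), (41, 1, 2)] else [])
 else (bif Nat.beq s 40 then [(36, 1, 1), (47, 1, 2)] else []))
 else (bif Nat.blt s 46 then (bif Nat.beq s 45 then [(42, 1, 1)] else [])
 else (bif Nat.beq s 46 then [(43, 1, 1)] else [])))))

def d18 (s : ℕ) : List (ℕ × ℕ × ℕ) :=
 (bif Nat.blt s 31 then (bif Nat.blt s 13 then (bif Nat.blt s 10 then (bif Nat.beq s 6 then [(3, 1, 1), (0, 2, 1)] else [])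
 else (bif Nat.blt s 12 then (bif Nat.beq s 10 then [(7, 1, 1)] else [])
 else (bif Nat.beq s 12 then [(8, 1, 1)] else [])))
 else (bif Nat.blt s 24 then (bif Nat.blt s 14 then (bif Nat.beq s 13 then [(9, 1, 1)] else [])
 else (bif Nat.beq s 14 then [(11, 1, 1)] else []))
 else (bif Nat.blt s 26 then (bif Nat.beq s 24 then [(19, 1, 1), (15, 2, 1)] else [])
 else (bif Nat.beq s 26 then [(20, 1, 1), (16, 2, 1)] else []))))
 else (bif Nat.blt s 38 then (bif Nat.blt s 32 then (bif Nat.beq s 31 then [(27, 1, 1), (21, 2, 1)] else [])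
 else (bif Nat.blt s 36 then (bif Nat.beq s 32 then [(28, 1, 1), (23, 2, 1)] else [])
 else (bif Nat.beq s 36 then [(33, 1, 1)] else [])))
 else (bif Nat.blt s 40 then (bif Nat.blt s 39 then (bif Nat.beq s 38 then [(34, 1, 1)] else [])
 else (bif Nat.beq s 39 then [(35, 1, 1)] else []))
 else (bif Nat.blt s 47 then (bif Nat.beq s 40 then [(37, 1, 1)] else [])
 else (bif Nat.beq s 47 then [(44, 1, 1), (41, 2, 1)] else [])))))

def d19 (s : ℕ) : List (ℕ × ℕ × ℕ) :=
 (bif Nat.blt s 30 then (bif Nat.blt s 13 then (bif Nat.blt s 9 then (bif Nat.beq s 5 then [(3, 1, 1), (1, 2, 1)] else [])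
 else (bif Nat.blt s 11 then (bif Nat.beq s 9 then [(7, 1, 1)] else [])
 else (bif Nat.beq s 11 then [(8, 1, 1)] else [])))
 else (bif Nat.blt s 23 then (bif Nat.blt s 14 then (bif Nat.beq s 13 then [(10, 1, 1)] else [])
 else (bif Nat.beq s 14 then [(12, 1, 1)] else []))
 else (bif Nat.blt s 25 then (bif Nat.beq s 23 then [(18, 1, 1), (15, 2, 1)] else [])
 else (bif Nat.beq s 25 then [(20, 1, 1), (17, 2, 1)] else []))))
 else (bif Nat.blt s 37 then (bif Nat.blt s 32 then (bif Nat.beq s 30 then [(27, 1, 1), (22, 2, 1)] else [])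
 else (bif Nat.blt s 35 then (bif Nat.beq s 32 then [(29, 1, 1), (24, 2, 1)] else [])
 else (bif Nat.beq s 35 then [(33, 1, 1)] else [])))
 else (bif Nat.blt s 40 then (bif Nat.blt s 39 then (bif Nat.beq s 37 then [(34, 1, 1)] else [])
 else (bif Nat.beq s 39 then [(36, 1, 1)] else []))
 else (bif Nat.blt s 46 then (bif Nat.beq s 40 then [(38, 1, 1)] else [])
 else (bif Nat.beq s 46 then [(44, 1, 1), (42, 2, 1)] else [])))))

def d20 (s : ℕ) : List (ℕ × ℕ × ℕ) :=
 (bif Nat.blt s 30 then (bif Nat.blt s 12 then (bif Nat.blt s 8 then (bif Nat.beq s 4 then [(3, 1, 1), (2, 2, 1)] else [])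
 else (bif Nat.blt s 11 then (bif Nat.beq s 8 then [(7, 1, 1)] else [])
 else (bif Nat.beq s 11 then [(9, 1, 1)] else [])))
 else (bif Nat.blt s 21 then (bif Nat.blt s 14 then (bif Nat.beq s 12 then [(10, 1, 1)] else [])
 else (bif Nat.beq s 14 then [(13, 1, 1)] else []))
 else (bif Nat.blt s 22 then (bif Nat.beq s 21 then [(18, 1, 1), (16, 2, 1)] else [])
 else (bif Nat.beq s 22 then [(19, 1, 1), (17, 2, 1)] else []))))
 else (bif Nat.blt s 37 then (bif Nat.blt s 31 then (bif Nat.beq s 30 then [(28, 1, 1), (25, 2, 1)] else [])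
 else (bif Nat.blt s 34 then (bif Nat.beq s 31 then [(29, 1, 1), (26, 2, 1)] else [])
 else (bif Nat.beq s 34 then [(33, 1, 1)] else [])))
 else (bif Nat.blt s 40 then (bif Nat.blt s 38 then (bif Nat.beq s 37 then [(35, 1, 1)] else [])
 else (bif Nat.beq s 38 then [(36, 1, 1)] else []))
 else (bif Nat.blt s 45 then (bif Nat.beq s 40 then [(39, 1, 1)] else [])
 else (bif Nat.beq s 45 then [(44, 1, 1), (43, 2, 1)] else [])))))

def d21 (s : ℕ) : List (ℕ × ℕ × ℕ) :=
 (bif Nat.blt s 25 then (bif Nat.blt s 13 then (bif Nat.blt s 6 then (bif Nat.beq s 2 then [(0, 1, 1)] else [])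
 else (bif Nat.blt s 10 then (bif Nat.beq s 6 then [(4, 1, 1)] else [])
 else (bif Nat.beq s 10 then [(8, 1, 1), (1, 1, 2)] else [])))
 else (bif Nat.blt s 20 then (bif Nat.blt s 17 then (bif Nat.beq s 13 then [(11, 1, 1), (5, 1, 2)] else [])
 else (bif Nat.beq s 17 then [(15, 1, 1)] else []))
 else (bif Nat.blt s 24 then (bif Nat.beq s 20 then [(18, 1, 1), (16, 1, 2)] else [])
 else (bif Nat.beq s 24 then [(22, 1, 1)] else []))))
 else (bif Nat.blt s 36 then (bif Nat.blt s 29 then (bif Nat.beq s 25 then [(23, 1, 1)] else [])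
 else (bif Nat.blt s 32 then (bif Nat.beq s 29 then [(27, 1, 1), (31, 1, 2)] else [])
 else (bif Nat.beq s 32 then [(30, 1, 1)] else [])))
 else (bif Nat.blt s 43 then (bif Nat.blt s 39 then (bif Nat.beq s 36 then [(34, 1, 1), (42, 1, 2)] else [])
 else (bif Nat.beq s 39 then [(37, 1, 1), (46, 1, 2)] else []))
 else (bif Nat.blt s 47 then (bif Nat.beq s 43 then [(41, 1, 1)] else [])
 else (bif Nat.beq s 47 then [(45, 1, 1)] else [])))))

def d22 (s : ℕ) : List (ℕ × ℕ × ℕ) :=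
 (bif Nat.blt s 26 then (bif Nat.blt s 13 then (bif Nat.blt s 5 then (bif Nat.beq s 2 then [(1, 1, 1)] else [])
 else (bif Nat.blt s 9 then (bif Nat.beq s 5 then [(4, 1, 1)] else [])
 else (bif Nat.beq s 9 then [(8, 1, 1), (0, 1, 2)] else [])))
 else (bif Nat.blt s 20 then (bif Nat.blt s 16 then (bif Nat.beq s 13 then [(12, 1, 1), (6, 1, 2)] else [])
 else (bif Nat.beq s 16 then [(15, 1, 1)] else []))
 else (bif Nat.blt s 23 then (bif Nat.beq s 20 then [(19, 1, 1), (17, 1, 2)] else [])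
 else (bif Nat.beq s 23 then [(21, 1, 1)] else []))))
 else (bif Nat.blt s 35 then (bif Nat.blt s 28 then (bif Nat.beq s 26 then [(24, 1, 1)] else [])
 else (bif Nat.blt s 32 then (bif Nat.beq s 28 then [(27, 1, 1), (30, 1, 2)] else [])
 else (bif Nat.beq s 32 then [(31, 1, 1)] else [])))
 else (bif Nat.blt s 43 then (bif Nat.blt s 39 then (bif Nat.beq s 35 then [(34, 1, 1), (41, 1, 2)] else [])
 else (bif Nat.beq s 39 then [(38, 1, 1), (47, 1, 2)] else []))
 else (bif Nat.blt s 46 then (bif Nat.beq s 43 then [(42, 1, 1)] else [])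
 else (bif Nat.beq s 46 then [(45, 1, 1)] else [])))))

def d23 (s : ℕ) : List (ℕ × ℕ × ℕ) :=
 (bif Nat.blt s 26 then (bif Nat.blt s 12 then (bif Nat.blt s 6 then (bif Nat.beq s 1 then [(0, 1, 1)] else [])
 else (bif Nat.blt s 10 then (bif Nat.beq s 6 then [(5, 1, 1)] else [])
 else (bif Nat.beq s 10 then [(9, 1, 1), (2, 1, 2)] else [])))
 else (bif Nat.blt s 19 then (bif Nat.blt s 17 then (bif Nat.beq s 12 then [(11, 1, 1), (4, 1, 2)] else [])
 else (bif Nat.beq s 17 then [(16, 1, 1)] else []))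
 else (bif Nat.blt s 22 then (bif Nat.beq s 19 then [(18, 1, 1), (15, 1, 2)] else [])
 else (bif Nat.beq s 22 then [(21, 1, 1)] else []))))
 else (bif Nat.blt s 36 then (bif Nat.blt s 29 then (bif Nat.beq s 26 then [(25, 1, 1)] else [])
 else (bif Nat.blt s 31 then (bif Nat.beq s 29 then [(28, 1, 1), (32, 1, 2)] else [])
 else (bif Nat.beq s 31 then [(30, 1, 1)] else [])))
 else (bif Nat.blt s 42 then (bif Nat.blt s 38 then (bif Nat.beq s 36 then [(35, 1, 1), (43, 1, 2)] else [])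
 else (bif Nat.beq s 38 then [(37, 1, 1), (45, 1, 2)] else []))
 else (bif Nat.blt s 47 then (bif Nat.beq s 42 then [(41, 1, 1)] else [])
 else (bif Nat.beq s 47 then [(46, 1, 1)] else [])))))

def d24 (s : ℕ) : List (ℕ × ℕ × ℕ) :=
 (bif Nat.blt s 25 then (bif Nat.blt s 11 then (bif Nat.blt s 5 then (bif Nat.beq s 0 then [(1, 1, 1)] else [])
 else (bif Nat.blt s 9 then (bif Nat.beq s 5 then [(6, 1, 1)] else [])
 else (bif Nat.beq s 9 then [(10, 1, 1), (2, 1, 2)] else [])))
 else (bif Nat.blt s 18 then (bif Nat.blt s 16 then (bif Nat.beq s 11 then [(12, 1, 1), (4, 1, 2)] else [])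
 else (bif Nat.beq s 16 then [(17, 1, 1)] else []))
 else (bif Nat.blt s 21 then (bif Nat.beq s 18 then [(19, 1, 1), (15, 1, 2)] else [])
 else (bif Nat.beq s 21 then [(22, 1, 1)] else []))))
 else (bif Nat.blt s 35 then (bif Nat.blt s 28 then (bif Nat.beq s 25 then [(26, 1, 1)] else [])
 else (bif Nat.blt s 30 then (bif Nat.beq s 28 then [(29, 1, 1), (32, 1, 2)] else [])
 else (bif Nat.beq s 30 then [(31, 1, 1)] else [])))
 else (bif Nat.blt s 41 then (bif Nat.blt s 37 then (bif Nat.beq s 35 then [(36, 1, 1), (43, 1, 2)] else [])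
 else (bif Nat.beq s 37 then [(38, 1, 1), (45, 1, 2)] else []))
 else (bif Nat.blt s 46 then (bif Nat.beq s 41 then [(42, 1, 1)] else [])
 else (bif Nat.beq s 46 then [(47, 1, 1)] else [])))))

def d25 (s : ℕ) : List (ℕ × ℕ × ℕ) :=
 (bif Nat.blt s 24 then (bif Nat.blt s 12 then (bif Nat.blt s 4 then (bif Nat.beq s 1 then [(2, 1, 1)] else [])
 else (bif Nat.blt s 8 then (bif Nat.beq s 4 then [(5, 1, 1)] else [])
 else (bif Nat.beq s 8 then [(9, 1, 1), (0, 1, 2)] else [])))
 else (bif Nat.blt s 19 then (bif Nat.blt s 15 then (bif Nat.beq s 12 then [(13, 1, 1), (6, 1, 2)] else [])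
 else (bif Nat.beq s 15 then [(16, 1, 1)] else []))
 else (bif Nat.blt s 21 then (bif Nat.beq s 19 then [(20, 1, 1), (17, 1, 2)] else [])
 else (bif Nat.beq s 21 then [(23, 1, 1)] else []))))
 else (bif Nat.blt s 34 then (bif Nat.blt s 27 then (bif Nat.beq s 24 then [(26, 1, 1)] else [])
 else (bif Nat.blt s 31 then (bif Nat.beq s 27 then [(28, 1, 1), (30, 1, 2)] else [])
 else (bif Nat.beq s 31 then [(32, 1, 1)] else [])))
 else (bif Nat.blt s 42 then (bif Nat.blt s 38 then (bif Nat.beq s 34 then [(35, 1, 1), (41, 1, 2)] else [])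
 else (bif Nat.beq s 38 then [(39, 1, 1), (47, 1, 2)] else []))
 else (bif Nat.blt s 45 then (bif Nat.beq s 42 then [(43, 1, 1)] else [])
 else (bif Nat.beq s 45 then [(46, 1, 1)] else [])))))

def d26 (s : ℕ) : List (ℕ × ℕ × ℕ) :=
 (bif Nat.blt s 23 then (bif Nat.blt s 11 then (bif Nat.blt s 4 then (bif Nat.beq s 0 then [(2, 1, 1)] else [])
 else (bif Nat.blt s 8 then (bif Nat.beq s 4 then [(6, 1, 1)] else [])
 else (bif Nat.beq s 8 then [(10, 1, 1), (1, 1, 2)] else [])))
 else (bif Nat.blt s 18 then (bif Nat.blt s 15 then (bif Nat.beq s 11 then [(13, 1, 1), (5, 1, 2)] else [])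
 else (bif Nat.beq s 15 then [(17, 1, 1)] else []))
 else (bif Nat.blt s 22 then (bif Nat.beq s 18 then [(20, 1, 1), (16, 1, 2)] else [])
 else (bif Nat.beq s 22 then [(24, 1, 1)] else []))))
 else (bif Nat.blt s 34 then (bif Nat.blt s 27 then (bif Nat.beq s 23 then [(25, 1, 1)] else [])
 else (bif Nat.blt s 30 then (bif Nat.beq s 27 then [(29, 1, 1), (31, 1, 2)] else [])
 else (bif Nat.beq s 30 then [(32, 1, 1)] else [])))
 else (bif Nat.blt s 41 then (bif Nat.blt s 37 then (bif Nat.beq s 34 then [(36, 1, 1), (42, 1, 2)] else [])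
 else (bif Nat.beq s 37 then [(39, 1, 1), (46, 1, 2)] else []))
 else (bif Nat.blt s 45 then (bif Nat.beq s 41 then [(43, 1, 1)] else [])
 else (bif Nat.beq s 45 then [(47, 1, 1)] else [])))))

def d27 (s : ℕ) : List (ℕ × ℕ × ℕ) :=
 (bif Nat.blt s 25 then (bif Nat.blt s 10 then (bif Nat.blt s 7 then (bif Nat.beq s 2 then [(3, 1, 1), (4, 2, 1)] else [])
 else (bif Nat.blt s 9 then (bif Nat.beq s 7 then [(8, 1, 1)] else [])
 else (bif Nat.beq s 9 then [(11, 1, 1)] else [])))
 else (bif Nat.blt s 16 then (bif Nat.blt s 13 then (bif Nat.beq s 10 then [(12, 1, 1)] else [])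
 else (bif Nat.beq s 13 then [(14, 1, 1)] else []))
 else (bif Nat.blt s 17 then (bif Nat.beq s 16 then [(18, 1, 1), (21, 2, 1)] else [])
 else (bif Nat.beq s 17 then [(19, 1, 1), (22, 2, 1)] else []))))
 else (bif Nat.blt s 35 then (bif Nat.blt s 26 then (bif Nat.beq s 25 then [(28, 1, 1), (30, 2, 1)] else [])
 else (bif Nat.blt s 33 then (bif Nat.beq s 26 then [(29, 1, 1), (31, 2, 1)] else [])
 else (bif Nat.beq s 33 then [(34, 1, 1)] else [])))
 else (bif Nat.blt s 39 then (bif Nat.blt s 36 then (bif Nat.beq s 35 then [(37, 1, 1)] else [])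
 else (bif Nat.beq s 36 then [(38, 1, 1)] else []))
 else (bif Nat.blt s 43 then (bif Nat.beq s 39 then [(40, 1, 1)] else [])
 else (bif Nat.beq s 43 then [(44, 1, 1), (45, 2, 1)] else [])))))

def d28 (s : ℕ) : List (ℕ × ℕ × ℕ) :=
 (bif Nat.blt s 22 then (bif Nat.blt s 10 then (bif Nat.blt s 7 then (bif Nat.beq s 1 then [(3, 1, 1), (5, 2, 1)] else [])
 else (bif Nat.blt s 8 then (bif Nat.beq s 7 then [(9, 1, 1)] else [])
 else (bif Nat.beq s 8 then [(11, 1, 1)] else [])))
 else (bif Nat.blt s 15 then (bif Nat.blt s 12 then (bif Nat.beq s 10 then [(13, 1, 1)] else [])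
 else (bif Nat.beq s 12 then [(14, 1, 1)] else []))
 else (bif Nat.blt s 17 then (bif Nat.beq s 15 then [(18, 1, 1), (23, 2, 1)] else [])
 else (bif Nat.beq s 17 then [(20, 1, 1), (25, 2, 1)] else []))))
 else (bif Nat.blt s 34 then (bif Nat.blt s 24 then (bif Nat.beq s 22 then [(27, 1, 1), (30, 2, 1)] else [])
 else (bif Nat.blt s 33 then (bif Nat.beq s 24 then [(29, 1, 1), (32, 2, 1)] else [])
 else (bif Nat.beq s 33 then [(35, 1, 1)] else [])))
 else (bif Nat.blt s 38 then (bif Nat.blt s 36 then (bif Nat.beq s 34 then [(37, 1, 1)] else [])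
 else (bif Nat.beq s 36 then [(39, 1, 1)] else []))
 else (bif Nat.blt s 42 then (bif Nat.beq s 38 then [(40, 1, 1)] else [])
 else (bif Nat.beq s 42 then [(44, 1, 1), (46, 2, 1)] else [])))))

def d29 (s : ℕ) : List (ℕ × ℕ × ℕ) :=
 (bif Nat.blt s 21 then (bif Nat.blt s 9 then (bif Nat.blt s 7 then (bif Nat.beq s 0 then [(3, 1, 1), (6, 2, 1)] else [])
 else (bif Nat.blt s 8 then (bif Nat.beq s 7 then [(10, 1, 1)] else [])
 else (bif Nat.beq s 8 then [(12, 1, 1)] else [])))
 else (bif Nat.blt s 15 then (bif Nat.blt s 11 then (bif Nat.beq s 9 then [(13, 1, 1)] else [])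
 else (bif Nat.beq s 11 then [(14, 1, 1)] else []))
 else (bif Nat.blt s 16 then (bif Nat.beq s 15 then [(19, 1, 1), (24, 2, 1)] else [])
 else (bif Nat.beq s 16 then [(20, 1, 1), (26, 2, 1)] else []))))
 else (bif Nat.blt s 34 then (bif Nat.blt s 23 then (bif Nat.beq s 21 then [(27, 1, 1), (31, 2, 1)] else [])
 else (bif Nat.blt s 33 then (bif Nat.beq s 23 then [(28, 1, 1), (32, 2, 1)] else [])
 else (bif Nat.beq s 33 then [(36, 1, 1)] else [])))
 else (bif Nat.blt s 37 then (bif Nat.blt s 35 then (bif Nat.beq s 34 then [(38, 1, 1)] else [])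
 else (bif Nat.beq s 35 then [(39, 1, 1)] else []))
 else (bif Nat.blt s 41 then (bif Nat.beq s 37 then [(40, 1, 1)] else [])
 else (bif Nat.beq s 41 then [(44, 1, 1), (47, 2, 1)] else [])))))

def d30 (s : ℕ) : List (ℕ × ℕ × ℕ) :=
 (bif Nat.blt s 20 then (bif Nat.blt s 10 then (bif Nat.blt s 2 then (bif Nat.beq s 1 then [(4, 1, 1)] else [])
 else (bif Nat.blt s 7 then (bif Nat.beq s 2 then [(5, 1, 1)] else [])
 else (bif Nat.beq s 7 then [(11, 1, 1), (0, 1, 2)] else [])))
 else (bif Nat.blt s 16 then (bif Nat.blt s 15 then (bif Nat.beq s 10 then [(14, 1, 1), (6, 1, 2)] else [])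
 else (bif Nat.beq s 15 then [(21, 1, 1)] else []))
 else (bif Nat.blt s 19 then (bif Nat.beq s 16 then [(23, 1, 1)] else [])
 else (bif Nat.beq s 19 then [(27, 1, 1), (22, 1, 2)] else []))))
 else (bif Nat.blt s 33 then (bif Nat.blt s 24 then (bif Nat.beq s 20 then [(28, 1, 1), (25, 1, 2)] else [])
 else (bif Nat.blt s 26 then (bif Nat.beq s 24 then [(31, 1, 1)] else [])
 else (bif Nat.beq s 26 then [(32, 1, 1)] else [])))
 else (bif Nat.blt s 42 then (bif Nat.blt s 36 then (bif Nat.beq s 33 then [(37, 1, 1), (41, 1, 2)] else [])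
 else (bif Nat.beq s 36 then [(40, 1, 1), (47, 1, 2)] else []))
 else (bif Nat.blt s 43 then (bif Nat.beq s 42 then [(45, 1, 1)] else [])
 else (bif Nat.beq s 43 then [(46, 1, 1)] else [])))))

def d31 (s : ℕ) : List (ℕ × ℕ × ℕ) :=
 (bif Nat.blt s 20 then (bif Nat.blt s 9 then (bif Nat.blt s 2 then (bif Nat.beq s 0 then [(4, 1, 1)] else [])
 else (bif Nat.blt s 7 then (bif Nat.beq s 2 then [(6, 1, 1)] else [])
 else (bif Nat.beq s 7 then [(12, 1, 1), (1, 1, 2)] else [])))
 else (bif Nat.blt s 17 then (bif Nat.blt s 15 then (bif Nat.beq s 9 then [(14, 1, 1), (5, 1, 2)] else [])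
 else (bif Nat.beq s 15 then [(22, 1, 1)] else []))
 else (bif Nat.blt s 18 then (bif Nat.beq s 17 then [(24, 1, 1)] else [])
 else (bif Nat.beq s 18 then [(27, 1, 1), (21, 1, 2)] else []))))
 else (bif Nat.blt s 33 then (bif Nat.blt s 23 then (bif Nat.beq s 20 then [(29, 1, 1), (26, 1, 2)] else [])
 else (bif Nat.blt s 25 then (bif Nat.beq s 23 then [(30, 1, 1)] else [])
 else (bif Nat.beq s 25 then [(32, 1, 1)] else [])))
 else (bif Nat.blt s 41 then (bif Nat.blt s 35 then (bif Nat.beq s 33 then [(38, 1, 1), (42, 1, 2)] else [])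
 else (bif Nat.beq s 35 then [(40, 1, 1), (46, 1, 2)] else []))
 else (bif Nat.blt s 43 then (bif Nat.beq s 41 then [(45, 1, 1)] else [])
 else (bif Nat.beq s 43 then [(47, 1, 1)] else [])))))

def d32 (s : ℕ) : List (ℕ × ℕ × ℕ) :=
 (bif Nat.blt s 19 then (bif Nat.blt s 8 then (bif Nat.blt s 1 then (bif Nat.beq s 0 then [(5, 1, 1)] else [])
 else (bif Nat.blt s 7 then (bif Nat.beq s 1 then [(6, 1, 1)] else [])
 else (bif Nat.beq s 7 then [(13, 1, 1), (2, 1, 2)] else [])))
 else (bif Nat.blt s 17 then (bif Nat.blt s 16 then (bif Nat.beq s 8 then [(14, 1, 1), (4, 1, 2)] else [])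
 else (bif Nat.beq s 16 then [(25, 1, 1)] else []))
 else (bif Nat.blt s 18 then (bif Nat.beq s 17 then [(26, 1, 1)] else [])
 else (bif Nat.beq s 18 then [(28, 1, 1), (23, 1, 2)] else []))))
 else (bif Nat.blt s 33 then (bif Nat.blt s 21 then (bif Nat.beq s 19 then [(29, 1, 1), (24, 1, 2)] else [])
 else (bif Nat.blt s 22 then (bif Nat.beq s 21 then [(30, 1, 1)] else [])
 else (bif Nat.beq s 22 then [(31, 1, 1)] else [])))
 else (bif Nat.blt s 41 then (bif Nat.blt s 34 then (bif Nat.beq s 33 then [(39, 1, 1), (43, 1, 2)] else [])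
 else (bif Nat.beq s 34 then [(40, 1, 1), (45, 1, 2)] else []))
 else (bif Nat.blt s 42 then (bif Nat.beq s 41 then [(46, 1, 1)] else [])
 else (bif Nat.beq s 42 then [(47, 1, 1)] else [])))))

def d33 (s : ℕ) : List (ℕ × ℕ × ℕ) :=
 (bif Nat.blt s 27 then (bif Nat.blt s 6 then (bif Nat.blt s 4 then (bif Nat.beq s 3 then [(7, 1, 1)] else [])
 else (bif Nat.blt s 5 then (bif Nat.beq s 4 then [(8, 1, 1), (15, 2, 1)] else [])
 else (bif Nat.beq s 5 then [(9, 1, 1), (16, 2, 1)] else [])))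
 else (bif Nat.blt s 12 then (bif Nat.blt s 11 then (bif Nat.beq s 6 then [(10, 1, 1), (17, 2, 1)] else [])
 else (bif Nat.beq s 11 then [(18, 1, 1)] else []))
 else (bif Nat.blt s 13 then (bif Nat.beq s 12 then [(19, 1, 1)] else [])
 else (bif Nat.beq s 13 then [(20, 1, 1)] else []))))
 else (bif Nat.blt s 30 then (bif Nat.blt s 28 then (bif Nat.beq s 27 then [(34, 1, 1)] else [])
 else (bif Nat.blt s 29 then (bif Nat.beq s 28 then [(35, 1, 1)] else [])
 else (bif Nat.beq s 29 then [(36, 1, 1)] else [])))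
 else (bif Nat.blt s 32 then (bif Nat.blt s 31 then (bif Nat.beq s 30 then [(37, 1, 1), (41, 2, 1)] else [])
 else (bif Nat.beq s 31 then [(38, 1, 1), (42, 2, 1)] else []))
 else (bif Nat.blt s 40 then (bif Nat.beq s 32 then [(39, 1, 1), (43, 2, 1)] else [])
 else (bif Nat.beq s 40 then [(44, 1, 1)] else [])))))

def d34 (s : ℕ) : List (ℕ × ℕ × ℕ) :=
 (bif Nat.blt s 20 then (bif Nat.blt s 6 then (bif Nat.blt s 3 then (bif Nat.beq s 2 then [(7, 1, 1), (15, 2, 1)] else [])
 else (bif Nat.blt s 5 then (bif Nat.beq s 3 then [(8, 1, 1)] else [])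
 else (bif Nat.beq s 5 then [(11, 1, 1), (21, 2, 1)] else [])))
 else (bif Nat.blt s 10 then (bif Nat.blt s 9 then (bif Nat.beq s 6 then [(12, 1, 1), (22, 2, 1)] else [])
 else (bif Nat.beq s 9 then [(18, 1, 1)] else []))
 else (bif Nat.blt s 14 then (bif Nat.beq s 10 then [(19, 1, 1)] else [])
 else (bif Nat.beq s 14 then [(27, 1, 1)] else []))))
 else (bif Nat.blt s 28 then (bif Nat.blt s 25 then (bif Nat.beq s 20 then [(33, 1, 1)] else [])
 else (bif Nat.blt s 26 then (bif Nat.beq s 25 then [(35, 1, 1), (41, 2, 1)] else [])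
 else (bif Nat.beq s 26 then [(36, 1, 1), (42, 2, 1)] else [])))
 else (bif Nat.blt s 32 then (bif Nat.blt s 29 then (bif Nat.beq s 28 then [(37, 1, 1)] else [])
 else (bif Nat.beq s 29 then [(38, 1, 1)] else []))
 else (bif Nat.blt s 39 then (bif Nat.beq s 32 then [(40, 1, 1), (45, 2, 1)] else [])
 else (bif Nat.beq s 39 then [(44, 1, 1)] else [])))))

def d35 (s : ℕ) : List (ℕ × ℕ × ℕ) :=
 (bif Nat.blt s 19 then (bif Nat.blt s 6 then (bif Nat.blt s 3 then (bif Nat.beq s 1 then [(7, 1, 1), (16, 2, 1)] else [])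
 else (bif Nat.blt s 4 then (bif Nat.beq s 3 then [(9, 1, 1)] else [])
 else (bif Nat.beq s 4 then [(11, 1, 1), (23, 2, 1)] else [])))
 else (bif Nat.blt s 10 then (bif Nat.blt s 8 then (bif Nat.beq s 6 then [(13, 1, 1), (25, 2, 1)] else [])
 else (bif Nat.beq s 8 then [(18, 1, 1)] else []))
 else (bif Nat.blt s 14 then (bif Nat.beq s 10 then [(20, 1, 1)] else [])
 else (bif Nat.beq s 14 then [(28, 1, 1)] else []))))
 else (bif Nat.blt s 27 then (bif Nat.blt s 22 then (bif Nat.beq s 19 then [(33, 1, 1)] else [])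
 else (bif Nat.blt s 24 then (bif Nat.beq s 22 then [(34, 1, 1), (41, 2, 1)] else [])
 else (bif Nat.beq s 24 then [(36, 1, 1), (43, 2, 1)] else [])))
 else (bif Nat.blt s 31 then (bif Nat.blt s 29 then (bif Nat.beq s 27 then [(37, 1, 1)] else [])
 else (bif Nat.beq s 29 then [(39, 1, 1)] else []))
 else (bif Nat.blt s 38 then (bif Nat.beq s 31 then [(40, 1, 1), (46, 2, 1)] else [])
 else (bif Nat.beq s 38 then [(44, 1, 1)] else [])))))

def d36 (s : ℕ) : List (ℕ × ℕ × ℕ) :=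
 (bif Nat.blt s 18 then (bif Nat.blt s 5 then (bif Nat.blt s 3 then (bif Nat.beq s 0 then [(7, 1, 1), (17, 2, 1)] else [])
 else (bif Nat.blt s 4 then (bif Nat.beq s 3 then [(10, 1, 1)] else [])
 else (bif Nat.beq s 4 then [(12, 1, 1), (24, 2, 1)] else [])))
 else (bif Nat.blt s 9 then (bif Nat.blt s 8 then (bif Nat.beq s 5 then [(13, 1, 1), (26, 2, 1)] else [])
 else (bif Nat.beq s 8 then [(19, 1, 1)] else []))
 else (bif Nat.blt s 14 then (bif Nat.beq s 9 then [(20, 1, 1)] else [])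
 else (bif Nat.beq s 14 then [(29, 1, 1)] else []))))
 else (bif Nat.blt s 27 then (bif Nat.blt s 21 then (bif Nat.beq s 18 then [(33, 1, 1)] else [])
 else (bif Nat.blt s 23 then (bif Nat.beq s 21 then [(34, 1, 1), (42, 2, 1)] else [])
 else (bif Nat.beq s 23 then [(35, 1, 1), (43, 2, 1)] else [])))
 else (bif Nat.blt s 30 then (bif Nat.blt s 28 then (bif Nat.beq s 27 then [(38, 1, 1)] else [])
 else (bif Nat.beq s 28 then [(39, 1, 1)] else []))
 else (bif Nat.blt s 37 then (bif Nat.beq s 30 then [(40, 1, 1), (47, 2, 1)] else [])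
 else (bif Nat.beq s 37 then [(44, 1, 1)] else [])))))

def d37 (s : ℕ) : List (ℕ × ℕ × ℕ) :=
 (bif Nat.blt s 17 then (bif Nat.blt s 6 then (bif Nat.blt s 2 then (bif Nat.beq s 1 then [(8, 1, 1), (21, 2, 1)] else [])
 else (bif Nat.blt s 3 then (bif Nat.beq s 2 then [(9, 1, 1), (23, 2, 1)] else [])
 else (bif Nat.beq s 3 then [(11, 1, 1)] else [])))
 else (bif Nat.blt s 12 then (bif Nat.blt s 7 then (bif Nat.beq s 6 then [(14, 1, 1), (30, 2, 1)] else [])
 else (bif Nat.beq s 7 then [(18, 1, 1)] else []))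
 else (bif Nat.blt s 13 then (bif Nat.beq s 12 then [(27, 1, 1)] else [])
 else (bif Nat.beq s 13 then [(28, 1, 1)] else []))))
 else (bif Nat.blt s 24 then (bif Nat.blt s 19 then (bif Nat.beq s 17 then [(33, 1, 1), (41, 2, 1)] else [])
 else (bif Nat.blt s 20 then (bif Nat.beq s 19 then [(34, 1, 1)] else [])
 else (bif Nat.beq s 20 then [(35, 1, 1)] else [])))
 else (bif Nat.blt s 29 then (bif Nat.blt s 26 then (bif Nat.beq s 24 then [(38, 1, 1), (45, 2, 1)] else [])
 else (bif Nat.beq s 26 then [(39, 1, 1), (46, 2, 1)] else []))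
 else (bif Nat.blt s 36 then (bif Nat.beq s 29 then [(40, 1, 1)] else [])
 else (bif Nat.beq s 36 then [(44, 1, 1)] else [])))))

def d38 (s : ℕ) : List (ℕ × ℕ × ℕ) :=
 (bif Nat.blt s 16 then (bif Nat.blt s 5 then (bif Nat.blt s 2 then (bif Nat.beq s 0 then [(8, 1, 1), (22, 2, 1)] else [])
 else (bif Nat.blt s 3 then (bif Nat.beq s 2 then [(10, 1, 1), (24, 2, 1)] else [])
 else (bif Nat.beq s 3 then [(12, 1, 1)] else [])))
 else (bif Nat.blt s 11 then (bif Nat.blt s 7 then (bif Nat.beq s 5 then [(14, 1, 1), (31, 2, 1)] else [])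
 else (bif Nat.beq s 7 then [(19, 1, 1)] else []))
 else (bif Nat.blt s 13 then (bif Nat.beq s 11 then [(27, 1, 1)] else [])
 else (bif Nat.beq s 13 then [(29, 1, 1)] else []))))
 else (bif Nat.blt s 23 then (bif Nat.blt s 18 then (bif Nat.beq s 16 then [(33, 1, 1), (42, 2, 1)] else [])
 else (bif Nat.blt s 20 then (bif Nat.beq s 18 then [(34, 1, 1)] else [])
 else (bif Nat.beq s 20 then [(36, 1, 1)] else [])))
 else (bif Nat.blt s 28 then (bif Nat.blt s 25 then (bif Nat.beq s 23 then [(37, 1, 1), (45, 2, 1)] else [])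
 else (bif Nat.beq s 25 then [(39, 1, 1), (47, 2, 1)] else []))
 else (bif Nat.blt s 35 then (bif Nat.beq s 28 then [(40, 1, 1)] else [])
 else (bif Nat.beq s 35 then [(44, 1, 1)] else [])))))

def d39 (s : ℕ) : List (ℕ × ℕ × ℕ) :=
 (bif Nat.blt s 15 then (bif Nat.blt s 4 then (bif Nat.blt s 1 then (bif Nat.beq s 0 then [(9, 1, 1), (25, 2, 1)] else [])
 else (bif Nat.blt s 3 then (bif Nat.beq s 1 then [(10, 1, 1), (26, 2, 1)] else [])
 else (bif Nat.beq s 3 then [(13, 1, 1)] else [])))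
 else (bif Nat.blt s 11 then (bif Nat.blt s 7 then (bif Nat.beq s 4 then [(14, 1, 1), (32, 2, 1)] else [])
 else (bif Nat.beq s 7 then [(20, 1, 1)] else []))
 else (bif Nat.blt s 12 then (bif Nat.beq s 11 then [(28, 1, 1)] else [])
 else (bif Nat.beq s 12 then [(29, 1, 1)] else []))))
 else (bif Nat.blt s 21 then (bif Nat.blt s 18 then (bif Nat.beq s 15 then [(33, 1, 1), (43, 2, 1)] else [])
 else (bif Nat.blt s 19 then (bif Nat.beq s 18 then [(35, 1, 1)] else [])
 else (bif Nat.beq s 19 then [(36, 1, 1)] else [])))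
 else (bif Nat.blt s 27 then (bif Nat.blt s 22 then (bif Nat.beq s 21 then [(37, 1, 1), (46, 2, 1)] else [])
 else (bif Nat.beq s 22 then [(38, 1, 1), (47, 2, 1)] else []))
 else (bif Nat.blt s 34 then (bif Nat.beq s 27 then [(40, 1, 1)] else [])
 else (bif Nat.beq s 34 then [(44, 1, 1)] else [])))))

def d40 (s : ℕ) : List (ℕ × ℕ × ℕ) :=
 (bif Nat.blt s 15 then (bif Nat.blt s 3 then (bif Nat.blt s 1 then (bif Nat.beq s 0 then [(11, 1, 1), (30, 2, 1)] else [])
 else (bif Nat.blt s 2 then (bif Nat.beq s 1 then [(12, 1, 1), (31, 2, 1)] else [])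
 else (bif Nat.beq s 2 then [(13, 1, 1), (32, 2, 1)] else [])))
 else (bif Nat.blt s 9 then (bif Nat.blt s 8 then (bif Nat.beq s 3 then [(14, 1, 1)] else [])
 else (bif Nat.beq s 8 then [(27, 1, 1)] else []))
 else (bif Nat.blt s 10 then (bif Nat.beq s 9 then [(28, 1, 1)] else [])
 else (bif Nat.beq s 10 then [(29, 1, 1)] else []))))
 else (bif Nat.blt s 18 then (bif Nat.blt s 16 then (bif Nat.beq s 15 then [(34, 1, 1), (45, 2, 1)] else [])
 else (bif Nat.blt s 17 then (bif Nat.beq s 16 then [(35, 1, 1), (46, 2, 1)] else [])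
 else (bif Nat.beq s 17 then [(36, 1, 1), (47, 2, 1)] else [])))
 else (bif Nat.blt s 20 then (bif Nat.blt s 19 then (bif Nat.beq s 18 then [(37, 1, 1)] else [])
 else (bif Nat.beq s 19 then [(38, 1, 1)] else []))
 else (bif Nat.blt s 33 then (bif Nat.beq s 20 then [(39, 1, 1)] else [])
 else (bif Nat.beq s 33 then [(44, 1, 1)] else [])))))

def d41 (s : ℕ) : List (ℕ × ℕ × ℕ) :=
 (bif Nat.blt s 13 then (bif Nat.blt s 4 then (bif Nat.blt s 2 then (bif Nat.beq s 1 then [(15, 1, 1)] else [])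
 else (bif Nat.blt s 3 then (bif Nat.beq s 2 then [(16, 1, 1)] else [])
 else (bif Nat.beq s 3 then [(18, 1, 1), (0, 1, 2)] else [])))
 else (bif Nat.blt s 10 then (bif Nat.blt s 5 then (bif Nat.beq s 4 then [(21, 1, 1)] else [])
 else (bif Nat.beq s 5 then [(23, 1, 1)] else []))
 else (bif Nat.blt s 12 then (bif Nat.beq s 10 then [(33, 1, 1), (17, 1, 2)] else [])
 else (bif Nat.beq s 12 then [(34, 1, 1), (22, 1, 2)] else []))))
 else (bif Nat.blt s 26 then (bif Nat.blt s 14 then (bif Nat.beq s 13 then [(35, 1, 1), (25, 1, 2)] else [])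
 else (bif Nat.blt s 24 then (bif Nat.beq s 14 then [(37, 1, 1), (30, 1, 2)] else [])
 else (bif Nat.beq s 24 then [(42, 1, 1)] else [])))
 else (bif Nat.blt s 31 then (bif Nat.blt s 29 then (bif Nat.beq s 26 then [(43, 1, 1)] else [])
 else (bif Nat.beq s 29 then [(44, 1, 1), (47, 1, 2)] else []))
 else (bif Nat.blt s 32 then (bif Nat.beq s 31 then [(45, 1, 1)] else [])
 else (bif Nat.beq s 32 then [(46, 1, 1)] else [])))))

def d42 (s : ℕ) : List (ℕ × ℕ × ℕ) :=
 (bif Nat.blt s 13 then (bif Nat.blt s 4 then (bif Nat.blt s 2 then (bif Nat.beq s 0 then [(15, 1, 1)] else [])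
 else (bif Nat.blt s 3 then (bif Nat.beq s 2 then [(17, 1, 1)] else [])
 else (bif Nat.beq s 3 then [(19, 1, 1), (1, 1, 2)] else [])))
 else (bif Nat.blt s 9 then (bif Nat.blt s 6 then (bif Nat.beq s 4 then [(22, 1, 1)] else [])
 else (bif Nat.beq s 6 then [(24, 1, 1)] else []))
 else (bif Nat.blt s 11 then (bif Nat.beq s 9 then [(33, 1, 1), (16, 1, 2)] else [])
 else (bif Nat.beq s 11 then [(34, 1, 1), (21, 1, 2)] else []))))
 else (bif Nat.blt s 25 then (bif Nat.blt s 14 then (bif Nat.beq s 13 then [(36, 1, 1), (26, 1, 2)] else [])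
 else (bif Nat.blt s 23 then (bif Nat.beq s 14 then [(38, 1, 1), (31, 1, 2)] else [])
 else (bif Nat.beq s 23 then [(41, 1, 1)] else [])))
 else (bif Nat.blt s 30 then (bif Nat.blt s 28 then (bif Nat.beq s 25 then [(43, 1, 1)] else [])
 else (bif Nat.beq s 28 then [(44, 1, 1), (46, 1, 2)] else []))
 else (bif Nat.blt s 32 then (bif Nat.beq s 30 then [(45, 1, 1)] else [])
 else (bif Nat.beq s 32 then [(47, 1, 1)] else [])))))

def d43 (s : ℕ) : List (ℕ × ℕ × ℕ) :=
 (bif Nat.blt s 12 then (bif Nat.blt s 5 then (bif Nat.blt s 1 then (bif Nat.beq s 0 then [(16, 1, 1)] else [])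
 else (bif Nat.blt s 3 then (bif Nat.beq s 1 then [(17, 1, 1)] else [])
 else (bif Nat.beq s 3 then [(20, 1, 1), (2, 1, 2)] else [])))
 else (bif Nat.blt s 8 then (bif Nat.blt s 6 then (bif Nat.beq s 5 then [(25, 1, 1)] else [])
 else (bif Nat.beq s 6 then [(26, 1, 1)] else []))
 else (bif Nat.blt s 11 then (bif Nat.beq s 8 then [(33, 1, 1), (15, 1, 2)] else [])
 else (bif Nat.beq s 11 then [(35, 1, 1), (23, 1, 2)] else []))))
 else (bif Nat.blt s 22 then (bif Nat.blt s 14 then (bif Nat.beq s 12 then [(36, 1, 1), (24, 1, 2)] else [])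
 else (bif Nat.blt s 21 then (bif Nat.beq s 14 then [(39, 1, 1), (32, 1, 2)] else [])
 else (bif Nat.beq s 21 then [(41, 1, 1)] else [])))
 else (bif Nat.blt s 30 then (bif Nat.blt s 27 then (bif Nat.beq s 22 then [(42, 1, 1)] else [])
 else (bif Nat.beq s 27 then [(44, 1, 1), (45, 1, 2)] else []))
 else (bif Nat.blt s 31 then (bif Nat.beq s 30 then [(46, 1, 1)] else [])
 else (bif Nat.beq s 31 then [(47, 1, 1)] else [])))))

def d44 (s : ℕ) : List (ℕ × ℕ × ℕ) :=
 (bif Nat.blt s 8 then (bif Nat.blt s 4 then (bif Nat.blt s 1 then (bif Nat.beq s 0 then [(18, 1, 1), (41, 2, 1)] else [])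
 else (bif Nat.blt s 2 then (bif Nat.beq s 1 then [(19, 1, 1), (42, 2, 1)] else [])
 else (bif Nat.beq s 2 then [(20, 1, 1), (43, 2, 1)] else [])))
 else (bif Nat.blt s 6 then (bif Nat.blt s 5 then (bif Nat.beq s 4 then [(27, 1, 1), (45, 2, 1)] else [])
 else (bif Nat.beq s 5 then [(28, 1, 1), (46, 2, 1)] else []))
 else (bif Nat.blt s 7 then (bif Nat.beq s 6 then [(29, 1, 1), (47, 2, 1)] else [])
 else (bif Nat.beq s 7 then [(33, 1, 1)] else []))))
 else (bif Nat.blt s 11 then (bif Nat.blt s 9 then (bif Nat.beq s 8 then [(34, 1, 1)] else [])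
 else (bif Nat.blt s 10 then (bif Nat.beq s 9 then [(35, 1, 1)] else [])
 else (bif Nat.beq s 10 then [(36, 1, 1)] else [])))
 else (bif Nat.blt s 13 then (bif Nat.blt s 12 then (bif Nat.beq s 11 then [(37, 1, 1)] else [])
 else (bif Nat.beq s 12 then [(38, 1, 1)] else []))
 else (bif Nat.blt s 14 then (bif Nat.beq s 13 then [(39, 1, 1)] else [])
 else (bif Nat.beq s 14 then [(40, 1, 1)] else [])))))

def d45 (s : ℕ) : List (ℕ × ℕ × ℕ) :=
 (bif Nat.blt s 10 then (bif Nat.blt s 5 then (bif Nat.blt s 1 then (bif Nat.beq s 0 then [(21, 1, 1)] else [])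
 else (bif Nat.blt s 3 then (bif Nat.beq s 1 then [(22, 1, 1)] else [])
 else (bif Nat.beq s 3 then [(27, 1, 1), (4, 1, 2)] else [])))
 else (bif Nat.blt s 7 then (bif Nat.blt s 6 then (bif Nat.beq s 5 then [(30, 1, 1)] else [])
 else (bif Nat.beq s 6 then [(31, 1, 1)] else []))
 else (bif Nat.blt s 9 then (bif Nat.beq s 7 then [(34, 1, 1), (15, 1, 2)] else [])
 else (bif Nat.beq s 9 then [(37, 1, 1), (23, 1, 2)] else []))))
 else (bif Nat.blt s 17 then (bif Nat.blt s 13 then (bif Nat.beq s 10 then [(38, 1, 1), (24, 1, 2)] else [])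
 else (bif Nat.blt s 16 then (bif Nat.beq s 13 then [(40, 1, 1), (32, 1, 2)] else [])
 else (bif Nat.beq s 16 then [(41, 1, 1)] else [])))
 else (bif Nat.blt s 25 then (bif Nat.blt s 20 then (bif Nat.beq s 17 then [(42, 1, 1)] else [])
 else (bif Nat.beq s 20 then [(44, 1, 1), (43, 1, 2)] else []))
 else (bif Nat.blt s 26 then (bif Nat.beq s 25 then [(46, 1, 1)] else [])
 else (bif Nat.beq s 26 then [(47, 1, 1)] else [])))))

def d46 (s : ℕ) : List (ℕ × ℕ × ℕ) :=
 (bif Nat.blt s 10 then (bif Nat.blt s 4 then (bif Nat.blt s 2 then (bif Nat.beq s 0 then [(23, 1, 1)] else [])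
 else (bif Nat.blt s 3 then (bif Nat.beq s 2 then [(25, 1, 1)] else [])
 else (bif Nat.beq s 3 then [(28, 1, 1), (5, 1, 2)] else [])))
 else (bif Nat.blt s 7 then (bif Nat.blt s 6 then (bif Nat.beq s 4 then [(30, 1, 1)] else [])
 else (bif Nat.beq s 6 then [(32, 1, 1)] else []))
 else (bif Nat.blt s 8 then (bif Nat.beq s 7 then [(35, 1, 1), (16, 1, 2)] else [])
 else (bif Nat.beq s 8 then [(37, 1, 1), (21, 1, 2)] else []))))
 else (bif Nat.blt s 17 then (bif Nat.blt s 12 then (bif Nat.beq s 10 then [(39, 1, 1), (26, 1, 2)] else [])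
 else (bif Nat.blt s 15 then (bif Nat.beq s 12 then [(40, 1, 1), (31, 1, 2)] else [])
 else (bif Nat.beq s 15 then [(41, 1, 1)] else [])))
 else (bif Nat.blt s 22 then (bif Nat.blt s 19 then (bif Nat.beq s 17 then [(43, 1, 1)] else [])
 else (bif Nat.beq s 19 then [(44, 1, 1), (42, 1, 2)] else []))
 else (bif Nat.blt s 24 then (bif Nat.beq s 22 then [(45, 1, 1)] else [])
 else (bif Nat.beq s 24 then [(47, 1, 1)] else [])))))

def d47 (s : ℕ) : List (ℕ × ℕ × ℕ) :=
 (bif Nat.blt s 9 then (bif Nat.blt s 4 then (bif Nat.blt s 2 then (bif Nat.beq s 1 then [(24, 1, 1)] else [])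
 else (bif Nat.blt s 3 then (bif Nat.beq s 2 then [(26, 1, 1)] else [])
 else (bif Nat.beq s 3 then [(29, 1, 1), (6, 1, 2)] else [])))
 else (bif Nat.blt s 7 then (bif Nat.blt s 5 then (bif Nat.beq s 4 then [(31, 1, 1)] else [])
 else (bif Nat.beq s 5 then [(32, 1, 1)] else []))
 else (bif Nat.blt s 8 then (bif Nat.beq s 7 then [(36, 1, 1), (17, 1, 2)] else [])
 else (bif Nat.beq s 8 then [(38, 1, 1), (22, 1, 2)] else []))))
 else (bif Nat.blt s 16 then (bif Nat.blt s 11 then (bif Nat.beq s 9 then [(39, 1, 1), (25, 1, 2)] else [])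
 else (bif Nat.blt s 15 then (bif Nat.beq s 11 then [(40, 1, 1), (30, 1, 2)] else [])
 else (bif Nat.beq s 15 then [(42, 1, 1)] else [])))
 else (bif Nat.blt s 21 then (bif Nat.blt s 18 then (bif Nat.beq s 16 then [(43, 1, 1)] else [])
 else (bif Nat.beq s 18 then [(44, 1, 1), (41, 1, 2)] else []))
 else (bif Nat.blt s 23 then (bif Nat.beq s 21 then [(45, 1, 1)] else [])
 else (bif Nat.beq s 23 then [(46, 1, 1)] else [])))))

/-- The table. -/
def D (r s : ℕ) : List (ℕ × ℕ × ℕ) :=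
 (bif Nat.blt r 24 then (bif Nat.blt r 12 then (bif Nat.blt r 6 then (bif Nat.blt r 3 then (bif Nat.blt r 1 then (bif Nat.beq r 0 then d0 s else [])
 else (bif Nat.blt r 2 then (bif Nat.beq r 1 then d1 s else [])
 else (bif Nat.beq r 2 then d2 s else [])))
 else (bif Nat.blt r 4 then (bif Nat.beq r 3 then d3 s else [])
 else (bif Nat.blt r 5 then (bif Nat.beq r 4 then d4 s else [])
 else (bif Nat.beq r 5 then d5 s else []))))
 else (bif Nat.blt r 9 then (bif Nat.blt r 7 then (bif Nat.beq r 6 then d6 s else [])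
 else (bif Nat.blt r 8 then (bif Nat.beq r 7 then d7 s else [])
 else (bif Nat.beq r 8 then d8 s else [])))
 else (bif Nat.blt r 10 then (bif Nat.beq r 9 then d9 s else [])
 else (bif Nat.blt r 11 then (bif Nat.beq r 10 then d10 s else [])
 else (bif Nat.beq r 11 then d11 s else [])))))
 else (bif Nat.blt r 18 then (bif Nat.blt r 15 then (bif Nat.blt r 13 then (bif Nat.beq r 12 then d12 s else [])
 else (bif Nat.blt r 14 then (bif Nat.beq r 13 then d13 s else [])
 else (bif Nat.beq r 14 then d14 s else [])))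
 else (bif Nat.blt r 16 then (bif Nat.beq r 15 then d15 s else [])
 else (bif Nat.blt r 17 then (bif Nat.beq r 16 then d16 s else [])
 else (bif Nat.beq r 17 then d17 s else []))))
 else (bif Nat.blt r 21 then (bif Nat.blt r 19 then (bif Nat.beq r 18 then d18 s else [])
 else (bif Nat.blt r 20 then (bif Nat.beq r 19 then d19 s else [])
 else (bif Nat.beq r 20 then d20 s else [])))
 else (bif Nat.blt r 22 then (bif Nat.beq r 21 then d21 s else [])
 else (bif Nat.blt r 23 then (bif Nat.beq r 22 then d22 s else [])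
 else (bif Nat.beq r 23 then d23 s else []))))))
 else (bif Nat.blt r 36 then (bif Nat.blt r 30 then (bif Nat.blt r 27 then (bif Nat.blt r 25 then (bif Nat.beq r 24 then d24 s else [])
 else (bif Nat.blt r 26 then (bif Nat.beq r 25 then d25 s else [])
 else (bif Nat.beq r 26 then d26 s else [])))
 else (bif Nat.blt r 28 then (bif Nat.beq r 27 then d27 s else [])
 else (bif Nat.blt r 29 then (bif Nat.beq r 28 then d28 s else [])
 else (bif Nat.beq r 29 then d29 s else []))))
 else (bif Nat.blt r 33 then (bif Nat.blt r 31 then (bif Nat.beq r 30 then d30 s else [])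
 else (bif Nat.blt r 32 then (bif Nat.beq r 31 then d31 s else [])
 else (bif Nat.beq r 32 then d32 s else [])))
 else (bif Nat.blt r 34 then (bif Nat.beq r 33 then d33 s else [])
 else (bif Nat.blt r 35 then (bif Nat.beq r 34 then d34 s else [])
 else (bif Nat.beq r 35 then d35 s else [])))))
 else (bif Nat.blt r 42 then (bif Nat.blt r 39 then (bif Nat.blt r 37 then (bif Nat.beq r 36 then d36 s else [])
 else (bif Nat.blt r 38 then (bif Nat.beq r 37 then d37 s else [])
 else (bif Nat.beq r 38 then d38 s else [])))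
 else (bif Nat.blt r 40 then (bif Nat.beq r 39 then d39 s else [])
 else (bif Nat.blt r 41 then (bif Nat.beq r 40 then d40 s else [])
 else (bif Nat.beq r 41 then d41 s else []))))
 else (bif Nat.blt r 45 then (bif Nat.blt r 43 then (bif Nat.beq r 42 then d42 s else [])
 else (bif Nat.blt r 44 then (bif Nat.beq r 43 then d43 s else [])
 else (bif Nat.beq r 44 then d44 s else [])))
 else (bif Nat.blt r 46 then (bif Nat.beq r 45 then d45 s else [])
 else (bif Nat.blt r 47 then (bif Nat.beq r 46 then d46 s else [])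
 else (bif Nat.beq r 47 then d47 s else [])))))))

def chkD : Bool := Chevalley.allLt (fun r => Chevalley.allLt (fun s =>
  Nat.beq s r || Nat.beq s (Chevalley.Data.F4.tbl.neg r) ||
    decide (((Chevalley.Data.F4.tbl.commT r s).filter fun c => decide (c.2.1 % 2 ≠ 0)).map
      (fun c => (c.1, c.2.2.1, c.2.2.2)) = D r s)) Chevalley.Data.F4.tbl.n) Chevalley.Data.F4.tbl.n

theorem chkD_true : chkD = true := by decide +kernel

theorem odd2 : Odd2 Chevalley.Data.F4.tbl D := by
  intro r hr s hs hne hneg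
  have h := Chevalley.allLt_iff.mp (Chevalley.allLt_iff.mp chkD_true r hr) s hs
  simp only [Bool.or_eq_true, decide_eq_true_eq] at h
  rcases h with (h | h) | h
  · exact absurd (Nat.eq_of_beq_eq_true h) hne
  · exact absurd (Nat.eq_of_beq_eq_true h) hneg
  · exact h

end CfsgLib.InvClasses.F4
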